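import Cfsg.Agent.Lib.Presentations.Alt

/-!
Carmichael's bound in an arbitrary group and recognition of finitely presented groups by their order.
-/

set_option autoImplicit false

open Subgroup

namespace CfsgLib.Presentations

variable {G : Type*} [Group G]

theorem inv_eq_sq {g : G} (hg : g ^ 3 = 1) : g⁻¹ = g ^ 2 :=
  inv_eq_of_mul_eq_one_right (by rw [← pow_succ', hg])

theorem sq_swap {a b : G} (h : (a * b) ^ 2 = 1) : (b * a) ^ 2 = 1 := by
  calc (b * a) ^ 2 = b * (a * b) ^ 2 * b⁻¹ := by rw [sq, sq]; group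
    _ = 1 := by rw [h]; group

/-- One step of the coset count. -/
theorem closure_step (s : Finset G) (y : G) (hy : y ^ 3 = 1)
    (h3 : ∀ x ∈ s, x ^ 3 = 1) (hxy : ∀ x ∈ s, (x * y) ^ 2 = 1)
    (hxx : ∀ x ∈ s, ∀ x' ∈ s, x ≠ x' → (x * x') ^ 2 = 1) (hfin : Finite (closure (s : Set G))) :
    Finite (closure (insert y (s : Set G))) ∧
      Nat.card (closure (insert y (s : Set G))) ≤ (s.card + 3) * Nat.card (closure (s : Set G)) := by
  classical
  set H := closure (s : Set G) with hH
  let R : Finset G := {1, y, y ^ 2} ∪ s.image fun x => y ^ 2 * x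
  let S : Set G := {g | ∃ h ∈ H, ∃ r ∈ R, g = h * r}
  have hR : ∀ {h r : G}, h ∈ H → r ∈ R → h * r ∈ S := fun hh hr => ⟨_, hh, _, hr, rfl⟩
  have rW : ∀ {x : G}, x ∈ s → y ^ 2 * x ∈ R := fun hx =>
    Finset.mem_union_right _ (Finset.mem_image.2 ⟨_, hx, rfl⟩)
  have r0 : (1 : G) ∈ R := by simp [R]
  have r1 : y ∈ R := by simp [R]
  have r2 : y ^ 2 ∈ R := by simp [R]
  have flip : ∀ {a b : G}, a ^ 3 = 1 → b ^ 3 = 1 → (a * b) ^ 2 = 1 → a * b = b ^ 2 * a ^ 2 := by
    intro a b ha hb hab
    rw [← inv_eq_sq ha, ← inv_eq_sq hb, ← mul_inv_rev]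
    exact (inv_eq_of_mul_eq_one_right (by rw [← sq, hab])).symm
  have hclosed : ∀ g ∈ S, ∀ t ∈ insert y (s : Set G), g * t ∈ S := by
    rintro _ ⟨h, hh, r, hr, rfl⟩ t ht
    rw [mul_assoc]
    simp only [R, Finset.mem_union, Finset.mem_insert, Finset.mem_singleton, Finset.mem_image] at hr
    rcases Set.mem_insert_iff.1 ht with e | ht
    · rw [e]
      rcases hr with (rfl | rfl | rfl) | ⟨x, hx, rfl⟩
      · rw [one_mul]; exact hR hh r1
      · rw [← sq]; exact hR hh r2
      · rw [← pow_succ, hy]; exact hR hh r0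
      · have e1 : y ^ 2 * x * y = y * x ^ 2 := by
          rw [mul_assoc, flip (h3 x hx) hy (hxy x hx), ← mul_assoc, ← pow_add,
            show 2 + 2 = 3 + 1 from rfl, pow_add, hy, one_mul, pow_one]
        have e2 : y * x ^ 2 = x ^ 2 * (y ^ 2 * x) := by
          rw [sq x, ← mul_assoc, flip hy (h3 x hx) (sq_swap (hxy x hx)), mul_assoc, sq x]
        rw [e1, e2, ← mul_assoc]
        exact hR (mul_mem hh (pow_mem (subset_closure hx) 2)) (rW hx)
    · have hx : t ∈ s := ht
      rcases hr with (rfl | rfl | rfl) | ⟨x, hx', rfl⟩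
      · rw [one_mul]
        simpa using hR (mul_mem hh (subset_closure hx)) r0
      · rw [flip hy (h3 t hx) (sq_swap (hxy t hx)), ← mul_assoc]
        exact hR (mul_mem hh (pow_mem (subset_closure hx) 2)) r2
      · exact hR hh (rW hx)
      · rcases eq_or_ne x t with rfl | hne
        · have e : y ^ 2 * x * x = x * y := by
            rw [mul_assoc, ← sq, ← flip (h3 x hx) hy (hxy x hx)]
          rw [e, ← mul_assoc]
          exact hR (mul_mem hh (subset_closure hx)) r1
        · have e1 : y ^ 2 * x * t = t * (y * x ^ 2) := by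
            rw [mul_assoc, flip (h3 x hx') (h3 t hx) (hxx x hx' t hx hne), ← mul_assoc,
              ← flip (h3 t hx) hy (hxy t hx), mul_assoc]
          have e2 : y * x ^ 2 = x ^ 2 * (y ^ 2 * x) := by
            rw [sq x, ← mul_assoc, flip hy (h3 x hx') (sq_swap (hxy x hx')), mul_assoc, sq x]
          rw [e1, e2, ← mul_assoc, ← mul_assoc]
          exact hR (mul_mem (mul_mem hh (subset_closure hx)) (pow_mem (subset_closure hx') 2)) (rW hx')
  have hsub : (closure (insert y (s : Set G)) : Set G) ⊆ S := by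
    intro g hg
    induction hg using closure_induction_right with
    | one => simpa using hR (one_mem H) r0
    | mul_right a _ b hb ih => exact hclosed a ih b hb
    | mul_inv_cancel a _ b hb ih =>
      have hb3 : b ^ 3 = 1 := by
        rcases Set.mem_insert_iff.1 hb with rfl | hb'
        · exact hy
        · exact h3 b hb'
      rw [inv_eq_sq hb3, sq, ← mul_assoc]
      exact hclosed _ (hclosed a ih b hb) b hb
  choose f hf r hr he using fun g : closure (insert y (s : Set G)) => hsub g.2
  have hinj : Function.Injective fun g : closure (insert y (s : Set G)) =>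
      ((⟨f g, hf g⟩ : ↥H), (⟨r g, hr g⟩ : ↥R)) := fun a b hab => by
    simp only [Prod.mk.injEq, Subtype.mk.injEq] at hab
    exact Subtype.ext (by rw [he a, he b, hab.1, hab.2])
  refine ⟨Finite.of_injective _ hinj, (Nat.card_le_card_of_injective _ hinj).trans ?_⟩
  rw [Nat.card_prod, mul_comm, Nat.card_eq_fintype_card, Fintype.card_coe]
  refine Nat.mul_le_mul_right _ ((Finset.card_union_le _ _).trans ?_)
  have := Finset.card_le_three (a := (1 : G)) (b := y) (c := y ^ 2)
  have := Finset.card_image_le (s := s) (f := fun x => y ^ 2 * x)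
  omega

/-- Generators with Carmichael's relations generate a finite group of order at most `(m + 2)! / 2`. -/
theorem closure_bound (s : Finset G) : s.Nonempty → (∀ x ∈ s, x ^ 3 = 1) →
    (∀ x ∈ s, ∀ x' ∈ s, x ≠ x' → (x * x') ^ 2 = 1) →
    Finite (closure (s : Set G)) ∧ 2 * Nat.card (closure (s : Set G)) ≤ (s.card + 2).factorial := by
  classical
  induction s using Finset.induction with
  | empty => intro h; exact absurd h (by simp)
  | insert y s hys ih =>
    intro _ h3 h2
    have h3' : ∀ x ∈ s, x ^ 3 = 1 := fun x hx => h3 x (Finset.mem_insert_of_mem hx)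
    have h2' : ∀ x ∈ s, ∀ x' ∈ s, x ≠ x' → (x * x') ^ 2 = 1 :=
      fun x hx x' hx' => h2 x (Finset.mem_insert_of_mem hx) x' (Finset.mem_insert_of_mem hx')
    have hxy : ∀ x ∈ s, (x * y) ^ 2 = 1 := fun x hx =>
      h2 x (Finset.mem_insert_of_mem hx) y (Finset.mem_insert_self y s) fun e => hys (e ▸ hx)
    rw [Finset.coe_insert, Finset.card_insert_of_notMem hys]
    rcases s.eq_empty_or_nonempty with rfl | hne
    · have hfin : Finite (closure ((∅ : Finset G) : Set G)) := by
        rw [Finset.coe_empty, Subgroup.closure_empty]; infer_instance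
      obtain ⟨h, hle⟩ := closure_step ∅ y (h3 y (Finset.mem_insert_self _ _)) h3' hxy h2' hfin
      refine ⟨h, ?_⟩
      rw [Finset.card_empty, Finset.coe_empty, Subgroup.closure_empty, Subgroup.card_bot] at hle
      simp only [Finset.card_empty, Finset.coe_empty] at *
      have : (0 + 1 + 2).factorial = 6 := rfl
      omega
    · obtain ⟨hfin, hle0⟩ := ih hne h3' h2'
      obtain ⟨h, hle⟩ := closure_step s y (h3 y (Finset.mem_insert_self _ _)) h3' hxy h2' hfin
      refine ⟨h, (Nat.mul_le_mul_left 2 hle).trans ?_⟩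
      calc 2 * ((s.card + 3) * Nat.card (closure (s : Set G)))
          = (s.card + 3) * (2 * Nat.card (closure (s : Set G))) := by ring
        _ ≤ (s.card + 3) * (s.card + 2).factorial := Nat.mul_le_mul_left _ hle0
        _ = (s.card + 1 + 2).factorial := (Nat.factorial_succ (s.card + 2)).symm

/-- A subgroup with a transversal `{1, w}` that is stable under the generators covers the group by two cosets. -/
theorem mem_or_mem {X : Set G} (hX : closure X = ⊤) (N : Subgroup G) (w : G)
    (hw2 : w * w ∈ N) (hXN : ∀ g ∈ X, g ∈ N ∨ g * w⁻¹ ∈ N) (hnorm : ∀ n ∈ N, w * n * w⁻¹ ∈ N) :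
    ∀ g : G, g ∈ N ∨ g * w⁻¹ ∈ N := by
  have hnorm' : ∀ n ∈ N, w⁻¹ * n * w ∈ N := fun n hn => by
    have := mul_mem (mul_mem (inv_mem hw2) (hnorm n hn)) hw2
    simpa [mul_assoc] using this
  intro g
  have hg : g ∈ closure X := by rw [hX]; exact mem_top g
  induction hg using closure_induction with
  | mem g hg => exact hXN g hg
  | one => exact Or.inl (one_mem N)
  | mul a b _ _ ha hb =>
    rcases ha with ha | ha <;> rcases hb with hb | hb
    · exact Or.inl (mul_mem ha hb)
    · right; rw [mul_assoc]; exact mul_mem ha hb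
    · right
      have := mul_mem ha (hnorm b hb)
      simpa [mul_assoc] using this
    · left
      have := mul_mem (mul_mem ha (hnorm _ hb)) hw2
      simpa [mul_assoc] using this
  | inv a _ ha =>
    rcases ha with ha | ha
    · exact Or.inl (inv_mem ha)
    · right
      have := mul_mem (hnorm' _ (inv_mem ha)) (inv_mem hw2)
      simpa [mul_assoc] using this

/-- Recognition of a presented group: the map to the target is injective. -/
theorem exists_equiv {ι : Type*} (rels : Set (FreeGroup ι)) {T : Type*} [Group T] (t : ι → T)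
    (hrel : ∀ r ∈ rels, FreeGroup.lift t r = 1) (hgen : closure (Set.range t) = ⊤)
    (hinj : ∀ g, PresentedGroup.toGroup hrel g = 1 → g = 1) :
    ∃ e : PresentedGroup rels ≃* T, ∀ i, e (PresentedGroup.of i) = t i := by
  let π := PresentedGroup.toGroup hrel
  have hsurj : Function.Surjective π := by
    rw [← MonoidHom.range_eq_top, eq_top_iff, ← hgen, closure_le]
    rintro _ ⟨i, rfl⟩
    exact ⟨PresentedGroup.of i, PresentedGroup.toGroup.of hrel⟩
  exact ⟨MulEquiv.ofBijective π ⟨(injective_iff_map_eq_one π).2 hinj, hsurj⟩, fun i => PresentedGroup.toGroup.of hrel⟩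

end CfsgLib.Presentations
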