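import Cfsg.Agent.Lib.Presentations.Base

/-!
Two copies of an alternating group glued by one centraliser, one commutator and one word for the connecting
element: the group maps injectively to the alternating or symmetric group on the union.
-/

set_option autoImplicit false
set_option linter.unusedSectionVars false

open Subgroup Equiv

namespace CfsgLib.Presentations

variable {G : Type*} [Group G]

/-- An element of odd order whose commutators with another lie in a central group of order two commutes with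
it. -/
theorem commute_of_odd {g y c : G} {l : ℕ} (hl : Odd l) (hy : y ^ l = 1) (hc : c ^ 2 = 1) (hcy : Commute y c)
    (h : g * y * g⁻¹ * y⁻¹ ∈ zpowers c) : Commute g y := by
  obtain ⟨m, hm⟩ := mem_zpowers_iff.1 h
  have e : g * y * g⁻¹ = c ^ m * y := by rw [hm]; group
  have h1 : (c ^ m) ^ l = 1 := by
    have h' : (g * y * g⁻¹) ^ l = (c ^ m * y) ^ l := by rw [e]
    rw [conj_pow, hy, mul_one, mul_inv_cancel, (hcy.symm.zpow_left m).mul_pow, hy, mul_one] at h'
    exact h'.symm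
  have h2 : (c ^ m) ^ 2 = 1 := by
    rw [← zpow_natCast, ← zpow_mul, mul_comm, zpow_mul, zpow_natCast, hc, one_zpow]
  obtain ⟨t, rfl⟩ := hl
  rw [pow_succ, pow_mul, h2, one_pow, one_mul] at h1
  rw [h1, one_mul] at e
  exact mul_inv_eq_iff_eq_mul.1 e

variable {α : Type*} [Fintype α] [DecidableEq α] (π : G →* Perm α)

/-- The data of the gluing. -/
structure GlueData (H : Subgroup G) (c w : G) (Ω₁ : Finset α) : Prop where
  c_mem : c ∈ H
  c_map : π c = 1
  c_sq : c ^ 2 = 1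
  c_comm : ∀ h ∈ H, Commute h c
  ker : ∀ h ∈ H, π h = 1 → h ∈ zpowers c
  img : ∀ h ∈ H, π h ∈ altOn Ω₁
  onto : altOn Ω₁ ≤ H.map π
  gen : closure (insert w (H : Set G)) = ⊤

variable {π} {H : Subgroup G} {c w : G} {Ω₁ : Finset α}

/-- The second copy. -/
def copyTwo (H : Subgroup G) (w : G) : Subgroup G := H.map (MulAut.conj w).toMonoidHom

theorem mem_copyTwo {g : G} : g ∈ copyTwo H w ↔ ∃ h ∈ H, w * h * w⁻¹ = g := Iff.rfl

theorem conj_mem_copyTwo {h : G} (hh : h ∈ H) : w * h * w⁻¹ ∈ copyTwo H w := ⟨h, hh, rfl⟩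

theorem GlueData.congr_left (hd : GlueData π H c w Ω₁) {g h : G} (hg : g ∈ H) (hh : h ∈ H) (he : π g = π h) :
    ∃ z ∈ zpowers c, g = z * h :=
  ⟨g * h⁻¹, hd.ker _ (mul_mem hg (inv_mem hh)) (by rw [map_mul, map_inv, he, mul_inv_cancel]),
    (inv_mul_cancel_right g h).symm⟩

/-- The elements of the first copy commuting with `u` modulo the centre, and their conjugates, commute with
`u`. -/
theorem GlueData.commute_gen (hd : GlueData π H c w Ω₁) {u : G} {l : ℕ} (hl : Odd l) (hu : u ∈ H)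
    (hul : u ^ l = 1) (huw : Commute w u) {X : G}
    (hX : X ∈ closure ({h : G | h ∈ H ∧ Commute (π h) (π u)} ∪
      (fun h => w * h * w⁻¹) '' {h : G | h ∈ H ∧ Commute (π h) (π u)})) : Commute X u := by
  have key : ∀ h ∈ H, Commute (π h) (π u) → Commute h u := fun h hh hcomm =>
    commute_of_odd hl hul hd.c_sq (hd.c_comm u hu) (hd.ker _
      (mul_mem (mul_mem (mul_mem hh hu) (inv_mem hh)) (inv_mem hu))
      (by rw [map_mul, map_mul, map_mul, map_inv, map_inv, hcomm.eq, mul_inv_cancel_right, mul_inv_cancel]))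
  induction hX using closure_induction with
  | mem g hg =>
    rcases hg with ⟨hg, hc⟩ | ⟨h, ⟨hh, hc⟩, rfl⟩
    · exact key g hg hc
    · exact (huw.mul_left (key h hh hc)).mul_left huw.inv_left
  | one => exact Commute.one_left u
  | mul a b _ _ ha hb => exact ha.mul_left hb
  | inv a _ ha => exact ha.inv_left

/-- The centre of the first copy is central once the overlap contains a double transposition. -/
theorem GlueData.central (hd : GlueData π H c w Ω₁) {u v : G} (hu : u ∈ H) (hv : v ∈ H)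
    (hu' : w * u * w⁻¹ ∈ H) (hv' : w * v * w⁻¹ ∈ H) {d : Perm α} (hdmem : d ∈ closure ({π u, π v} : Set (Perm α)))
    (hdw : π w * d * (π w)⁻¹ = d) (hsq : ∀ h ∈ H, π h = d → h ^ 2 = c) : ∀ g : G, Commute g c := by
  rw [← Set.image_pair π, ← MonoidHom.map_closure] at hdmem
  obtain ⟨d₀, hd₀, rfl⟩ := hdmem
  have h1 : d₀ ∈ H ∧ w * d₀ * w⁻¹ ∈ H := by
    have hle : closure ({u, v} : Set G) ≤ H ⊓ H.comap (MulAut.conj w).toMonoidHom := by
      rw [closure_le]
      rintro g (rfl | rfl)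
      · exact ⟨hu, hu'⟩
      · exact ⟨hv, hv'⟩
    exact hle hd₀
  have hwc : Commute w c := by
    have h2 := hsq _ h1.2 (by rw [map_mul, map_mul, map_inv, hdw])
    rw [conj_pow, hsq _ h1.1 rfl] at h2
    exact mul_inv_eq_iff_eq_mul.1 h2
  intro g
  have hg : g ∈ closure (insert w (H : Set G)) := by rw [hd.gen]; exact mem_top g
  induction hg using closure_induction with
  | mem g hg =>
    rcases hg with rfl | hg
    · exact hwc
    · exact hd.c_comm g hg
  | one => exact Commute.one_left c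
  | mul a b _ _ ha hb => exact ha.mul_left hb
  | inv a _ ha => exact ha.inv_left

theorem zpowers_le_of_central (hd : GlueData π H c w Ω₁) (hc : ∀ g : G, Commute g c) :
    zpowers c ≤ copyTwo H w :=
  zpowers_le.2 ⟨c, hd.c_mem, by
    show w * c * w⁻¹ = c
    rw [(hc w).eq, mul_inv_cancel_right]⟩

theorem GlueData.congr_right (hd : GlueData π H c w Ω₁) (hc : ∀ g : G, Commute g c) {g h : G}
    (hg : g ∈ copyTwo H w) (hh : h ∈ copyTwo H w) (he : π g = π h) : ∃ z ∈ zpowers c, g = z * h := by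
  obtain ⟨g', hg', rfl⟩ := mem_copyTwo.1 hg
  obtain ⟨h', hh', rfl⟩ := mem_copyTwo.1 hh
  obtain ⟨z, hz, rfl⟩ := hd.congr_left hg' hh'
    (by rw [map_mul, map_mul, map_mul, map_mul] at he; exact mul_left_cancel (mul_right_cancel he))
  refine ⟨z, hz, ?_⟩
  obtain ⟨m, rfl⟩ := mem_zpowers_iff.1 hz
  rw [← mul_assoc w, ((hc w).zpow_right m).eq]
  group

/-- Permutations of both overlaps have their lifts in both copies. -/
theorem GlueData.overlap (hd : GlueData π H c w Ω₁) (hc : ∀ g : G, Commute g c) {u v : G} (hu : u ∈ H)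
    (hv : v ∈ H) (hu' : w * u * w⁻¹ ∈ H) (hv' : w * v * w⁻¹ ∈ H) {I : Finset α}
    (hI : altOn I ≤ closure ({π (w * u * w⁻¹), π (w * v * w⁻¹)} : Set (Perm α))) {g : G}
    (hgI : π g ∈ altOn I) : (g ∈ H → g ∈ copyTwo H w) ∧ (g ∈ copyTwo H w → g ∈ H) := by
  have h := hI hgI
  rw [← Set.image_pair π, ← MonoidHom.map_closure] at h
  obtain ⟨e, he, heq⟩ := h
  have hle : closure ({w * u * w⁻¹, w * v * w⁻¹} : Set G) ≤ H ⊓ copyTwo H w := by
    rw [closure_le]
    rintro g (rfl | rfl)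
    · exact ⟨hu', conj_mem_copyTwo hu⟩
    · exact ⟨hv', conj_mem_copyTwo hv⟩
  constructor
  · intro hg
    obtain ⟨z, hz, rfl⟩ := hd.congr_left hg (hle he).1 heq.symm
    exact mul_mem (zpowers_le_of_central hd hc hz) (hle he).2
  · intro hg
    obtain ⟨z, hz, rfl⟩ := hd.congr_right hc hg (hle he).2 heq.symm
    exact mul_mem (zpowers_le.2 hd.c_mem hz) (hle he).1

/-- The gluing element `a` normalises the lifts of the alternating group on `S₂` in the second copy. -/
theorem GlueData.normalises (hd : GlueData π H c w Ω₁) (hc : ∀ g : G, Commute g c) {I I₀ S₂ : Finset α}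
    (hI : ∀ {g : G}, π g ∈ altOn I → (g ∈ H → g ∈ copyTwo H w) ∧ (g ∈ copyTwo H w → g ∈ H))
    (hI₀ : I₀ ⊆ I) (hI₀' : altOn I₀ ≤ (copyTwo H w).map π) {a b : G} (ha : a ∈ H) (hb : b ∈ copyTwo H w)
    (hab : a * b * a⁻¹ * b⁻¹ ∈ zpowers c) (hfix : ∀ z, z ∉ I₀ → π a z ∉ I₀)
    (hgen : altOn S₂ ≤ closure (insert (π b) (altOn I₀ : Set (Perm α)))) {y : G} (hy : y ∈ copyTwo H w)
    (hyS : π y ∈ altOn S₂) : a * y * a⁻¹ ∈ copyTwo H w := by
  set M := copyTwo H w ⊓ (copyTwo H w).comap (MulAut.conj a).toMonoidHom with hM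
  have hcz : zpowers c ≤ M := fun z hz => ⟨zpowers_le_of_central hd hc hz, by
    obtain ⟨m, rfl⟩ := mem_zpowers_iff.1 hz
    refine mem_comap.2 ?_
    show a * c ^ m * a⁻¹ ∈ copyTwo H w
    rw [((hc a).zpow_right m).eq, mul_inv_cancel_right]
    exact zpowers_le_of_central hd hc hz⟩
  have hbM : b ∈ M := ⟨hb, by
    refine mem_comap.2 ?_
    show a * b * a⁻¹ ∈ copyTwo H w
    rw [show a * b * a⁻¹ = (a * b * a⁻¹ * b⁻¹) * b by group]
    exact mul_mem (zpowers_le_of_central hd hc hab) hb⟩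
  have hle : altOn S₂ ≤ M.map π := by
    refine hgen.trans ((closure_le _).2 ?_)
    rintro σ (rfl | hσ)
    · exact ⟨b, hbM, rfl⟩
    · obtain ⟨g, hg, rfl⟩ := hI₀' hσ
      have hgI : π g ∈ altOn I := altOn_mono hI₀ hσ
      refine ⟨g, ⟨hg, ?_⟩, rfl⟩
      refine mem_comap.2 ?_
      show a * g * a⁻¹ ∈ copyTwo H w
      refine (hI ?_).1 (mul_mem (mul_mem ha ((hI hgI).2 hg)) (inv_mem ha))
      refine altOn_mono hI₀ (mem_altOn.2 ⟨by
        rw [map_mul, map_mul, map_inv, map_mul, map_mul, map_inv, mul_inv_cancel_comm, (mem_altOn.1 hσ).1],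
        fun z hz => ?_⟩)
      obtain ⟨t, rfl⟩ := (π a).surjective z
      rw [map_mul, map_mul, map_inv, Perm.mul_apply, Perm.mul_apply, show (π a)⁻¹ (π a t) = t from (π a).symm_apply_apply t,
        (mem_altOn.1 hσ).2 t fun ht => ?_]
      exact hz (mapsTo_of_compl (π a) hfix t ht)
  obtain ⟨y₀, hy₀, he⟩ := hle hyS
  obtain ⟨z, hz, rfl⟩ := hd.congr_right hc hy hy₀.1 he.symm
  exact (mul_mem (hcz hz) hy₀ : z * y₀ ∈ M).2
where
  /-- A permutation mapping the complement of a finite set into itself maps the set into itself. -/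
  mapsTo_of_compl (σ : Perm α) {S : Finset α} (h : ∀ z, z ∉ S → σ z ∉ S) (t : α) (ht : t ∈ S) : σ t ∈ S := by
    have h1 : Sᶜ.map σ.toEmbedding = Sᶜ := Finset.eq_of_subset_of_card_le (fun z hz => by
      obtain ⟨x, hx, rfl⟩ := Finset.mem_map.1 hz
      exact Finset.mem_compl.2 (h x (Finset.mem_compl.1 hx))) (by rw [Finset.card_map])
    by_contra hc
    have h2 : σ t ∈ Sᶜ.map σ.toEmbedding := by rw [h1]; exact Finset.mem_compl.2 hc
    obtain ⟨x, hx, hxe⟩ := Finset.mem_map.1 h2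
    exact Finset.mem_compl.1 hx (σ.injective hxe ▸ ht)

/-- The two pivot three-cycles through different points multiply to an involution. -/
theorem three_pair {P₁ P₂ i j : α} (h : P₁ ≠ P₂) (hi₁ : i ≠ P₁) (hi₂ : i ≠ P₂) (hj₁ : j ≠ P₁) (hj₂ : j ≠ P₂)
    (hij : i ≠ j) : (three P₁ P₂ i * three P₁ P₂ j) ^ 2 = 1 := by
  ext z
  simp only [sq, Perm.mul_apply, Perm.one_apply]
  by_cases h1 : z = P₁
  · subst h1
    rw [three_apply_left h hj₁.symm, three_apply_mid hi₁.symm hi₂.symm, three_apply_of_ne hi₁ hi₂ hij,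
      three_apply_right]
  by_cases h2 : z = P₂
  · subst h2
    rw [three_apply_mid hj₁.symm hj₂.symm, three_apply_of_ne hj₁ hj₂ hij.symm, three_apply_right,
      three_apply_left h hi₁.symm]
  by_cases h3 : z = i
  · subst h3
    rw [three_apply_of_ne hi₁ hi₂ hij, three_apply_right, three_apply_left h hj₁.symm,
      three_apply_mid hi₁.symm hi₂.symm]
  by_cases h4 : z = j
  · subst h4
    rw [three_apply_right, three_apply_left h hi₁.symm, three_apply_mid hj₁.symm hj₂.symm,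
      three_apply_of_ne hj₁ hj₂ hij.symm]
  rw [three_apply_of_ne h1 h2 h4, three_apply_of_ne h1 h2 h3, three_apply_of_ne h1 h2 h4,
    three_apply_of_ne h1 h2 h3]

theorem GlueData.sq_mem_left (hd : GlueData π H c w Ω₁) {g h : G} (hg : g ∈ H) (hh : h ∈ H)
    (he : (π g * π h) ^ 2 = 1) : (g * h) ^ 2 ∈ zpowers c :=
  hd.ker _ (pow_mem (mul_mem hg hh) 2) (by rw [map_pow, map_mul, he])

theorem GlueData.sq_mem_right (hd : GlueData π H c w Ω₁) (hc : ∀ g : G, Commute g c) {g h : G}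
    (hg : g ∈ copyTwo H w) (hh : h ∈ copyTwo H w) (he : (π g * π h) ^ 2 = 1) : (g * h) ^ 2 ∈ zpowers c := by
  obtain ⟨z, hz, e⟩ := hd.congr_right hc (pow_mem (mul_mem hg hh) 2) (one_mem _)
    (by rw [map_pow, map_mul, he, map_one])
  rwa [e, mul_one]

/-- Moving a pair along the gluing element. -/
theorem GlueData.pair_move (hd : GlueData π H c w Ω₁) (hc : ∀ g : G, Commute g c) {P₁ P₂ p q : α} {a : G}
    (hP : π a P₁ = P₁ ∧ π a P₂ = P₂ ∨ π a P₁ = P₂ ∧ π a P₂ = P₁) (hq : π a q = q) (h12 : P₁ ≠ P₂)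
    (hp1 : p ≠ P₁) (hp2 : p ≠ P₂) (hq1 : q ≠ P₁) (hq2 : q ≠ P₂) (ha : a ∈ H)
    {g y g' y' : G} (hg : g ∈ H) (hay : a * y * a⁻¹ ∈ copyTwo H w)
    (hπg : π g = three P₁ P₂ p) (hπy : π y = three P₁ P₂ q) (hgy : (g * y) ^ 2 ∈ zpowers c)
    (hg' : g' ∈ H) (hy' : y' ∈ copyTwo H w) (hπg' : π g' = three P₁ P₂ (π a p))
    (hπy' : π y' = three P₁ P₂ q) : (g' * y') ^ 2 ∈ zpowers c := by
  have hcen : ∀ z ∈ zpowers c, ∀ g : G, Commute g z := fun z hz g => by
    obtain ⟨m, rfl⟩ := mem_zpowers_iff.1 hz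
    exact (hc g).zpow_right m
  have hz2 : ∀ z ∈ zpowers c, z ^ 2 = 1 := fun z hz => by
    obtain ⟨m, rfl⟩ := mem_zpowers_iff.1 hz
    rw [← zpow_natCast, ← zpow_mul, mul_comm, zpow_mul, zpow_natCast, hd.c_sq, one_zpow]
  have hmove : (a * g * a⁻¹ * (a * y * a⁻¹)) ^ 2 ∈ zpowers c := by
    rw [show a * g * a⁻¹ * (a * y * a⁻¹) = a * (g * y) * a⁻¹ by group, conj_pow, (hcen _ hgy a).eq,
      mul_inv_cancel_right]
    exact hgy
  have cancel : ∀ {g₁ g₂ y₁ y₂ z z' : G}, z ∈ zpowers c → z' ∈ zpowers c → g₁ = z * g₂ → y₁ = z' * y₂ →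
      (g₁ * y₁) ^ 2 = (g₂ * y₂) ^ 2 := by
    intro g₁ g₂ y₁ y₂ z z' hz hz' e1 e2
    rw [e1, e2, show z * g₂ * (z' * y₂) = z * z' * (g₂ * y₂) by
      rw [mul_assoc, ← mul_assoc g₂, (hcen z' hz' g₂).eq]; group, (hcen _ (mul_mem hz hz') _).symm.mul_pow,
      hz2 _ (mul_mem hz hz'), one_mul]
  have hga : a * g * a⁻¹ ∈ H := mul_mem (mul_mem ha hg) (inv_mem ha)
  rcases hP with ⟨h1, h2⟩ | ⟨h1, h2⟩
  · obtain ⟨z, hz, e1⟩ := hd.congr_left hga hg'
      (by rw [map_mul, map_mul, map_inv, hπg, conj_three, h1, h2, hπg'])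
    obtain ⟨z', hz', e2⟩ := hd.congr_right hc hay hy'
      (by rw [map_mul, map_mul, map_inv, hπy, conj_three, h1, h2, hq, hπy'])
    rwa [cancel hz hz' e1 e2] at hmove
  · have hap1 : π a p ≠ P₁ := fun e => hp2 ((π a).injective (e.trans h2.symm))
    have hap2 : π a p ≠ P₂ := fun e => hp1 ((π a).injective (e.trans h1.symm))
    have inv_three : ∀ z, z ≠ P₁ → z ≠ P₂ → three P₂ P₁ z = (three P₁ P₂ z)⁻¹ := fun z hz1 hz2 => by
      rw [three_inv, three_rot hz2 hz1 h12.symm]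
    obtain ⟨z, hz, e1⟩ := hd.congr_left hga (inv_mem hg')
      (by rw [map_mul, map_mul, map_inv, map_inv, hπg, conj_three, h1, h2, hπg', inv_three _ hap1 hap2])
    obtain ⟨z', hz', e2⟩ := hd.congr_right hc hay (inv_mem hy')
      (by rw [map_mul, map_mul, map_inv, map_inv, hπy, conj_three, h1, h2, hq, hπy', inv_three _ hq1 hq2])
    rw [cancel hz hz' e1 e2, ← mul_inv_rev, inv_pow] at hmove
    have h3 := inv_mem hmove
    rw [inv_inv] at h3
    rw [show (g' * y') ^ 2 = g' * (y' * g') ^ 2 * g'⁻¹ by rw [sq, sq]; group, (hcen _ h3 g').eq,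
      mul_inv_cancel_right]
    exact h3

end CfsgLib.Presentations
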