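import Cfsg.Agent.Lib.Presentations.Shapes
import Cfsg.Agent.Lib.Presentations.Glue

/-!
The one-dimensional affine group over a prime field with two further points, as words in the translates of
one three-cycle.
-/

set_option autoImplicit false
set_option linter.unusedSectionVars false

open Equiv Equiv.Perm Subgroup

namespace CfsgLib.Presentations

variable {α : Type*} [Fintype α] [DecidableEq α]

/-- The field translation. -/
noncomputable def affA (pts : ℕ → α) (p : ℕ) (h : Set.InjOn pts (Set.Iio (p + 2))) : Perm α :=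
  cyc pts p (h.mono (Set.Iio_subset_Iio (by omega)))

/-- The three-cycle through zero and the two further points. -/
def affX (pts : ℕ → α) (p : ℕ) : Perm α := three (pts p) (pts (p + 1)) (pts 0)

/-- The data of a multiplication by a primitive root. -/
structure AffMul (pts : ℕ → α) (p : ℕ) (h : Set.InjOn pts (Set.Iio (p + 2))) (r u : ℕ) (B : Perm α) : Prop where
  coprime : u.Coprime p
  shift : r * u ≡ u + 1 [MOD p]
  root : ∀ d, 0 < d → d < p → ∃ j, r ^ j % p = d
  mem : B ∈ altOn (seqSet pts (p + 2))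
  pow : B ^ (p - 1) = 1
  conjA : B * affA pts p h ^ u * B⁻¹ = affA pts p h ^ (u + 1)
  conjX : B * affX pts p * B⁻¹ = (affX pts p)⁻¹

variable {pts : ℕ → α} {p : ℕ}

theorem pts_ne {i j : ℕ} (hi : i < p + 2) (hj : j < p + 2) (hij : i ≠ j) (h : Set.InjOn pts (Set.Iio (p + 2))) :
    pts i ≠ pts j := fun e => hij (h hi hj e)

variable (h : Set.InjOn pts (Set.Iio (p + 2)))
include h

theorem affA_apply {i : ℕ} (hi : i < p) : affA pts p h (pts i) = pts ((i + 1) % p) :=
  cyc_apply _ hi

theorem affA_fix {i : ℕ} (hi : i < p + 2) (hpi : p ≤ i) : affA pts p h (pts i) = pts i :=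
  cyc_apply_of_notMem _ fun hm => by
    obtain ⟨j, hj, e⟩ := mem_seqSet.1 hm
    exact pts_ne (by omega) hi (by omega) h e

theorem translate_affX (hp : 0 < p) (i : ℕ) :
    translate (affA pts p h) (affX pts p) i = three (pts p) (pts (p + 1)) (pts (i % p)) := by
  rw [translate, affX, conj_three, Perm.pow_apply_eq_self_of_apply_eq_self (affA_fix h (by omega) le_rfl),
    Perm.pow_apply_eq_self_of_apply_eq_self (affA_fix h (by omega) (by omega)), affA, cyc_pow_apply _ i hp,
    Nat.zero_add]

theorem affX_pow_three (hp : 0 < p) : affX pts p ^ 3 = 1 := by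
  have h12 := pts_ne (i := p) (j := p + 1) (by omega) (by omega) (by omega) h
  have := Perm.IsThreeCycle.orderOf (Perm.isThreeCycle_swap_mul_swap_same h12.symm
    (pts_ne (i := p + 1) (j := 0) (by omega) (by omega) (by omega) h)
    (pts_ne (i := p) (j := 0) (by omega) (by omega) (by omega) h))
  rw [affX, three, swap_comm (pts p) (pts (p + 1))]
  exact orderOf_dvd_iff_pow_eq_one.1 (dvd_of_eq this)

theorem affX_pair (hp : 1 < p) :
    (affX pts p * (affA pts p h * affX pts p * (affA pts p h)⁻¹)) ^ 2 = affX pts p ^ 3 := by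
  have e := translate_affX h (by omega) 1
  rw [translate, pow_one, Nat.mod_eq_of_lt hp] at e
  rw [e, affX_pow_three h (by omega), affX]
  exact three_pair (pts_ne (by omega) (by omega) (by omega) h) (pts_ne (by omega) (by omega) (by omega) h)
    (pts_ne (by omega) (by omega) (by omega) h) (pts_ne (by omega) (by omega) (by omega) h)
    (pts_ne (by omega) (by omega) (by omega) h) (pts_ne (by omega) (by omega) (by omega) h)

theorem exists_affMul (hp : p.Prime) (hp3 : 3 ≤ p) : ∃ (r u : ℕ) (B : Perm α), AffMul pts p h r u B := by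
  have := Fact.mk hp
  obtain ⟨g, hg⟩ := IsCyclic.exists_generator (α := (ZMod p)ˣ)
  have hroot : ∀ z : ZMod p, z ≠ 0 → ∃ j : ℕ, (g : ZMod p) ^ j = z := fun z hz => by
    obtain ⟨j, hj⟩ := mem_powers_iff_mem_zpowers.2 (hg (Units.mk0 z hz))
    exact ⟨j, by rw [← Units.val_pow_eq_pow_val]; exact congrArg Units.val hj⟩
  have h2ne : (2 : ZMod p) ≠ 0 ∧ (2 : ZMod p) ≠ 1 := by
    refine ⟨?_, fun e => one_ne_zero (α := ZMod p) (by linear_combination e)⟩
    intro e
    rw [show (2 : ZMod p) = ((2 : ℕ) : ZMod p) by norm_num, ZMod.natCast_eq_zero_iff] at e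
    have := Nat.le_of_dvd (by omega) e
    omega
  have hg1 : (g : ZMod p) ≠ 1 := fun e => by
    obtain ⟨j, hj⟩ := hroot 2 h2ne.1
    rw [e, one_pow] at hj
    exact h2ne.2 hj.symm
  let φ : ZMod p ↪ α := ⟨fun z => pts z.val, fun z z' e => ZMod.val_injective p
    (h (show z.val ∈ Set.Iio (p + 2) by have := ZMod.val_lt z; simp; omega)
      (show z'.val ∈ Set.Iio (p + 2) by have := ZMod.val_lt z'; simp; omega) e)⟩
  let M : Perm (ZMod p) := Units.mulLeft g
  have hM : ∀ z, M z = (g : ZMod p) * z := fun z => rfl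
  have hMpow : ∀ (j : ℕ) (z : ZMod p), (M ^ j) z = (g : ZMod p) ^ j * z := fun j => by
    induction j with
    | zero => simp
    | succ j ih => intro z; rw [pow_succ', Perm.mul_apply, ih, hM, pow_succ', mul_assoc]
  have hsuppM : M.support = (Finset.univ : Finset (ZMod p)).erase 0 := by
    ext z
    rw [mem_support, hM]
    simp only [Finset.mem_erase, Finset.mem_univ, and_true]
    exact ⟨fun hne hz => hne (by rw [hz, mul_zero]), fun hz e => hg1 (mul_eq_right₀ hz |>.1 e)⟩
  have hcyc : M.IsCycle := by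
    refine ⟨1, by rw [hM, mul_one]; exact hg1, fun y hy => ?_⟩
    obtain ⟨j, hj⟩ := hroot y (by rintro rfl; exact hy (by rw [hM, mul_zero]))
    exact ⟨j, by rw [zpow_natCast, hMpow, mul_one, hj]⟩
  have hsignM : sign M = -1 := by
    have heven : Even (p - 1) := hp.even_sub_one (by omega)
    rw [hcyc.sign, hsuppM, Finset.card_erase_of_mem (Finset.mem_univ _), Finset.card_univ, ZMod.card,
      heven.neg_one_pow]
  have hMp : M ^ (p - 1) = 1 := by
    ext z
    rw [hMpow, Perm.one_apply]
    rw [ZMod.pow_card_sub_one_eq_one g.ne_zero, one_mul]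
  set u : ℕ := (((g : ZMod p) - 1)⁻¹).val with hu
  set r : ℕ := (g : ZMod p).val with hr
  have hucast : (u : ZMod p) = ((g : ZMod p) - 1)⁻¹ := ZMod.natCast_zmod_val _
  have hrcast : (r : ZMod p) = g := ZMod.natCast_zmod_val _
  have hg1' : (g : ZMod p) - 1 ≠ 0 := sub_ne_zero.2 hg1
  have hru : (r : ZMod p) * u = u + 1 := by
    rw [hrcast, hucast]; field_simp; ring
  have h12 : pts p ≠ pts (p + 1) := pts_ne (by omega) (by omega) (by omega) h
  set τ : Perm α := swap (pts p) (pts (p + 1)) with hτ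
  set N : Perm α := Perm.viaEmbeddingHom φ M with hN
  have hout : ∀ i, p ≤ i → i < p + 2 → pts i ∉ Finset.univ.map φ := fun i hi hi' hm => by
    obtain ⟨z, -, e⟩ := Finset.mem_map.1 hm
    have := ZMod.val_lt z
    exact pts_ne (by omega) hi' (by omega) h e
  have hτφ : ∀ z : ZMod p, τ (φ z) = φ z := fun z => by
    have := ZMod.val_lt z
    exact swap_apply_of_ne_of_ne (pts_ne (by omega) (by omega) (by omega) h)
      (pts_ne (by omega) (by omega) (by omega) h)
  have hφi : ∀ i, i < p → φ (i : ZMod p) = pts i := fun i hi => by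
    show pts (i : ZMod p).val = pts i
    rw [ZMod.val_natCast, Nat.mod_eq_of_lt hi]
  have hφcast : ∀ i : ℕ, φ (i : ZMod p) = pts (i % p) := fun i => by
    show pts (i : ZMod p).val = pts (i % p)
    rw [ZMod.val_natCast]
  set B : Perm α := N * τ with hB
  have hBf : ∀ i : ℕ, B (pts (i % p)) = pts ((r * i) % p) := fun i => by
    rw [hB, Perm.mul_apply, ← hφcast, hτφ, hN, via_apply, hM, ← hrcast, ← Nat.cast_mul, hφcast]
  have hB1 : B (pts p) = pts (p + 1) := by
    rw [hB, Perm.mul_apply, hτ, swap_apply_left, hN, via_apply_of_notMem φ M (hout _ (by omega) (by omega))]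
  have hB2 : B (pts (p + 1)) = pts p := by
    rw [hB, Perm.mul_apply, hτ, swap_apply_right, hN, via_apply_of_notMem φ M (hout _ le_rfl (by omega))]
  have hBout : ∀ z, z ∉ seqSet pts (p + 2) → B z = z := fun z hz => by
    rw [hB, Perm.mul_apply, hτ, swap_apply_of_ne_of_ne (fun e => hz (mem_seqSet.2 ⟨p, by omega, e.symm⟩))
      (fun e => hz (mem_seqSet.2 ⟨p + 1, by omega, e.symm⟩)), hN, via_apply_of_notMem φ M]
    intro hm
    obtain ⟨x, -, e⟩ := Finset.mem_map.1 hm
    exact hz (mem_seqSet.2 ⟨x.val, by have := ZMod.val_lt x; omega, e⟩)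
  refine ⟨r, u, B, ?_, ?_, ?_, ?_, ?_, ?_, ?_⟩
  · refine (hp.coprime_iff_not_dvd.2 fun hd => ?_).symm
    rw [← ZMod.natCast_eq_zero_iff, hucast, inv_eq_zero] at hd
    exact hg1' hd
  · rw [← ZMod.natCast_eq_natCast_iff]; push_cast; exact hru
  · intro d hd hdp
    obtain ⟨j, hj⟩ := hroot (d : ZMod p) fun e => by
      rw [ZMod.natCast_eq_zero_iff] at e
      exact absurd (Nat.le_of_dvd hd e) (by omega)
    refine ⟨j, ?_⟩
    have : ((r ^ j : ℕ) : ZMod p) = (d : ZMod p) := by push_cast; rw [hrcast, hj]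
    rw [ZMod.natCast_eq_natCast_iff', Nat.mod_eq_of_lt hdp] at this
    exact this
  · refine mem_altOn.2 ⟨?_, hBout⟩
    rw [hB, map_mul, hN, sign_via, hsignM, hτ, sign_swap h12]; rfl
  · have hcomm : Commute N τ := by
      show N * τ = τ * N
      rw [hτ, Equiv.mul_swap_eq_swap_mul, hN, via_apply_of_notMem φ M (hout _ le_rfl (by omega)),
        via_apply_of_notMem φ M (hout _ (by omega) (by omega))]
    obtain ⟨t, ht⟩ : Even (p - 1) := hp.even_sub_one (by omega)
    rw [hB, hcomm.mul_pow, hN, ← map_pow, hMp, map_one, one_mul, ht, ← two_mul, pow_mul, hτ, sq, swap_mul_self,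
      one_pow]
  · rw [mul_inv_eq_iff_eq_mul]
    clear_value B
    ext z
    rw [Perm.mul_apply, Perm.mul_apply]
    by_cases hz : z ∈ seqSet pts (p + 2)
    · obtain ⟨i, hi, rfl⟩ := mem_seqSet.1 hz
      rcases Nat.lt_or_ge i p with hip | hip
      · have hBi : B (pts i) = pts (r * i % p) := by
          conv_lhs => rw [← Nat.mod_eq_of_lt hip]
          exact hBf i
        rw [affA, cyc_pow_apply _ _ hip, hBf, hBi, cyc_pow_apply _ _ (Nat.mod_lt _ hp.pos), Nat.mod_add_mod]
        congr 1
        rw [← ZMod.natCast_eq_natCast_iff']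
        push_cast
        linear_combination hru
      · have hf : ∀ j, p ≤ j → j < p + 2 → ∀ m, (affA pts p h ^ m) (pts j) = pts j := fun j h1 h2 m =>
          Perm.pow_apply_eq_self_of_apply_eq_self (affA_fix h h2 h1) m
        rcases (show i = p ∨ i = p + 1 by omega) with rfl | rfl
        · rw [hf _ le_rfl (by omega), hB1, hf _ (by omega) (by omega)]
        · rw [hf _ (by omega) (by omega), hB2, hf _ le_rfl (by omega)]
    · have hf : ∀ m, (affA pts p h ^ m) z = z := fun m => Perm.pow_apply_eq_self_of_apply_eq_self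
        (cyc_apply_of_notMem _ fun hm => hz (by
          obtain ⟨t, ht, e⟩ := mem_seqSet.1 hm; exact mem_seqSet.2 ⟨t, by omega, e⟩)) m
      rw [hf, hBout z hz, hf]
  · have h0 : B (pts 0) = pts 0 := by simpa using hBf 0
    have e1 : pts p ≠ pts 0 := pts_ne (by omega) (by omega) (by omega) h
    have e2 : pts (p + 1) ≠ pts 0 := pts_ne (by omega) (by omega) (by omega) h
    rw [affX, conj_three, hB1, hB2, h0, three_inv, three_rot h12.symm e2 e1,
      three_rot e1 h12 e2.symm]

section Words

/-- The first copy in the free group: generated by the translates. -/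
def wordsOne : Subgroup (FreeGroup (Fin 3)) :=
  closure (Set.range fun i : ℕ => translate (FreeGroup.of (0 : Fin 3)) (FreeGroup.of 1) i)

omit h in
theorem map_translate {G G' : Type*} [Group G] [Group G'] (f : G →* G') (a x : G) (i : ℕ) :
    f (translate a x i) = translate (f a) (f x) i := by simp [translate]

theorem wordsOne_onto (hp : 0 < p) {σ : Perm α} :
    altOn (seqSet pts (p + 2)) ≤ wordsOne.map (FreeGroup.lift ![affA pts p h, affX pts p, σ]) := by
  refine altOn_le_of_pivot (a := pts p) (b := pts (p + 1)) (mem_seqSet.2 ⟨p, by omega, rfl⟩)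
    (mem_seqSet.2 ⟨p + 1, by omega, rfl⟩) (pts_ne (by omega) (by omega) (by omega) h) fun z hz hz1 hz2 => ?_
  obtain ⟨i, hi, rfl⟩ := mem_seqSet.1 hz
  have hip : i < p := by
    rcases Nat.lt_or_ge i p with hip | hip
    · exact hip
    rcases (show i = p ∨ i = p + 1 by omega) with rfl | rfl
    · exact absurd rfl hz1
    · exact absurd rfl hz2
  refine ⟨translate (FreeGroup.of 0) (FreeGroup.of 1) i, subset_closure ⟨i, rfl⟩, ?_⟩
  rw [map_translate, FreeGroup.lift_apply_of, FreeGroup.lift_apply_of]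
  show translate (affA pts p h) (affX pts p) i = _
  rw [translate_affX h hp, Nat.mod_eq_of_lt hip]

variable {G : Type*} [Group G] {π : G →* Perm α} {q : FreeGroup (Fin 3) →* G} {σ : Perm α}

/-- The consequences of the affine relations. -/
theorem affine_base (hp : p.Prime) {r u : ℕ} {B : Perm α} (hB : AffMul pts p h r u B)
    (hq : Function.Surjective q) (hπ : π.comp q = FreeGroup.lift ![affA pts p h, affX pts p, σ])
    {Wb : FreeGroup (Fin 3)} (hWb : Wb ∈ wordsOne)
    (h1 : q (FreeGroup.of 0) ^ p = q Wb ^ (p - 1))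
    (h2 : q Wb * q (FreeGroup.of 0) ^ u * (q Wb)⁻¹ = q (FreeGroup.of 0) ^ (u + 1))
    (h3 : q Wb * q (FreeGroup.of 1) * (q Wb)⁻¹ = (q (FreeGroup.of 1))⁻¹)
    (h4 : (q (FreeGroup.of 1) * (q (FreeGroup.of 0) * q (FreeGroup.of 1) * (q (FreeGroup.of 0))⁻¹)) ^ 2 =
      q (FreeGroup.of 1) ^ 3) :
    GlueData π (wordsOne.map q) (q (FreeGroup.of 1) ^ 3) (q (FreeGroup.of 2)) (seqSet pts (p + 2)) ∧
      q (FreeGroup.of 0) ∈ wordsOne.map q ∧ q (FreeGroup.of 0) ^ p = 1 ∧
      (∀ g ∈ wordsOne.map q, π g = three (pts p) (pts (p + 1)) (pts 0) * three (pts p) (pts (p + 1)) (pts 1) →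
        g ^ 2 = q (FreeGroup.of 1) ^ 3) := by
  classical
  set a := q (FreeGroup.of 0) with ha
  set x := q (FreeGroup.of 1) with hx
  have hp2 := hp.two_le
  obtain ⟨hap, hc2, hac, hcube, hcomm, hpair⟩ := affine_facts hp h1 h2 h3 h4 hB.coprime hB.shift hB.root
  have hπa : π a = affA pts p h := by rw [ha, ← MonoidHom.comp_apply, hπ, FreeGroup.lift_apply_of]; rfl
  have hπx : π x = affX pts p := by rw [hx, ← MonoidHom.comp_apply, hπ, FreeGroup.lift_apply_of]; rfl
  set H := wordsOne.map q with hH
  have hHeq : H = closure (Set.range fun i : ℕ => translate a x i) := by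
    rw [hH, wordsOne, MonoidHom.map_closure, ← Set.range_comp]
    congr 2
    funext i
    exact map_translate q _ _ i
  set s : Finset G := (Finset.range p).image fun i => translate a x i with hs
  have htmod : ∀ i, translate a x i = translate a x (i % p) := fun i => by
    rw [translate, translate, pow_eq_pow_mod i hap]
  have hHs : H = closure (s : Set G) := by
    rw [hHeq]
    refine le_antisymm ((closure_le _).2 ?_) (closure_mono fun g hg => ?_)
    · rintro _ ⟨i, rfl⟩
      show translate a x i ∈ closure (s : Set G)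
      rw [htmod i]
      exact subset_closure (Finset.mem_image.2 ⟨i % p, Finset.mem_range.2 (Nat.mod_lt _ hp.pos), rfl⟩)
    · obtain ⟨i, -, rfl⟩ := Finset.mem_image.1 hg
      exact ⟨i, rfl⟩
  have htrans : ∀ i, π (translate a x i) = three (pts p) (pts (p + 1)) (pts (i % p)) := fun i => by
    rw [map_translate, hπa, hπx, translate_affX h hp.pos]
  have hmemt : ∀ i, translate a x i ∈ H := fun i => by rw [hHeq]; exact subset_closure ⟨i, rfl⟩
  have hxH : x ∈ H := by simpa [translate] using hmemt 0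
  have hcen : ∀ g ∈ H, Commute g (x ^ 3) := by
    intro g hg
    rw [hHeq] at hg
    induction hg using closure_induction with
    | mem g hg => obtain ⟨i, rfl⟩ := hg; exact hcomm i
    | one => exact Commute.one_left _
    | mul a b _ _ ha hb => exact ha.mul_left hb
    | inv a _ ha => exact ha.inv_left
  have hnorm : ∀ m : ℕ, ∀ g ∈ H, a ^ m * g * (a ^ m)⁻¹ ∈ H := fun m g hg => by
    rw [hHeq] at hg
    induction hg using closure_induction with
    | mem g hg => obtain ⟨i, rfl⟩ := hg; rw [translate_shift]; exact hmemt _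
    | one => simp
    | mul g g' _ _ h1 h2 => simpa [mul_assoc] using mul_mem h1 h2
    | inv g _ h1 => simpa [mul_assoc] using inv_mem h1
  have haH : a ∈ H := by
    have hb : q Wb ∈ H := Subgroup.mem_map_of_mem q hWb
    have e : a = q Wb * (a ^ u * (q Wb)⁻¹ * (a ^ u)⁻¹) := by
      rw [show q Wb * (a ^ u * (q Wb)⁻¹ * (a ^ u)⁻¹) = q Wb * a ^ u * (q Wb)⁻¹ * (a ^ u)⁻¹ by group, h2,
        pow_succ', mul_inv_cancel_right]
    rw [e]
    exact mul_mem hb (hnorm u _ (inv_mem hb))
  have honto : altOn (seqSet pts (p + 2)) ≤ H.map π := by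
    rw [hH, Subgroup.map_map, hπ]
    exact wordsOne_onto h hp.pos
  have himg : ∀ g ∈ H, π g ∈ altOn (seqSet pts (p + 2)) := by
    intro g hg
    rw [hHeq] at hg
    refine ((closure_le (K := (altOn (seqSet pts (p + 2))).comap π)).2 ?_ hg)
    rintro _ ⟨i, rfl⟩
    show π (translate a x i) ∈ altOn (seqSet pts (p + 2))
    rw [htrans]
    have := Nat.mod_lt i hp.pos
    exact three_mem (pts_ne (by omega) (by omega) (by omega) h) (pts_ne (by omega) (by omega) (by omega) h)
      (mem_seqSet.2 ⟨p, by omega, rfl⟩) (mem_seqSet.2 ⟨p + 1, by omega, rfl⟩)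
      (mem_seqSet.2 ⟨i % p, by omega, rfl⟩)
  have hker : ∀ g ∈ H, π g = 1 → g ∈ zpowers (x ^ 3) := by
    rw [hHs] at honto ⊢
    refine ker_le π s ((Finset.nonempty_range_iff.2 hp.ne_zero).image _) ?_ _ (fun g hg => ?_) ?_
      (fun g hg => ?_) (fun g hg g' hg' hne => ?_) honto
    · rw [card_seqSet h]
      have := Finset.card_image_le (s := Finset.range p) (f := fun i => translate a x i)
      rw [← hs, Finset.card_range] at this
      omega
    · obtain ⟨i, -, rfl⟩ := Finset.mem_image.1 hg; exact hcomm i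
    · rw [map_pow, hπx, affX_pow_three h hp.pos]
    · obtain ⟨i, -, rfl⟩ := Finset.mem_image.1 hg
      rw [hcube i]; exact mem_zpowers _
    · obtain ⟨i, hi, rfl⟩ := Finset.mem_image.1 hg
      obtain ⟨j, hj, rfl⟩ := Finset.mem_image.1 hg'
      rw [hpair i j fun e => hne (by
        rw [Nat.mod_eq_of_lt (Finset.mem_range.1 hi), Nat.mod_eq_of_lt (Finset.mem_range.1 hj)] at e
        rw [e])]
      exact mem_zpowers _
  refine ⟨⟨pow_mem hxH 3, by rw [map_pow, hπx, affX_pow_three h hp.pos], hc2, hcen, hker, himg, honto, ?_⟩,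
    haH, hap, ?_⟩
  · rw [eq_top_iff, ← map_top_of_surjective q hq, ← FreeGroup.closure_range_of, MonoidHom.map_closure,
      closure_le]
    rintro _ ⟨_, ⟨i, rfl⟩, rfl⟩
    fin_cases i
    · exact subset_closure (Set.mem_insert_of_mem _ haH)
    · exact subset_closure (Set.mem_insert_of_mem _ hxH)
    · exact subset_closure (Set.mem_insert _ _)
  · intro g hg hπg
    have hlift : π (translate a x 0 * translate a x 1) = π g := by
      rw [hπg, map_mul, htrans, htrans, Nat.zero_mod, Nat.mod_eq_of_lt hp.one_lt]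
    have hmem : translate a x 0 * translate a x 1 ∈ H := mul_mem (hmemt 0) (hmemt 1)
    obtain ⟨m, hm⟩ := mem_zpowers_iff.1 (hker (g * (translate a x 0 * translate a x 1)⁻¹)
      (mul_mem hg (inv_mem hmem)) (by rw [map_mul, map_inv, hlift, mul_inv_cancel]))
    have e : g = (x ^ 3) ^ m * (translate a x 0 * translate a x 1) := by rw [hm, inv_mul_cancel_right]
    rw [e, ((hcen _ hmem).symm.zpow_left m).mul_pow, hpair 0 1 (by
      rw [Nat.zero_mod, Nat.mod_eq_of_lt hp.one_lt]; omega)]
    rw [← zpow_natCast ((x ^ 3) ^ m), ← zpow_mul, mul_comm, zpow_mul, zpow_natCast, hc2, one_zpow, one_mul]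

end Words

end CfsgLib.Presentations
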