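import Cfsg.Agent.Lib.Presentations.Common

/-!
Small degrees: a cycle and one three-cycle through two further points.
-/

set_option autoImplicit false
set_option linter.unusedSectionVars false

open Equiv Equiv.Perm Subgroup

namespace CfsgLib.Presentations

/-- The translates of `x` under `y`, inverted at each step if `b`. -/
def twist {G : Type*} [Group G] (b : Bool) (y x : G) : ℕ → G
  | 0 => x
  | i + 1 => y * (cond b (twist b y x i)⁻¹ (twist b y x i)) * y⁻¹

theorem map_twist {G G' : Type*} [Group G] [Group G'] (f : G →* G') (b : Bool) (y x : G) (i : ℕ) :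
    f (twist b y x i) = twist b (f y) (f x) i := by
  induction i with
  | zero => rfl
  | succ i ih => cases b <;> simp_all [twist]

theorem twist_pair {G : Type*} [Group G] {b : Bool} {y x : G} {i j : ℕ}
    (h : (twist b y x i * twist b y x j) ^ 2 = 1) (k : ℕ) :
    (twist b y x (i + k) * twist b y x (j + k)) ^ 2 = 1 := by
  induction k with
  | zero => exact h
  | succ k ih =>
    cases b
    · show (y * twist false y x (i + k) * y⁻¹ * (y * twist false y x (j + k) * y⁻¹)) ^ 2 = 1
      rw [show y * twist false y x (i + k) * y⁻¹ * (y * twist false y x (j + k) * y⁻¹) =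
        y * (twist false y x (i + k) * twist false y x (j + k)) * y⁻¹ by group, conj_pow, ih, mul_one,
        mul_inv_cancel]
    · show (y * (twist true y x (i + k))⁻¹ * y⁻¹ * (y * (twist true y x (j + k))⁻¹ * y⁻¹)) ^ 2 = 1
      rw [show y * (twist true y x (i + k))⁻¹ * y⁻¹ * (y * (twist true y x (j + k))⁻¹ * y⁻¹) =
        y * (twist true y x (j + k) * twist true y x (i + k))⁻¹ * y⁻¹ by group, conj_pow, inv_pow, sq_swap ih,
        inv_one, mul_one, mul_inv_cancel]

variable {n m : ℕ}

/-- Degree `m + 2` with relators read off the cycle of length `m`. -/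
theorem small_case (hm : 1 ≤ m) (hn : n = m + 2) (hm6 : m ≤ 6) (even : Bool) :
    ∃ t : Fin 2 → Perm (Fin n), HasPres 2 6 t (cond even (alternatingGroup (Fin n)) ⊤) := by
  subst hn
  have hn0 : 0 < m + 2 := by omega
  set pts := point hn0
  have h := point_injOn hn0 (le_refl (m + 2))
  have hc : Set.InjOn pts (Set.Iio m) := h.mono (Set.Iio_subset_Iio (by omega))
  have h12 : pts m ≠ pts (m + 1) := pts_ne (by omega) (by omega) (by omega) h
  have hne : ∀ i, i < m → pts i ≠ pts m ∧ pts i ≠ pts (m + 1) := fun i hi =>
    ⟨pts_ne (by omega) (by omega) (by omega) h, pts_ne (by omega) (by omega) (by omega) h⟩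
  obtain ⟨b, hsign⟩ : ∃ b : Bool,
      sign (cyc pts m hc * cond b (swap (pts m) (pts (m + 1))) 1) = cond even 1 (-1) := by
    rcases Int.units_eq_one_or (sign (cyc pts m hc)) with e | e <;> cases even
    · exact ⟨true, by simp [e, sign_swap h12]⟩
    · exact ⟨false, by simp [e]⟩
    · exact ⟨false, by simp [e]⟩
    · exact ⟨true, by simp [e, sign_swap h12]⟩
  set Y := cyc pts m hc * cond b (swap (pts m) (pts (m + 1))) 1 with hY
  set X := three (pts m) (pts (m + 1)) (pts 0) with hX
  have hfix : ∀ j, m ≤ j → j < m + 2 → cyc pts m hc (pts j) = pts j := fun j hj hj' =>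
    cyc_apply_of_notMem hc fun hmem => by
      obtain ⟨i, hi, e⟩ := mem_seqSet.1 hmem
      exact pts_ne (by omega) hj' (by omega) h e
  have htw : ∀ i, twist b Y X i = three (pts m) (pts (m + 1)) (pts (i % m)) := by
    intro i
    induction i with
    | zero => rw [Nat.zero_mod]; rfl
    | succ i ih =>
      have hi := Nat.mod_lt i (by omega : 0 < m)
      obtain ⟨e1, e2⟩ := hne _ hi
      show Y * cond b (twist b Y X i)⁻¹ (twist b Y X i) * Y⁻¹ = _
      rw [ih, hY]
      cases b
      · rw [cond_false, cond_false, mul_one, conj_three, hfix m le_rfl (by omega), hfix (m + 1) (by omega) (by omega),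
          cyc_apply hc hi, Nat.mod_add_mod]
      · rw [cond_true, cond_true, three_inv, conj_three, Perm.mul_apply, Perm.mul_apply, Perm.mul_apply,
          swap_apply_of_ne_of_ne e1 e2, swap_apply_right, swap_apply_left, hfix m le_rfl (by omega),
          hfix (m + 1) (by omega) (by omega), cyc_apply hc hi, Nat.mod_add_mod]
        obtain ⟨f1, f2⟩ := hne _ (Nat.mod_lt (i + 1) (by omega : 0 < m))
        rw [three_rot f1 f2 h12]
  let t : Fin 2 → Perm (Fin (m + 2)) := ![X, Y]
  let Wd : Subgroup (FreeGroup (Fin 2)) :=
    closure (Set.range fun i : ℕ => twist b (FreeGroup.of (1 : Fin 2)) (FreeGroup.of 0) i)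
  have hlift : ∀ i, FreeGroup.lift t (twist b (FreeGroup.of (1 : Fin 2)) (FreeGroup.of 0) i) = twist b Y X i :=
    fun i => by rw [map_twist, FreeGroup.lift_apply_of, FreeGroup.lift_apply_of]; rfl
  have honto : altOn Finset.univ ≤ Wd.map (FreeGroup.lift t) := by
    rw [← seqSet_point hn0]
    refine altOn_le_of_pivot (a := pts m) (b := pts (m + 1)) (mem_seqSet.2 ⟨m, by omega, rfl⟩)
      (mem_seqSet.2 ⟨m + 1, by omega, rfl⟩) h12 fun z hz hz1 hz2 => ?_
    obtain ⟨i, hi, rfl⟩ := mem_seqSet.1 hz
    have him : i < m := by
      rcases Nat.lt_or_ge i m with him | him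
      · exact him
      rcases (show i = m ∨ i = m + 1 by omega) with rfl | rfl
      · exact absurd rfl hz1
      · exact absurd rfl hz2
    exact ⟨_, subset_closure ⟨i, rfl⟩, by rw [hlift, htw, Nat.mod_eq_of_lt him]⟩
  have honto' : altOn Finset.univ ≤ closure (Set.range t) := by
    refine honto.trans ?_
    rw [← FreeGroup.range_lift_eq_closure]
    exact fun x ⟨z, _, hz⟩ => ⟨z, hz⟩
  obtain ⟨Wy, hWy, hWyY⟩ := honto (show cond even Y (Y * Y) ∈ altOn Finset.univ from mem_altOn.2
    ⟨by cases even <;> simp [hsign], fun z hz => absurd (Finset.mem_univ z) hz⟩)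
  have hX3 : X ^ 3 = 1 := by
    have := Perm.IsThreeCycle.orderOf (Perm.isThreeCycle_swap_mul_swap_same h12.symm
      (hne 0 hm).2.symm (hne 0 hm).1.symm)
    rw [hX, three, swap_comm (pts m) (pts (m + 1))]
    exact orderOf_dvd_iff_pow_eq_one.1 (dvd_of_eq this)
  let x₀ : FreeGroup (Fin 2) := FreeGroup.of 0
  let y₀ : FreeGroup (Fin 2) := FreeGroup.of 1
  refine ⟨t, HasPres.intro t ?_ ([x₀ ^ 3, twist b y₀ x₀ m * x₀⁻¹, cond even y₀ (y₀ * y₀) * Wy⁻¹] ++
    (List.range (m / 2)).map fun d => (x₀ * twist b y₀ x₀ (d + 1)) ^ 2) ?_ ?_ ?_⟩
  · cases even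
    · exact closure_range_odd honto' 1 hsign
    · refine closure_range_even honto' fun i => ?_
      fin_cases i
      · exact sign_three h12 (hne 0 hm).2.symm
      · exact hsign
  · simp only [List.length_append, List.length_cons, List.length_nil, List.length_map, List.length_range]
    omega
  · intro x hx
    rcases List.mem_append.1 hx with hx | hx
    · simp only [List.mem_cons, List.not_mem_nil, or_false] at hx
      rcases hx with rfl | rfl | rfl
      · rw [map_pow, FreeGroup.lift_apply_of]; exact hX3
      · rw [map_mul, map_inv, hlift, htw, Nat.mod_self, FreeGroup.lift_apply_of]; exact mul_inv_cancel X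
      · rw [map_mul, map_inv, hWyY, mul_inv_eq_one]
        cases even <;> simp [y₀, t]
    · obtain ⟨d, hd, rfl⟩ := List.mem_map.1 hx
      rw [List.mem_range] at hd
      have hd' : d + 1 < m := by omega
      rw [map_pow, map_mul, hlift, htw, Nat.mod_eq_of_lt hd', FreeGroup.lift_apply_of]
      show (X * _) ^ 2 = 1
      exact three_pair h12 (hne 0 hm).1 (hne 0 hm).2 (hne _ hd').1 (hne _ hd').2
        (pts_ne (by omega) (by omega) (by omega) h)
  · intro G _ q π hq hπ hr g hg
    simp only [List.forall_mem_append, List.forall_mem_cons, List.forall_mem_map, List.mem_range,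
      List.not_mem_nil, false_implies, implies_true, and_true, map_mul, map_pow, map_inv, map_twist,
      mul_inv_eq_one] at hr
    obtain ⟨⟨hx3, hper, hWrel⟩, hpairs⟩ := hr
    set x := q x₀ with hx
    set y := q y₀ with hy
    have hπt : ∀ i, π (twist b y x i) = three (pts m) (pts (m + 1)) (pts (i % m)) := fun i => by
      rw [map_twist, hx, hy, ← MonoidHom.comp_apply, ← MonoidHom.comp_apply, hπ, FreeGroup.lift_apply_of,
        FreeGroup.lift_apply_of]
      exact htw i
    have hperiod : ∀ i, twist b y x (i + m) = twist b y x i := by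
      intro i
      induction i with
      | zero => rw [Nat.zero_add]; exact hper
      | succ i ih =>
        rw [Nat.succ_add]
        show y * cond b (twist b y x (i + m))⁻¹ (twist b y x (i + m)) * y⁻¹ = twist b y x (i + 1)
        rw [ih]; rfl
    have hmod : ∀ i, twist b y x i = twist b y x (i % m) := by
      intro i
      induction i using Nat.strong_induction_on with
      | _ i ih =>
        rcases Nat.lt_or_ge i m with hi | hi
        · rw [Nat.mod_eq_of_lt hi]
        · rw [Nat.mod_eq_sub_mod hi, ← ih (i - m) (by omega), ← hperiod (i - m), Nat.sub_add_cancel hi]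
    have hcube : ∀ i, twist b y x i ^ 3 = 1 := by
      intro i
      induction i with
      | zero => exact hx3
      | succ i ih =>
        show (y * cond b (twist b y x i)⁻¹ (twist b y x i) * y⁻¹) ^ 3 = 1
        rw [conj_pow]
        cases b <;> simp [ih]
    have hpair : ∀ i j, i < j → j < m → (twist b y x i * twist b y x j) ^ 2 = 1 := by
      intro i j hij hj
      have h0 : ∀ d, d < m / 2 → (twist b y x 0 * twist b y x (d + 1)) ^ 2 = 1 := hpairs
      rcases Nat.lt_or_ge (m / 2) (j - i) with hd | hd
      · have := twist_pair (h0 (m - (j - i) - 1) (by omega)) j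
        rw [Nat.zero_add, show m - (j - i) - 1 + 1 + j = i + m by omega, hperiod] at this
        exact sq_swap this
      · have := twist_pair (h0 (j - i - 1) (by omega)) i
        rwa [Nat.zero_add, show j - i - 1 + 1 + i = j by omega] at this
    set H := closure (Set.range fun i : ℕ => twist b y x i) with hH
    have hWd : Wd.map q = H := by
      rw [hH, MonoidHom.map_closure, ← Set.range_comp]
      congr 2
      funext i
      exact map_twist q b _ _ i
    classical
    set s : Finset G := (Finset.range m).image fun i => twist b y x i with hs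
    have hHs : H = closure (s : Set G) := by
      refine le_antisymm ((closure_le _).2 ?_) (closure_mono fun g hg => ?_)
      · rintro _ ⟨i, rfl⟩
        show twist b y x i ∈ closure (s : Set G)
        rw [hmod i]
        exact subset_closure (Finset.mem_image.2 ⟨i % m, Finset.mem_range.2 (Nat.mod_lt _ (by omega)), rfl⟩)
      · obtain ⟨i, -, rfl⟩ := Finset.mem_image.1 hg
        exact ⟨i, rfl⟩
    have hker : ∀ g ∈ H, π g = 1 → g = 1 := by
      intro g hg hg1
      rw [hHs] at hg
      have := ker_le π s ((Finset.nonempty_range_iff.2 (by omega)).image _) (S := Finset.univ) (by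
          have := Finset.card_image_le (s := Finset.range m) (f := fun i => twist b y x i)
          rw [← hs, Finset.card_range] at this
          rw [Finset.card_univ, Fintype.card_fin]; omega) 1 (fun g _ => Commute.one_right g) (map_one π)
        (fun g hg => by
          obtain ⟨i, -, rfl⟩ := Finset.mem_image.1 hg
          rw [hcube i]; exact one_mem _)
        (fun g hg g' hg' hne' => by
          obtain ⟨i, hi, rfl⟩ := Finset.mem_image.1 hg
          obtain ⟨j, hj, rfl⟩ := Finset.mem_image.1 hg'
          rw [Finset.mem_range] at hi hj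
          rcases Nat.lt_trichotomy i j with hij | hij | hij
          · rw [hpair i j hij hj]; exact one_mem _
          · exact absurd (by rw [hij]) hne'
          · rw [sq_swap (hpair j i hij hi)]; exact one_mem _)
        (by rw [← hHs, ← hWd, Subgroup.map_map, hπ]; exact honto) g hg hg1
      rwa [zpowers_one_eq_bot, mem_bot] at this
    have hsignH : ∀ g ∈ H, sign (π g) = 1 := by
      intro g hg
      induction hg using closure_induction with
      | mem g hg =>
        obtain ⟨i, rfl⟩ := hg
        rw [hπt]
        exact sign_three h12 (hne _ (Nat.mod_lt _ (by omega))).2.symm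
      | one => simp
      | mul a c _ _ ha hc => simp [ha, hc]
      | inv a _ ha => simp [ha]
    have hWyH : q Wy ∈ H := hWd ▸ Subgroup.mem_map_of_mem q hWy
    have hgen : closure (insert y (H : Set G)) = ⊤ := by
      rw [eq_top_iff, ← map_top_of_surjective q hq, ← FreeGroup.closure_range_of, MonoidHom.map_closure,
        closure_le]
      rintro _ ⟨_, ⟨i, rfl⟩, rfl⟩
      fin_cases i
      · exact subset_closure (Set.mem_insert_of_mem _ (subset_closure ⟨0, rfl⟩))
      · exact subset_closure (Set.mem_insert _ _)
    cases even
    · rw [cond_false, map_mul] at hWrel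
      have hnorm : ∀ k ∈ H, y * k * y⁻¹ ∈ H := by
        intro k hk
        induction hk using closure_induction with
        | mem k hk =>
          obtain ⟨i, rfl⟩ := hk
          have h1 : twist b y x (i + 1) ∈ H := subset_closure ⟨i + 1, rfl⟩
          cases b
          · exact h1
          · have h2 := inv_mem h1
            simpa [twist, mul_assoc] using h2
        | one => simp
        | mul k k' _ _ h1 h2 => simpa [mul_assoc] using mul_mem h1 h2
        | inv k _ h1 => simpa [mul_assoc] using inv_mem h1
      rcases mem_or_mem hgen H y (by rw [hy, hWrel]; exact hWyH) (fun z hz => by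
        rcases hz with rfl | hz
        · right; rw [mul_inv_cancel]; exact one_mem _
        · exact Or.inl hz) hnorm g with h' | h'
      · exact hker g h' hg
      · exfalso
        have h2 := hsignH _ h'
        rw [map_mul, hg, one_mul, map_inv, hy, ← MonoidHom.comp_apply, hπ, FreeGroup.lift_apply_of, map_inv,
          show t 1 = Y from rfl, hsign] at h2
        exact absurd h2 (by decide)
    · refine hker g ?_ hg
      have hH_top : H = ⊤ := by
        rw [eq_top_iff, ← hgen, closure_le]
        rintro z (rfl | hz)
        · rw [cond_true] at hWrel; rw [hy, hWrel]; exact hWyH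
        · exact hz
      rw [hH_top]; exact mem_top g

end CfsgLib.Presentations
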