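import Cfsg.Agent.Lib.Presentations.GlueCase
import Cfsg.Agent.Lib.Presentations.Small

/-!
Short presentations in every degree.
-/

set_option autoImplicit false
set_option linter.unusedSectionVars false

open Equiv Equiv.Perm Subgroup

namespace CfsgLib.Presentations

/-- The alternating group or the whole symmetric group. -/
abbrev target (n : ℕ) (even : Bool) : Subgroup (Perm (Fin n)) := cond even (alternatingGroup (Fin n)) ⊤

theorem exists_good_prime {n : ℕ} (hn : 9 ≤ n) :
    ∃ p, p.Prime ∧ ((3 ≤ p ∧ n = p + 2) ∨
      ∃ r, n = p + 2 + r ∧ 1 ≤ r ∧ r + 2 ≤ p ∧ (r = 1 → 7 ≤ p)) := by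
  obtain ⟨p, hp, h1, h2⟩ : ∃ p, p.Prime ∧ p + 2 ≤ n ∧ n ≤ 2 * p := by
    rcases Nat.even_or_odd n with ⟨j, hj⟩ | ⟨j, hj⟩
    · obtain ⟨q, hq, h1, h2⟩ := Nat.exists_prime_lt_and_le_two_mul (j - 1) (by omega)
      exact ⟨q, hq, by omega, by omega⟩
    · obtain ⟨q, hq, h1, h2⟩ := Nat.exists_prime_lt_and_le_two_mul (j - 1) (by omega)
      by_cases hqj : q = j
      · obtain ⟨q', hq', h1', h2'⟩ := Nat.exists_prime_lt_and_le_two_mul q (by omega)
        refine ⟨q', hq', ?_, by omega⟩
        rcases Nat.lt_or_ge q' (2 * q) with h' | h'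
        · omega
        · exfalso
          have e : q' = 2 * q := by omega
          have := (hq'.eq_one_or_self_of_dvd 2 ⟨q, e⟩)
          omega
      · exact ⟨q, hq, by omega, by omega⟩
  refine ⟨p, hp, ?_⟩
  rcases Nat.eq_or_lt_of_le h1 with e | e
  · exact Or.inl ⟨by omega, e.symm⟩
  · refine Or.inr ⟨n - p - 2, by omega, by omega, by omega, fun h' => ?_⟩
    rcases Nat.lt_or_ge p 7 with h7 | h7
    · obtain rfl : p = 6 := by omega
      exact absurd hp (by decide)
    · exact h7

theorem sign_eq_one_of_le_two {n : ℕ} (hn : n ≤ 2) {σ : Perm (Fin n)} (h : sign σ = 1) : σ = 1 := by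
  rcases (show n = 0 ∨ n = 1 ∨ n = 2 by omega) with rfl | rfl | rfl
  · exact Subsingleton.elim _ _
  · exact Subsingleton.elim _ _
  · revert σ; decide

/-- Two generators, eight relators. -/
theorem two_gen (n : ℕ) (even : Bool) : ∃ t : Fin 2 → Perm (Fin n), HasPres 2 8 t (target n even) := by
  by_cases h2 : n ≤ 2
  · -- degree at most two
    obtain ⟨a, hgen⟩ : ∃ a : Perm (Fin n), closure (Set.range ![a, 1]) = target n even := by
      have hle : ∀ {T : Subgroup (Perm (Fin n))} {a : Perm (Fin n)}, a ∈ T → closure (Set.range ![a, 1]) ≤ T := by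
        intro T a ha
        rw [closure_le]
        rintro _ ⟨i, rfl⟩
        fin_cases i
        · exact ha
        · exact one_mem T
      cases even
      · by_cases hodd : ∃ a : Perm (Fin n), sign a = -1
        · obtain ⟨a, ha⟩ := hodd
          refine ⟨a, le_antisymm le_top fun σ _ => ?_⟩
          rcases Int.units_eq_one_or (sign σ) with e | e
          · rw [sign_eq_one_of_le_two h2 e]; exact one_mem _
          · rw [show σ = a from mul_inv_eq_one.1 (sign_eq_one_of_le_two h2 (by rw [map_mul, map_inv, e, ha]; rfl))]
            exact subset_closure (Set.mem_range_self 0)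
        · refine ⟨1, le_antisymm le_top fun σ _ => ?_⟩
          rw [sign_eq_one_of_le_two h2 ((Int.units_eq_one_or (sign σ)).resolve_right fun e => hodd ⟨σ, e⟩)]
          exact one_mem _
      · refine ⟨1, le_antisymm (hle (one_mem _)) fun σ hσ => ?_⟩
        rw [sign_eq_one_of_le_two h2 (Perm.mem_alternatingGroup.1 hσ)]; exact one_mem _
    refine ⟨![a, 1], HasPres.intro _ hgen [FreeGroup.of 0 ^ orderOf a, FreeGroup.of 1] (by simp) ?_ ?_⟩
    · intro r hr
      simp only [List.mem_cons, List.not_mem_nil, or_false] at hr
      rcases hr with rfl | rfl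
      · rw [map_pow, FreeGroup.lift_apply_of]; exact pow_orderOf_eq_one a
      · rw [FreeGroup.lift_apply_of]; rfl
    · intro G _ q π hq hπ hr g hg
      simp only [List.forall_mem_cons, List.not_mem_nil, false_implies, implies_true, and_true, map_pow] at hr
      obtain ⟨hr0, hr1⟩ := hr
      have htop : zpowers (q (FreeGroup.of 0)) = ⊤ := by
        rw [eq_top_iff, ← map_top_of_surjective q hq, ← FreeGroup.closure_range_of, MonoidHom.map_closure,
          closure_le]
        rintro _ ⟨_, ⟨i, rfl⟩, rfl⟩
        fin_cases i
        · exact mem_zpowers _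
        · show q (FreeGroup.of 1) ∈ zpowers (q (FreeGroup.of 0))
          rw [hr1]; exact one_mem _
      obtain ⟨m, rfl⟩ := mem_zpowers_iff.1 (htop ▸ mem_top g)
      rw [map_zpow, ← MonoidHom.comp_apply, hπ, FreeGroup.lift_apply_of] at hg
      obtain ⟨k, rfl⟩ := orderOf_dvd_iff_zpow_eq_one.2 (show a ^ m = 1 from hg)
      rw [zpow_mul, zpow_natCast, hr0, one_zpow]
  · by_cases h8 : n ≤ 8
    · obtain ⟨t, ht⟩ := small_case (m := n - 2) (n := n) (by omega) (by omega) (by omega) even
      exact ⟨t, ht.mono (by omega)⟩
    obtain ⟨p, hp, ⟨hp3, e⟩ | ⟨r, e, hr, hrp, hp7⟩⟩ := exists_good_prime (by omega : 9 ≤ n)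
    · cases even
      · obtain ⟨A, X, τ, h, hAτ, hAp, hτ2⟩ := top_sym hp hp3 e
        have hpodd : Odd p := hp.odd_of_ne_two (by omega)
        obtain ⟨s, hs⟩ := hpodd
        have hQp : (A * τ) ^ p = τ := by
          rw [hAτ.mul_pow, hAp, one_mul, hs, pow_succ, pow_mul, hτ2, one_pow, one_mul]
        have hQp1 : (A * τ) ^ (p + 1) = A := by
          rw [pow_succ', hQp, mul_assoc, ← sq, hτ2, mul_one]
        have hcl := h.1
        refine ⟨![A * τ, X], ?_⟩
        have := h.transfer ![A * τ, X] ?_ ![FreeGroup.of 0 ^ (p + 1), FreeGroup.of 1, FreeGroup.of 0 ^ p] ?_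
          {FreeGroup.of 0 ^ (2 * p)} ?_ ?_
        · exact this.mono (by simp)
        · refine le_antisymm le_top (hcl.symm.le.trans ((closure_le _).2 ?_))
          rintro _ ⟨i, rfl⟩
          fin_cases i
          · show A ∈ closure (Set.range ![A * τ, X])
            have h' : (A * τ) ^ (p + 1) ∈ closure (Set.range ![A * τ, X]) :=
              pow_mem (subset_closure (Set.mem_range_self 0)) _
            rwa [hQp1] at h'
          · exact subset_closure (Set.mem_range_self 1)
          · show τ ∈ closure (Set.range ![A * τ, X])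
            have h' : (A * τ) ^ p ∈ closure (Set.range ![A * τ, X]) :=
              pow_mem (subset_closure (Set.mem_range_self 0)) _
            rwa [hQp] at h'
        · intro i
          fin_cases i <;> simp [hQp, hQp1]
        · intro x hx
          rw [Finset.mem_singleton] at hx
          subst hx
          rw [map_pow, FreeGroup.lift_apply_of]
          show (A * τ) ^ (2 * p) = 1
          rw [mul_comm, pow_mul, hQp, hτ2]
        · intro Q _ f hf j
          have hQ := hf _ (Finset.mem_singleton_self _)
          rw [map_pow] at hQ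
          fin_cases j
          · have e' : f (FreeGroup.of 0) = f (FreeGroup.of 0) ^ (p + 1) * f (FreeGroup.of 0) ^ p := by
              rw [← pow_add, show p + 1 + p = 2 * p + 1 by omega, pow_succ, hQ, one_mul]
            show f (FreeGroup.of 0) ∈ _
            rw [e', ← map_pow, ← map_pow]
            exact mul_mem (subset_closure (Set.mem_range_self 0)) (subset_closure (Set.mem_range_self 2))
          · exact subset_closure (Set.mem_range_self 1)
      · obtain ⟨A, X, h⟩ := top_alt hp hp3 e
        refine ⟨![A, X], ?_⟩
        have := h.transfer ![A, X] ?_ ![FreeGroup.of 0, FreeGroup.of 1, 1] ?_ ∅ (by simp) ?_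
        · exact this.mono (by simp)
        · refine le_antisymm ((closure_le _).2 ?_) (h.1.symm.le.trans ((closure_le _).2 ?_))
          · rintro _ ⟨i, rfl⟩
            rw [SetLike.mem_coe]
            refine h.1.le ?_
            fin_cases i
            · exact subset_closure (Set.mem_range_self 0)
            · exact subset_closure (Set.mem_range_self 1)
          · rintro _ ⟨i, rfl⟩
            fin_cases i
            · exact subset_closure (Set.mem_range_self 0)
            · exact subset_closure (Set.mem_range_self 1)
            · exact one_mem (closure (Set.range ![A, X]))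
        · intro i
          fin_cases i <;> simp
        · intro Q _ f _ j
          fin_cases j
          · exact subset_closure (Set.mem_range_self 0)
          · exact subset_closure (Set.mem_range_self 1)
    · obtain ⟨A, X, σ, h, hXσ, hσ4, hX3⟩ := glue_case hp e hr hrp hp7 even
      have hQ4 : (X * σ) ^ 4 = X := by
        rw [hXσ.mul_pow, hσ4, mul_one, show (4 : ℕ) = 3 + 1 from rfl, pow_succ, hX3, one_mul]
      have hQ9 : (X * σ) ^ 9 = σ := by
        rw [hXσ.mul_pow, show (9 : ℕ) = 3 * 3 from rfl, pow_mul X, hX3, one_pow, one_mul,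
          show 3 * 3 = 4 * 2 + 1 from rfl, pow_succ, pow_mul, hσ4, one_pow, one_mul]
      refine ⟨![A, X * σ], ?_⟩
      have := h.transfer ![A, X * σ] ?_ ![FreeGroup.of 0, FreeGroup.of 1 ^ 4, FreeGroup.of 1 ^ 9] ?_
        {FreeGroup.of 1 ^ 12} ?_ ?_
      · exact this.mono (by simp)
      · refine le_antisymm ((closure_le _).2 ?_) (h.1.symm.le.trans ((closure_le _).2 ?_))
        · rintro _ ⟨i, rfl⟩
          rw [SetLike.mem_coe]
          refine h.1.le ?_
          fin_cases i
          · exact subset_closure (Set.mem_range_self 0)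
          · exact mul_mem (subset_closure (Set.mem_range_self 1)) (subset_closure (Set.mem_range_self 2))
        · rintro _ ⟨i, rfl⟩
          fin_cases i
          · exact subset_closure (Set.mem_range_self 0)
          · show X ∈ closure (Set.range ![A, X * σ])
            have h' : (X * σ) ^ 4 ∈ closure (Set.range ![A, X * σ]) :=
              pow_mem (subset_closure (Set.mem_range_self 1)) _
            rwa [hQ4] at h'
          · show σ ∈ closure (Set.range ![A, X * σ])
            have h' : (X * σ) ^ 9 ∈ closure (Set.range ![A, X * σ]) :=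
              pow_mem (subset_closure (Set.mem_range_self 1)) _
            rwa [hQ9] at h'
      · intro i
        fin_cases i <;> simp [hQ4, hQ9]
      · intro x hx
        rw [Finset.mem_singleton] at hx
        subst hx
        rw [map_pow, FreeGroup.lift_apply_of]
        show (X * σ) ^ 12 = 1
        rw [hXσ.mul_pow, show (12 : ℕ) = 3 * 4 from rfl, pow_mul X, hX3, one_pow, one_mul,
          show 3 * 4 = 4 * 3 from rfl, pow_mul, hσ4, one_pow]
      · intro Q _ f hf j
        have hQ := hf _ (Finset.mem_singleton_self _)
        rw [map_pow] at hQ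
        fin_cases j
        · exact subset_closure (Set.mem_range_self 0)
        · have e' : f (FreeGroup.of 1) = f (FreeGroup.of 1) ^ 4 * f (FreeGroup.of 1) ^ 9 := by
            rw [← pow_add, show 4 + 9 = 12 + 1 from rfl, pow_succ, hQ, one_mul]
          show f (FreeGroup.of 1) ∈ _
          rw [e', ← map_pow, ← map_pow]
          exact mul_mem (subset_closure (Set.mem_range_self 1)) (subset_closure (Set.mem_range_self 2))

/-- Three generators, seven relators. -/
theorem three_gen (n : ℕ) (hn : 5 ≤ n) (even : Bool) :
    ∃ t : Fin 3 → Perm (Fin n), HasPres 3 7 t (target n even) := by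
  by_cases h8 : n ≤ 8
  · obtain ⟨t, ht⟩ := small_case (m := n - 2) (n := n) (by omega) (by omega) (by omega) even
    refine ⟨![t 0, t 1, 1], ?_⟩
    have := ht.transfer ![t 0, t 1, 1] ?_ ![FreeGroup.of 0, FreeGroup.of 1] ?_ {FreeGroup.of 2} ?_ ?_
    · exact this.mono (by simp)
    · refine le_antisymm ((closure_le _).2 ?_) (ht.1.symm.le.trans ((closure_le _).2 ?_))
      · rintro _ ⟨i, rfl⟩
        rw [SetLike.mem_coe]
        refine ht.1.le ?_
        fin_cases i
        · exact subset_closure (Set.mem_range_self 0)
        · exact subset_closure (Set.mem_range_self 1)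
        · exact one_mem (closure (Set.range t))
      · rintro _ ⟨i, rfl⟩
        fin_cases i
        · exact subset_closure (Set.mem_range_self 0)
        · exact subset_closure (Set.mem_range_self 1)
    · intro i
      fin_cases i <;> simp
    · intro x hx
      rw [Finset.mem_singleton] at hx
      subst hx
      simp
    · intro Q _ f hf j
      fin_cases j
      · exact subset_closure (Set.mem_range_self 0)
      · exact subset_closure (Set.mem_range_self 1)
      · have h2 := hf _ (Finset.mem_singleton_self (FreeGroup.of (2 : Fin 3)))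
        show f (FreeGroup.of 2) ∈ _
        rw [h2]; exact one_mem _
  obtain ⟨p, hp, ⟨hp3, e⟩ | ⟨r, e, hr, hrp, hp7⟩⟩ := exists_good_prime (by omega : 9 ≤ n)
  · cases even
    · obtain ⟨A, X, τ, h, -⟩ := top_sym hp hp3 e
      exact ⟨_, h⟩
    · obtain ⟨A, X, h⟩ := top_alt hp hp3 e
      exact ⟨_, h.mono (by omega)⟩
  · obtain ⟨A, X, σ, h, -⟩ := glue_case hp e hr hrp hp7 even
    exact ⟨_, h⟩

/-- Prescribed generators cost one relator each. -/
theorem HasPres.of_generating {P : Type*} [Group P] {g k g' : ℕ} {t : Fin g → P} {T : Subgroup P}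
    (h : HasPres g k t T) (s : Fin g' → P) (hs : closure (Set.range s) = T) : HasPres g' (k + g') s T := by
  classical
  have hW : ∀ i, ∃ W : FreeGroup (Fin g'), FreeGroup.lift s W = t i := fun i => by
    rw [← MonoidHom.mem_range, FreeGroup.range_lift_eq_closure, hs, ← h.1]
    exact subset_closure (Set.mem_range_self i)
  choose W hW using hW
  have hV : ∀ j, ∃ V : FreeGroup (Fin g), FreeGroup.lift t V = s j := fun j => by
    rw [← MonoidHom.mem_range, FreeGroup.range_lift_eq_closure, h.1, ← hs]
    exact subset_closure (Set.mem_range_self j)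
  choose V hV using hV
  have hsub : (FreeGroup.lift s).comp (FreeGroup.lift W) = FreeGroup.lift t :=
    FreeGroup.ext_hom _ _ fun i => by simp [hW]
  have := h.transfer s hs W hW (Finset.univ.image fun j => FreeGroup.of j * (FreeGroup.lift W (V j))⁻¹) ?_ ?_
  · refine this.mono (Nat.add_le_add_left ?_ _)
    exact Finset.card_image_le.trans (le_of_eq (by simp))
  · intro x hx
    obtain ⟨j, -, rfl⟩ := Finset.mem_image.1 hx
    rw [map_mul, map_inv, FreeGroup.lift_apply_of, ← MonoidHom.comp_apply, hsub, hV, mul_inv_cancel]
  · intro Q _ f hf j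
    have hj := hf _ (Finset.mem_image_of_mem _ (Finset.mem_univ j))
    rw [map_mul, map_inv, mul_inv_eq_one] at hj
    rw [hj, ← MonoidHom.comp_apply]
    have e : f.comp (FreeGroup.lift W) = FreeGroup.lift fun i => f (W i) :=
      FreeGroup.ext_hom _ _ fun i => by simp
    rw [e, ← FreeGroup.range_lift_eq_closure]
    exact ⟨V j, rfl⟩

end CfsgLib.Presentations
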