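import Mathlib

/-!
Alternating groups on subsets: generation by three-cycles with a pivot, and cycles along embeddings.
-/

set_option autoImplicit false
set_option linter.unusedSectionVars false

open Equiv Equiv.Perm

namespace CfsgLib.Presentations

variable {α : Type*} [Fintype α] [DecidableEq α]

/-- The three-cycle `a → b → c → a`. -/
def three (a b c : α) : Perm α := swap a b * swap b c

theorem three_apply_left {a b c : α} (hab : a ≠ b) (hac : a ≠ c) : three a b c a = b := by
  rw [three, Perm.mul_apply, swap_apply_of_ne_of_ne hab hac, swap_apply_left]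

theorem three_apply_mid {a b c : α} (hac : a ≠ c) (hbc : b ≠ c) : three a b c b = c := by
  rw [three, Perm.mul_apply, swap_apply_left, swap_apply_of_ne_of_ne hac.symm hbc.symm]

theorem three_apply_right (a b c : α) : three a b c c = a := by
  rw [three, Perm.mul_apply, swap_apply_right, swap_apply_right]

theorem three_apply_of_ne {a b c z : α} (ha : z ≠ a) (hb : z ≠ b) (hc : z ≠ c) : three a b c z = z := by
  rw [three, Perm.mul_apply, swap_apply_of_ne_of_ne hb hc, swap_apply_of_ne_of_ne ha hb]

theorem sign_three {a b c : α} (hab : a ≠ b) (hbc : b ≠ c) : sign (three a b c) = 1 := by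
  rw [three, map_mul, sign_swap hab, sign_swap hbc]; rfl

theorem three_rot {a b c : α} (hab : a ≠ b) (hac : a ≠ c) (hbc : b ≠ c) : three a b c = three b c a := by
  ext z
  by_cases ha : z = a
  · subst ha; rw [three_apply_left hab hac, three_apply_right]
  by_cases hb : z = b
  · subst hb; rw [three_apply_mid hac hbc, three_apply_left hbc hab.symm]
  by_cases hc : z = c
  · subst hc; rw [three_apply_right, three_apply_mid hab.symm hac.symm]
  rw [three_apply_of_ne ha hb hc, three_apply_of_ne hb hc ha]

theorem three_inv (a b c : α) : (three a b c)⁻¹ = three c b a := by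
  rw [three, three, mul_inv_rev, swap_inv, swap_inv, swap_comm b c, swap_comm a b]

theorem conj_three (g : Perm α) (a b c : α) : g * three a b c * g⁻¹ = three (g a) (g b) (g c) := by
  rw [three, three, swap_apply_apply, swap_apply_apply]; group

/-- The alternating group on a set of points. -/
def altOn (S : Finset α) : Subgroup (Perm α) where
  carrier := {g | sign g = 1 ∧ ∀ z ∉ S, g z = z}
  one_mem' := ⟨map_one _, fun _ _ => rfl⟩
  mul_mem' := fun {g h} hg hh =>
    ⟨by rw [map_mul, hg.1, hh.1, mul_one], fun z hz => by rw [Perm.mul_apply, hh.2 z hz, hg.2 z hz]⟩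
  inv_mem' := fun {g} hg => ⟨by rw [map_inv, hg.1, inv_one], fun z hz => by
    conv_lhs => rw [← hg.2 z hz]
    exact g.symm_apply_apply z⟩

theorem mem_altOn {S : Finset α} {g : Perm α} : g ∈ altOn S ↔ sign g = 1 ∧ ∀ z ∉ S, g z = z := Iff.rfl

theorem altOn_mono {S T : Finset α} (h : S ⊆ T) : altOn S ≤ altOn T :=
  fun _ hg => ⟨hg.1, fun z hz => hg.2 z fun hzS => hz (h hzS)⟩

theorem three_mem {S : Finset α} {a b c : α} (hab : a ≠ b) (hbc : b ≠ c) (ha : a ∈ S) (hb : b ∈ S) (hc : c ∈ S) :
    three a b c ∈ altOn S :=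
  ⟨sign_three hab hbc, fun z hz => three_apply_of_ne (fun e => hz (e ▸ ha)) (fun e => hz (e ▸ hb))
    fun e => hz (e ▸ hc)⟩

/-- Even permutations of a set are products of three-cycles of the set. -/
theorem altOn_le {S : Finset α} {Γ : Subgroup (Perm α)}
    (h : ∀ a ∈ S, ∀ b ∈ S, ∀ c ∈ S, a ≠ b → a ≠ c → b ≠ c → three a b c ∈ Γ) : altOn S ≤ Γ := by
  suffices ∀ (m : ℕ) (g : Perm α), g.support.card ≤ m → g ∈ altOn S → g ∈ Γ from
    fun g hg => this _ g le_rfl hg
  intro m
  induction m with
  | zero =>
    intro g hm _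
    rw [Nat.le_zero, Finset.card_eq_zero, support_eq_empty_iff] at hm
    rw [hm]; exact one_mem Γ
  | succ m ih =>
    intro g hm hg
    by_cases h1 : g = 1
    · rw [h1]; exact one_mem Γ
    obtain ⟨x, hx⟩ : g.support.Nonempty := by
      rw [Finset.nonempty_iff_ne_empty, Ne, support_eq_empty_iff]; exact h1
    have hy : g x ∈ g.support := apply_mem_support.2 hx
    have hxy : g x ≠ x := mem_support.1 hx
    obtain ⟨z, hz, hzxy⟩ : ∃ z ∈ g.support, z ∉ ({x, g x} : Finset α) := by
      apply Finset.exists_mem_notMem_of_card_lt_card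
      rw [Finset.card_pair hxy.symm]
      have h2 : g.support.card ≠ 2 := fun e => by
        have := (card_support_eq_two.1 e).sign_eq
        rw [hg.1] at this
        exact absurd this (by decide)
      have := two_le_card_support_of_ne_one h1
      omega
    simp only [Finset.mem_insert, Finset.mem_singleton, not_or] at hzxy
    have hS : ∀ w ∈ g.support, w ∈ S := fun w hw => by
      by_contra hc
      exact mem_support.1 hw (hg.2 w hc)
    have ht : three (g x) x z ∈ Γ :=
      h _ (hS _ hy) _ (hS _ hx) _ (hS _ hz) hxy (Ne.symm hzxy.2) (Ne.symm hzxy.1)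
    have hta : three (g x) x z ∈ altOn S :=
      three_mem hxy (Ne.symm hzxy.1) (hS _ hy) (hS _ hx) (hS _ hz)
    have hsub : (three (g x) x z * g).support ⊆ g.support.erase x := by
      intro w hw
      rw [mem_support, Perm.mul_apply] at hw
      refine Finset.mem_erase.2 ⟨?_, ?_⟩
      · rintro rfl
        exact hw (three_apply_left hxy (Ne.symm hzxy.2))
      · by_contra hwg
        have hfix : g w = w := notMem_support.1 hwg
        exact hw (by rw [hfix, three_apply_of_ne (fun e : w = g x => hwg (e ▸ hy)) (fun e : w = x => hwg (e ▸ hx))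
          (fun e : w = z => hwg (e ▸ hz))])
    have hcard := Finset.card_le_card hsub
    rw [Finset.card_erase_of_mem hx] at hcard
    have := ih (three (g x) x z * g) (by omega) (mul_mem hta hg)
    simpa using mul_mem (inv_mem ht) this

/-- Three-cycles through two fixed points generate. -/
theorem altOn_le_of_pivot {S : Finset α} {Γ : Subgroup (Perm α)} {a b : α} (ha : a ∈ S) (hb : b ∈ S) (hab : a ≠ b)
    (h : ∀ i ∈ S, i ≠ a → i ≠ b → three a b i ∈ Γ) : altOn S ≤ Γ := by
  have hinv : ∀ {u v w : α}, three u v w ∈ Γ → three w v u ∈ Γ := fun {u v w} h => by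
    rw [← three_inv]; exact inv_mem h
  have hconj : ∀ {g : Perm α} {u v w : α}, g ∈ Γ → three u v w ∈ Γ → three (g u) (g v) (g w) ∈ Γ :=
    fun {g u v w} hg h => by rw [← conj_three]; exact mul_mem (mul_mem hg h) (inv_mem hg)
  have hsecond : ∀ i ∈ S, ∀ j ∈ S, i ≠ a → i ≠ b → j ≠ a → j ≠ b → i ≠ j → three b i j ∈ Γ := by
    intro i hi j hj hia hib hja hjb hij
    have := hconj (h i hi hia hib) (h j hj hja hjb)
    rwa [three_apply_left hab hia.symm, three_apply_mid hia.symm hib.symm,
      three_apply_of_ne hja hjb hij.symm] at this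
  have hfirst : ∀ i ∈ S, ∀ j ∈ S, i ≠ a → i ≠ b → j ≠ a → j ≠ b → i ≠ j → three a j i ∈ Γ := by
    intro i hi j hj hia hib hja hjb hij
    have := hconj (h i hi hia hib) (hsecond i hi j hj hia hib hja hjb hij)
    rw [three_apply_mid hia.symm hib.symm, three_apply_right, three_apply_of_ne hja hjb hij.symm] at this
    rwa [three_rot hia hij hja.symm] at this
  have hA : ∀ j ∈ S, ∀ k ∈ S, j ≠ a → k ≠ a → j ≠ k → three a j k ∈ Γ := by
    intro j hj k hk hja hka hjk
    by_cases hjb : j = b
    · subst hjb; exact h k hk hka hjk.symm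
    by_cases hkb : k = b
    · subst hkb
      have := hinv (h j hj hja hjb)
      rwa [three_rot hjb hja hab.symm, three_rot hab.symm (Ne.symm hjb) (Ne.symm hja)] at this
    exact hfirst k hk j hj hka hkb hja hjb hjk.symm
  refine altOn_le fun u hu v hv w hw huv huw hvw => ?_
  by_cases hua : u = a
  · subst hua; exact hA v hv w hw huv.symm huw.symm hvw
  by_cases hva : v = a
  · subst hva
    rw [three_rot huv huw hvw]
    exact hA w hw u hu hvw.symm hua huw.symm
  by_cases hwa : w = a
  · subst hwa
    rw [three_rot huv huw hvw, three_rot hvw huv.symm huw.symm]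
    exact hA u hu v hv hua hva huv
  have h1 : three a u v ∈ Γ := hA u hu v hv hua hva huv
  have := hconj h1 (hA u hu w hw hua hwa huw)
  rwa [three_apply_left (Ne.symm hua) (Ne.symm hva), three_apply_mid (Ne.symm hva) huv,
    three_apply_of_ne hwa huw.symm hvw.symm] at this

/-- Two alternating groups with a common point generate. -/
theorem altOn_union_le {S T : Finset α} {Γ : Subgroup (Perm α)} (hS : altOn S ≤ Γ) (hT : altOn T ≤ Γ)
    (h3S : 3 ≤ S.card) (h3T : 3 ≤ T.card) {a : α} (haS : a ∈ S) (haT : a ∈ T) : altOn (S ∪ T) ≤ Γ := by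
  obtain ⟨b, hb, hba⟩ := Finset.exists_mem_ne (by omega : 1 < S.card) a
  refine altOn_le_of_pivot (Finset.mem_union_left _ haS) (Finset.mem_union_left _ hb) hba.symm fun i hi hia hib => ?_
  by_cases hiS : i ∈ S
  · exact hS (three_mem hba.symm hib.symm haS hb hiS)
  have hiT : i ∈ T := (Finset.mem_union.1 hi).resolve_left hiS
  by_cases hbT : b ∈ T
  · exact hT (three_mem hba.symm hib.symm haT hbT hiT)
  obtain ⟨c, hc, hcn⟩ : ∃ c ∈ T, c ∉ ({a, i} : Finset α) :=
    Finset.exists_mem_notMem_of_card_lt_card (by rw [Finset.card_pair hia.symm]; omega)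
  simp only [Finset.mem_insert, Finset.mem_singleton, not_or] at hcn
  obtain ⟨hca, hci⟩ := hcn
  have hcb : c ≠ b := fun e => hbT (e ▸ hc)
  have hg : three a c i ∈ Γ := hT (three_mem (Ne.symm hca) hci haT hc hiT)
  have hacb : three a c b ∈ Γ := by
    by_cases hcS : c ∈ S
    · exact hS (three_mem (Ne.symm hca) hcb haS hcS hb)
    obtain ⟨s, hs, hsn⟩ : ∃ s ∈ S, s ∉ ({a, b} : Finset α) :=
      Finset.exists_mem_notMem_of_card_lt_card (by rw [Finset.card_pair hba.symm]; omega)
    simp only [Finset.mem_insert, Finset.mem_singleton, not_or] at hsn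
    obtain ⟨hsa, hsb⟩ := hsn
    have hsc : s ≠ c := fun e => hcS (e ▸ hs)
    have hsi : s ≠ i := fun e => hiS (e ▸ hs)
    have h1 : three a s b ∈ Γ := hS (three_mem (Ne.symm hsa) hsb haS hs hb)
    have h2 : three c s b ∈ Γ := by
      have := mul_mem (mul_mem hg h1) (inv_mem hg)
      rwa [conj_three, three_apply_left (Ne.symm hca) hia.symm, three_apply_of_ne hsa hsc hsi,
        three_apply_of_ne hba hcb.symm hib.symm] at this
    have h3 : three a b c ∈ Γ := by
      have := mul_mem (mul_mem h2 h1) (inv_mem h2)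
      rwa [conj_three, three_apply_of_ne (Ne.symm hca) (Ne.symm hsa) hba.symm, three_apply_mid hcb hsb,
        three_apply_right] at this
    have := inv_mem h3
    rwa [three_inv, three_rot hcb hca hba, three_rot hba hcb.symm (Ne.symm hca)] at this
  refine altOn_le_of_pivot (S := ({a, b, c, i} : Finset α)) (a := a) (b := c) (by simp) (by simp)
    (Ne.symm hca) (fun z hz hza hzc => ?_) (three_mem hba.symm hib.symm (by simp) (by simp) (by simp))
  simp only [Finset.mem_insert, Finset.mem_singleton] at hz
  rcases hz with rfl | rfl | rfl | rfl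
  · exact absurd rfl hza
  · exact hacb
  · exact absurd rfl hzc
  · exact hg

end CfsgLib.Presentations
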