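import Cfsg.Agent.Lib.Presentations.Carmichael

/-!
Carmichael generators indexed by the points moved by a one-dimensional affine group, up to a central
element of order two, and the kernel of a map onto an alternating group.
-/

set_option autoImplicit false
set_option linter.unusedSectionVars false

open Subgroup Equiv

namespace CfsgLib.Presentations

variable {G : Type*} [Group G]

theorem commute_of_pair {g h c : G} (h1 : (g * h) ^ 2 = c) (hg : Commute g c) : Commute h c := by
  have hgh : Commute (g * h) c := by rw [← h1]; exact Commute.self_pow _ _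
  have := (hg.inv_left).mul_left hgh
  rwa [inv_mul_cancel_left] at this

theorem pair_swap {g h c : G} (h1 : (g * h) ^ 2 = c) (hg : Commute g c) : (h * g) ^ 2 = c := by
  calc (h * g) ^ 2 = g⁻¹ * (g * h) ^ 2 * g := by rw [sq, sq]; group
    _ = g⁻¹ * (g * c) := by rw [h1, mul_assoc, ← hg.eq]
    _ = c := inv_mul_cancel_left g c

/-- The centre of the binary tetrahedral relations has order at most two. -/
theorem sq_eq_one_of_tetrahedral {x y c : G} (hx : x ^ 3 = c) (hy : y ^ 3 = c) (hxy : (x * y) ^ 2 = c)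
    (hyx : (y * x) ^ 2 = c) : c ^ 2 = 1 := by
  have cx : Commute x c := by rw [← hx]; exact Commute.self_pow _ _
  have cy : Commute y c := by rw [← hy]; exact Commute.self_pow _ _
  set i := x * y with hi
  set j := y * x with hj
  set k := x⁻¹ * j * x with hk
  have e1 : y⁻¹ = x * y * x * c⁻¹ := by
    rw [← hyx, sq, hj]; group
  have e2 : y * y = y⁻¹ * c := by rw [← hy, pow_three]; group
  have e3 : x⁻¹ = x * x * c⁻¹ := by rw [← hx, pow_three]; group
  have hij : i * j = c * k := by
    calc i * j = x * (y * y) * x := by rw [hi, hj]; group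
      _ = x * y⁻¹ * (c * x) := by rw [e2]; group
      _ = x * y⁻¹ * (x * c) := by rw [← cx.eq]
      _ = x * x * y * x * (c⁻¹ * x) * c := by rw [e1]; group
      _ = x * x * y * x * (x * c⁻¹) * c := by rw [← (cx.inv_right).eq]
      _ = x * x * (y * x * x) := by group
      _ = c * x⁻¹ * (y * x * x) := by rw [e3, show c * (x * x * c⁻¹) = x * x from by
          rw [← mul_assoc, ← mul_assoc, ← cx.eq, mul_assoc x c x, ← cx.eq, ← mul_assoc, mul_inv_cancel_right]]
      _ = c * k := by rw [hk, hj]; group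
  have fi : x⁻¹ * i * x = j := by rw [hi, hj]; group
  have fk : x⁻¹ * k * x = i := by
    have : x * x * x = c := by rw [← hx, pow_three, mul_assoc]
    calc x⁻¹ * k * x = x⁻¹ * x⁻¹ * y * (x * x * x) := by rw [hk, hj]; group
      _ = x⁻¹ * x⁻¹ * (c * y) := by rw [this, mul_assoc, cy.eq]
      _ = i := by rw [hi, ← this]; group
  have hjk : j * k = c * i := by
    have := congrArg (fun g => x⁻¹ * g * x) hij
    calc j * k = x⁻¹ * (i * j) * x := by rw [hk, hi, hj]; group
      _ = x⁻¹ * (c * k) * x := this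
      _ = c * (x⁻¹ * k * x) := by rw [← mul_assoc, (cx.inv_left).eq]; group
      _ = c * i := by rw [fk]
  have cj : Commute j c := cy.mul_left cx
  have hconj : j * i * j⁻¹ = c * i := by
    have hk' : k = c⁻¹ * (i * j) := by rw [hij, inv_mul_cancel_left]
    have h' : j * i * j = c * (c * i) := by
      rw [← hjk, ← mul_assoc c j k, ← cj.eq, hk']; group
    have hjj : j⁻¹ = j * c⁻¹ := by rw [← hyx, sq, hj]; group
    rw [hjj, ← mul_assoc, h', mul_assoc, mul_assoc, (cx.mul_left cy).inv_right.eq, hi]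
    group
  have h2 : j * i ^ 2 * j⁻¹ = c * i * (c * i) := by rw [← hconj, sq]; group
  rw [hxy, cj.eq, mul_inv_cancel_right, mul_assoc, ← mul_assoc i, (cx.mul_left cy).eq, mul_assoc c i i, ← sq,
    hxy] at h2
  have : c * 1 = c * (c * c) := by rw [mul_one]; exact h2
  rw [sq]
  exact (mul_left_cancel this).symm

/-- The `i`-th translate of `x`. -/
def translate (a x : G) (i : ℕ) : G := a ^ i * x * (a ^ i)⁻¹

/-- Conjugation by `a` shifts. -/
theorem translate_succ (a x : G) (i : ℕ) : a * translate a x i * a⁻¹ = translate a x (i + 1) := by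
  rw [translate, translate, pow_succ']; group

theorem translate_shift (a x : G) (m i : ℕ) : a ^ m * translate a x i * (a ^ m)⁻¹ = translate a x (m + i) := by
  rw [translate, translate, pow_add]; group

section Affine

variable {p u r : ℕ} {a b x : G}

/-- The consequences of the relations of a one-dimensional affine group extended by one generator. -/
theorem affine_facts (hp : p.Prime) (h1 : a ^ p = b ^ (p - 1))
    (h2 : b * a ^ u * b⁻¹ = a ^ (u + 1)) (h3 : b * x * b⁻¹ = x⁻¹) (h4 : (x * (a * x * a⁻¹)) ^ 2 = x ^ 3)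
    (hu : u.Coprime p) (hr : r * u ≡ u + 1 [MOD p]) (hroot : ∀ d, 0 < d → d < p → ∃ j, r ^ j % p = d) :
    a ^ p = 1 ∧ (x ^ 3) ^ 2 = 1 ∧ Commute a (x ^ 3) ∧ (∀ i, translate a x i ^ 3 = x ^ 3) ∧
      (∀ i, Commute (translate a x i) (x ^ 3)) ∧
      (∀ i j, i % p ≠ j % p → (translate a x i * translate a x j) ^ 2 = x ^ 3) := by
  have hap : a ^ p = 1 := by
    have hb : Commute b (a ^ p) := by rw [h1]; exact Commute.self_pow _ _
    have h : (b * a ^ u * b⁻¹) ^ p = (a ^ (u + 1)) ^ p := by rw [h2]
    rw [conj_pow, ← pow_mul, ← pow_mul, mul_comm u p, pow_mul, (hb.pow_right u).eq, mul_inv_cancel_right,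
      ← pow_mul, add_mul, one_mul, pow_add, mul_comm u p] at h
    exact left_eq_mul.1 h
  have hmod : ∀ {m m' : ℕ}, m ≡ m' [MOD p] → a ^ m = a ^ m' := fun {m m'} h => by
    rw [pow_eq_pow_mod m hap, pow_eq_pow_mod m' hap, h]
  obtain ⟨v, hv⟩ : ∃ v, u * v ≡ 1 [MOD p] := by
    obtain ⟨v, -, hv⟩ := Nat.exists_mul_mod_eq_one_of_coprime hu hp.one_lt
    exact ⟨v, by rw [Nat.ModEq, hv, Nat.mod_eq_of_lt hp.one_lt]⟩
  have hba : b * a * b⁻¹ = a ^ r := by
    have e : a = a ^ (u * v) := by rw [hmod hv, pow_one]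
    conv_lhs => rw [e]
    rw [pow_mul, ← conj_pow, h2, ← pow_mul]
    refine hmod ?_
    calc (u + 1) * v ≡ r * u * v [MOD p] := (hr.symm.mul_right v)
      _ ≡ r * (u * v) [MOD p] := by rw [mul_assoc]
      _ ≡ r * 1 [MOD p] := hv.mul_left r
      _ = r := mul_one r
  have hbj : ∀ j, b ^ j * a * (b ^ j)⁻¹ = a ^ r ^ j := by
    intro j
    induction j with
    | zero => simp
    | succ j ih =>
      calc b ^ (j + 1) * a * (b ^ (j + 1))⁻¹ = b * (b ^ j * a * (b ^ j)⁻¹) * b⁻¹ := by rw [pow_succ']; group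
        _ = (b * a * b⁻¹) ^ r ^ j := by rw [ih, conj_pow]
        _ = a ^ r ^ (j + 1) := by rw [hba, ← pow_mul, ← pow_succ']
  have hbx : ∀ j, b ^ j * x * (b ^ j)⁻¹ = x ∨ b ^ j * x * (b ^ j)⁻¹ = x⁻¹ := by
    intro j
    induction j with
    | zero => left; simp
    | succ j ih =>
      have e : b ^ (j + 1) * x * (b ^ (j + 1))⁻¹ = b * (b ^ j * x * (b ^ j)⁻¹) * b⁻¹ := by rw [pow_succ']; group
      rcases ih with ih | ih
      · right; rw [e, ih, h3]
      · left; rw [e, ih, ← conj_inv, h3, inv_inv]
  have h0 : translate a x 0 = x := by simp [translate]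
  have key : ∀ d, 0 < d → d < p → (x * translate a x d) ^ 2 = x ^ 3 ∧ Commute (translate a x d) (x ^ 3) := by
    intro d hd hdp
    obtain ⟨j, hj⟩ := hroot d hd hdp
    have hd' : b ^ j * a * (b ^ j)⁻¹ = a ^ d := by rw [hbj, ← hj]; exact hmod (Nat.mod_modEq _ _).symm
    have hxa : b ^ j * (a * x * a⁻¹) * (b ^ j)⁻¹ = a ^ d * (b ^ j * x * (b ^ j)⁻¹) * (a ^ d)⁻¹ := by
      rw [← hd']; group
    have hx3 : Commute x (x ^ 3) := Commute.self_pow _ _
    have h := congrArg (fun g => b ^ j * g * (b ^ j)⁻¹) h4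
    rw [← conj_pow, ← conj_pow, show b ^ j * (x * (a * x * a⁻¹)) * (b ^ j)⁻¹ =
      (b ^ j * x * (b ^ j)⁻¹) * (b ^ j * (a * x * a⁻¹) * (b ^ j)⁻¹) by group, hxa] at h
    rcases hbx j with e | e <;> rw [e] at h
    · exact ⟨h, commute_of_pair h hx3⟩
    · have e' : a ^ d * x⁻¹ * (a ^ d)⁻¹ = (translate a x d)⁻¹ := by rw [translate]; group
      rw [e', ← mul_inv_rev, inv_pow, inv_pow, inv_inj] at h
      have hc : Commute (translate a x d) (x ^ 3) := by
        have hy : Commute (translate a x d * x) (x ^ 3) := by rw [← h]; exact Commute.self_pow _ _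
        have := hy.mul_left hx3.inv_left
        rwa [mul_inv_cancel_right] at this
      exact ⟨pair_swap h hc, hc⟩
  have hwrap : ∀ m i, translate a x (m + i) = a ^ m * translate a x i * (a ^ m)⁻¹ := fun m i =>
    (translate_shift a x m i).symm
  have htmod : ∀ i, translate a x i = translate a x (i % p) := fun i => by
    rw [translate, translate, pow_eq_pow_mod i hap]
  -- the cubes agree
  have hcube : ∀ d, 0 < d → d < p → translate a x d ^ 3 = x ^ 3 := by
    intro d hd hdp
    have h5 := (key (p - d) (by omega) (by omega)).1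
    have h6 := congrArg (fun g => a ^ d * g * (a ^ d)⁻¹) h5
    rw [← conj_pow, ← conj_pow, show a ^ d * (x * translate a x (p - d)) * (a ^ d)⁻¹ =
        translate a x d * (a ^ d * translate a x (p - d) * (a ^ d)⁻¹) by simp only [translate]; group,
      translate_shift, Nat.add_sub_cancel' hdp.le, htmod p, Nat.mod_self, h0] at h6
    obtain ⟨h7, h8⟩ := key d hd hdp
    exact h6.symm.trans (pair_swap h7 (Commute.self_pow _ _))
  have hcube' : ∀ i, translate a x i ^ 3 = x ^ 3 := fun i => by
    rw [htmod i]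
    rcases Nat.eq_zero_or_pos (i % p) with h | h
    · rw [h, h0]
    · exact hcube _ h (Nat.mod_lt _ hp.pos)
  have hac : Commute a (x ^ 3) := by
    have h := hcube' 1
    rw [translate, pow_one, conj_pow] at h
    exact mul_inv_eq_iff_eq_mul.1 h
  have hcom : ∀ i, Commute (translate a x i) (x ^ 3) := fun i => by rw [← hcube' i]; exact Commute.self_pow _ _
  refine ⟨hap, ?_, hac, hcube', hcom, fun i j hij => ?_⟩
  · have h1' := (key 1 one_pos hp.one_lt).1
    exact sq_eq_one_of_tetrahedral rfl (hcube 1 one_pos hp.one_lt) h1' (pair_swap h1' (Commute.self_pow _ _))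
  · have hlt : ∀ m n, m < n → n < p → (translate a x m * translate a x n) ^ 2 = x ^ 3 := by
      intro m n hmn hn
      have h := congrArg (fun g => a ^ m * g * (a ^ m)⁻¹) (key (n - m) (by omega) (by omega)).1
      rw [← conj_pow, (hac.pow_left m).eq, mul_inv_cancel_right,
        show a ^ m * (x * translate a x (n - m)) * (a ^ m)⁻¹ =
          translate a x m * (a ^ m * translate a x (n - m) * (a ^ m)⁻¹) by simp only [translate]; group,
        translate_shift, Nat.add_sub_cancel' hmn.le] at h
      exact h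
    rw [htmod i, htmod j]
    rcases lt_or_gt_of_ne hij with h | h
    · exact hlt _ _ h (Nat.mod_lt _ hp.pos)
    · exact pair_swap (hlt _ _ h (Nat.mod_lt _ hp.pos)) (hcom _)

end Affine

section Kernel

variable {α : Type*} [Fintype α] [DecidableEq α]

theorem card_altOn (S : Finset α) (h : 2 ≤ S.card) : S.card.factorial ≤ 2 * Nat.card (altOn S) := by
  have hnt : Nontrivial ↥S := Fintype.one_lt_card_iff_nontrivial.1 (by rw [Fintype.card_coe]; omega)
  let f : alternatingGroup ↥S → altOn S := fun g =>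
    ⟨Perm.ofSubtype (g : Perm ↥S), by rw [Perm.sign_ofSubtype]; exact Perm.mem_alternatingGroup.1 g.2,
      fun z hz => Perm.ofSubtype_apply_of_not_mem _ hz⟩
  have hinj : Function.Injective f := fun g g' h =>
    Subtype.ext (Perm.ofSubtype_injective (congrArg Subtype.val h))
  have h1 := Nat.card_le_card_of_injective f hinj
  have h2 := two_mul_nat_card_alternatingGroup (α := ↥S)
  rw [Nat.card_perm, Nat.card_eq_fintype_card (α := ↥S), Fintype.card_coe] at h2
  omega

/-- A group with Carmichael's relations modulo a central element maps to an alternating group with small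
kernel. -/
theorem ker_le (π : G →* Perm α) (s : Finset G) (hne : s.Nonempty) {S : Finset α} (hcard : s.card + 2 ≤ S.card)
    (c : G) (hc : ∀ g ∈ s, Commute g c) (hπc : π c = 1) (h3 : ∀ x ∈ s, x ^ 3 ∈ zpowers c)
    (h2 : ∀ x ∈ s, ∀ y ∈ s, x ≠ y → (x * y) ^ 2 ∈ zpowers c)
    (hS : altOn S ≤ (closure (s : Set G)).map π) :
    ∀ g ∈ closure (s : Set G), π g = 1 → g ∈ zpowers c := by
  classical
  set X := closure (s : Set G) with hX
  have hcen : ∀ g ∈ X, Commute g c := fun g hg => by
    induction hg using closure_induction with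
    | mem g hg => exact hc g hg
    | one => exact Commute.one_left c
    | mul a b _ _ ha hb => exact ha.mul_left hb
    | inv a _ ha => exact ha.inv_left
  set C := (zpowers c).subgroupOf X with hC
  have : C.Normal := ⟨fun z hz g => by
    rw [hC, mem_subgroupOf] at hz ⊢
    obtain ⟨m, hm⟩ := mem_zpowers_iff.1 hz
    push_cast
    rw [← hm, ((hcen g g.2).zpow_right m).eq, mul_inv_cancel_right]
    exact mem_zpowers_iff.2 ⟨m, rfl⟩⟩
  let q : ↥X →* ↥X ⧸ C := QuotientGroup.mk' C
  have hq : ∀ g : ↥X, q g = 1 ↔ (g : G) ∈ zpowers c := fun g => QuotientGroup.eq_one_iff g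
  set s' : Finset (↥X ⧸ C) := s.attach.image fun z => q ⟨z.1, subset_closure z.2⟩ with hs'
  have hne' : s'.Nonempty := (Finset.attach_nonempty_iff.2 hne).image _
  have hmem : ∀ z ∈ s', ∃ y : G, ∃ hy : y ∈ s, q ⟨y, subset_closure hy⟩ = z := fun z hz => by
    obtain ⟨y, -, rfl⟩ := Finset.mem_image.1 hz
    exact ⟨y.1, y.2, rfl⟩
  obtain ⟨hfin, hle⟩ := closure_bound s' hne' (fun z hz => by
      obtain ⟨y, hy, rfl⟩ := hmem z hz
      rw [← map_pow, hq]; exact h3 y hy) (fun z hz z' hz' hne => by
      obtain ⟨y, hy, rfl⟩ := hmem z hz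
      obtain ⟨y', hy', rfl⟩ := hmem z' hz'
      rw [← map_mul, ← map_pow, hq]; exact h2 y hy y' hy' fun e => hne (by subst e; rfl))
  have htop : closure (s' : Set (↥X ⧸ C)) = ⊤ := by
    have h : closure ((↑) ⁻¹' (s : Set G) : Set ↥X) = ⊤ := closure_closure_coe_preimage
    rw [eq_top_iff, ← map_top_of_surjective q (QuotientGroup.mk'_surjective C), ← h, MonoidHom.map_closure,
      closure_le]
    rintro _ ⟨z, hz, rfl⟩
    exact subset_closure (Finset.mem_image.2 ⟨⟨z, hz⟩, Finset.mem_attach _ _, rfl⟩)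
  have hfinQ : Finite (↥X ⧸ C) := by
    rw [htop] at hfin
    exact Finite.of_equiv _ Subgroup.topEquiv.toEquiv
  rw [htop, Nat.card_congr Subgroup.topEquiv.toEquiv] at hle
  have hker : C ≤ (π.comp X.subtype).ker := fun z hz => by
    obtain ⟨m, hm⟩ := mem_zpowers_iff.1 (mem_subgroupOf.1 hz)
    rw [MonoidHom.mem_ker, MonoidHom.comp_apply, Subgroup.coe_subtype, ← hm, map_zpow, hπc, one_zpow]
  let f : ↥X ⧸ C →* Perm α := QuotientGroup.lift C (π.comp X.subtype) hker
  have hrange : altOn S ≤ f.range := fun σ hσ => by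
    obtain ⟨g, hg, rfl⟩ := hS hσ
    exact ⟨q ⟨g, hg⟩, rfl⟩
  have hbij : Function.Bijective f.rangeRestrict := by
    refine (Nat.bijective_iff_surjective_and_card _).2
      ⟨f.rangeRestrict_surjective, le_antisymm ?_ (Nat.card_le_card_of_surjective _ f.rangeRestrict_surjective)⟩
    have h1 := Finset.card_image_le (s := s.attach) (f := fun z => q ⟨z.1, subset_closure z.2⟩)
    rw [← hs', Finset.card_attach] at h1
    have h5 := card_altOn S (by omega)
    have h6 := Nat.card_le_card_of_injective _ (Subgroup.inclusion_injective hrange)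
    have h7 := Nat.factorial_le (by omega : s'.card + 2 ≤ S.card)
    omega
  intro g hg hg1
  have : f.rangeRestrict (q ⟨g, hg⟩) = f.rangeRestrict 1 := Subtype.ext (by
    rw [map_one]; exact hg1)
  exact (hq _).1 (hbij.1 this)

end Kernel

end CfsgLib.Presentations
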