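import Cfsg.Agent.Lib.Presentations.Carmichael

/-!
Presentations with few relators: recognition inside a bigger group and change of generators.
-/

set_option autoImplicit false

open Subgroup

namespace CfsgLib.Presentations

/-- A presentation on `g` generators with at most `k` relators of a subgroup, sending the generators to the
given elements. -/
def HasPres {P : Type*} [Group P] (g k : ℕ) (t : Fin g → P) (T : Subgroup P) : Prop :=
  closure (Set.range t) = T ∧ ∃ rels : Finset (FreeGroup (Fin g)), rels.card ≤ k ∧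
    ∃ π : PresentedGroup (↑rels : Set (FreeGroup (Fin g))) →* P, Function.Injective π ∧
      ∀ i, π (PresentedGroup.of i) = t i

theorem range_eq_closure {ι : Type*} {rels : Set (FreeGroup ι)} {P : Type*} [Group P]
    (π : PresentedGroup rels →* P) {t : ι → P} (ht : ∀ i, π (PresentedGroup.of i) = t i) :
    π.range = closure (Set.range t) := by
  rw [MonoidHom.range_eq_map, ← PresentedGroup.closure_range_of, MonoidHom.map_closure, ← Set.range_comp]
  congr 2
  exact funext ht

theorem HasPres.exists_equiv {P : Type*} [Group P] {g k : ℕ} {t : Fin g → P} {T : Subgroup P}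
    (h : HasPres g k t T) : ∃ rels : Finset (FreeGroup (Fin g)), rels.card ≤ k ∧
      ∃ e : PresentedGroup (↑rels : Set (FreeGroup (Fin g))) ≃* T, ∀ i, (e (PresentedGroup.of i) : P) = t i := by
  obtain ⟨hT, rels, hk, π, hinj, ht⟩ := h
  have hr : π.range = T := (range_eq_closure π ht).trans hT
  refine ⟨rels, hk, ?_⟩
  subst hr
  exact ⟨MonoidHom.ofInjective hinj, fun i => (MonoidHom.ofInjective_apply (f := π) (hf := hinj)).trans (ht i)⟩

theorem HasPres.mono {P : Type*} [Group P] {g k k' : ℕ} {t : Fin g → P} {T : Subgroup P}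
    (h : HasPres g k t T) (hk : k ≤ k') : HasPres g k' t T := by
  obtain ⟨hT, rels, h1, h2⟩ := h
  exact ⟨hT, rels, h1.trans hk, h2⟩

/-- Substituting generators keeps a presentation injective. -/
theorem injective_of_subst {P : Type*} [Group P] {g g' : ℕ} {rels : Set (FreeGroup (Fin g))}
    {rels' : Set (FreeGroup (Fin g'))} (π : PresentedGroup rels →* P) (hinj : Function.Injective π)
    (W : Fin g → FreeGroup (Fin g')) (π' : PresentedGroup rels' →* P)
    (hW : ∀ i, π' (PresentedGroup.mk rels' (W i)) = π (PresentedGroup.of i))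
    (hold : ∀ r ∈ rels, FreeGroup.lift W r ∈ rels')
    (hgen : ∀ j, PresentedGroup.of j ∈ closure (Set.range fun i => PresentedGroup.mk rels' (W i))) :
    Function.Injective π' := by
  have hrel' : ∀ r ∈ rels, FreeGroup.lift (fun i => PresentedGroup.mk rels' (W i)) r = 1 := by
    intro r hr
    have : FreeGroup.lift (fun i => PresentedGroup.mk rels' (W i)) =
        (PresentedGroup.mk rels').comp (FreeGroup.lift W) := FreeGroup.ext_hom _ _ fun i => by simp
    rw [this, MonoidHom.comp_apply]
    exact PresentedGroup.one_of_mem (hold r hr)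
  let φ := PresentedGroup.toGroup hrel'
  have hφ : ∀ i, φ (PresentedGroup.of i) = PresentedGroup.mk rels' (W i) := fun i =>
    PresentedGroup.toGroup.of hrel'
  have hsurj : Function.Surjective φ := by
    rw [← MonoidHom.range_eq_top, eq_top_iff, ← PresentedGroup.closure_range_of, closure_le]
    rintro _ ⟨j, rfl⟩
    refine (closure_le _).2 ?_ (hgen j)
    rintro _ ⟨i, rfl⟩
    exact ⟨PresentedGroup.of i, hφ i⟩
  have hcomp : π'.comp φ = π := PresentedGroup.ext fun i => by
    rw [MonoidHom.comp_apply, hφ, hW]
  rw [injective_iff_map_eq_one]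
  intro y hy
  obtain ⟨x, rfl⟩ := hsurj y
  rw [← MonoidHom.comp_apply, hcomp] at hy
  rw [(injective_iff_map_eq_one π).1 hinj x hy, map_one]

/-- Change of generators. -/
theorem HasPres.transfer {P : Type*} [Group P] {g k g' : ℕ} {t : Fin g → P} {T : Subgroup P}
    (h : HasPres g k t T) (s : Fin g' → P) (hs : closure (Set.range s) = T)
    (W : Fin g → FreeGroup (Fin g')) (hW : ∀ i, FreeGroup.lift s (W i) = t i)
    (E : Finset (FreeGroup (Fin g'))) (hE : ∀ e ∈ E, FreeGroup.lift s e = 1)
    (hgen : ∀ {Q : Type} [Group Q] (f : FreeGroup (Fin g') →* Q), (∀ e ∈ E, f e = 1) →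
      ∀ j, f (FreeGroup.of j) ∈ closure (Set.range fun i => f (W i))) :
    HasPres g' (k + E.card) s T := by
  classical
  obtain ⟨-, rels, hk, π, hinj, ht⟩ := h
  have hπ : π.comp (PresentedGroup.mk (rels : Set (FreeGroup (Fin g)))) = FreeGroup.lift t := by
    refine FreeGroup.ext_hom _ _ fun i => ?_
    rw [MonoidHom.comp_apply, FreeGroup.lift_apply_of]; exact ht i
  have hsub : (FreeGroup.lift s).comp (FreeGroup.lift W) = FreeGroup.lift t := FreeGroup.ext_hom _ _ fun i => by
    simp [hW]
  obtain ⟨rels', hcard, hold, hnew, hrel⟩ : ∃ rels' : Finset (FreeGroup (Fin g')), rels'.card ≤ k + E.card ∧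
      (∀ r ∈ rels, FreeGroup.lift W r ∈ rels') ∧ (∀ e ∈ E, e ∈ rels') ∧
      ∀ r ∈ (↑rels' : Set (FreeGroup (Fin g'))), FreeGroup.lift s r = 1 := by
    refine ⟨rels.image (FreeGroup.lift W) ∪ E, (Finset.card_union_le _ _).trans
      (Nat.add_le_add_right (Finset.card_image_le.trans hk) _),
      fun r hr => Finset.mem_union_left _ (Finset.mem_image_of_mem _ hr),
      fun e he => Finset.mem_union_right _ he, ?_⟩
    intro r hr
    rcases Finset.mem_union.1 hr with hr | hr
    · obtain ⟨r₀, hr₀, rfl⟩ := Finset.mem_image.1 hr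
      rw [← MonoidHom.comp_apply, hsub, ← hπ, MonoidHom.comp_apply, PresentedGroup.one_of_mem hr₀, map_one]
    · exact hE r hr
  let π' : PresentedGroup (↑rels' : Set (FreeGroup (Fin g'))) →* P := PresentedGroup.toGroup (f := s) hrel
  have h1 : ∀ j, π' (PresentedGroup.of j) = s j := fun j => PresentedGroup.toGroup.of (f := s) hrel
  have h2 : π'.comp (PresentedGroup.mk _) = FreeGroup.lift s := FreeGroup.ext_hom _ _ fun j => by
    rw [MonoidHom.comp_apply, FreeGroup.lift_apply_of]; exact h1 j
  have h3 : Function.Injective π' := injective_of_subst π hinj W π'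
    (fun i => by rw [← MonoidHom.comp_apply, h2, ht]; exact hW i) hold
    (fun j => hgen (PresentedGroup.mk _) (fun e he => PresentedGroup.one_of_mem (hnew e he)) j)
  exact ⟨hs, rels', hcard, π', h3, h1⟩

end CfsgLib.Presentations
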