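import Cfsg.Agent.Lib.Presentations.Affine
import Cfsg.Agent.Lib.Presentations.Pres

/-!
Points, relator lists and the two targets.
-/

set_option autoImplicit false
set_option linter.unusedSectionVars false

open Equiv Equiv.Perm Subgroup

namespace CfsgLib.Presentations

/-- The points of `Fin n` as a sequence. -/
def point {n : ℕ} (hn : 0 < n) (i : ℕ) : Fin n := ⟨i % n, Nat.mod_lt _ hn⟩

theorem point_injOn {n : ℕ} (hn : 0 < n) {m : ℕ} (hm : m ≤ n) : Set.InjOn (point hn) (Set.Iio m) := by
  intro i hi j hj e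
  have := congrArg Fin.val e
  simp only [point, Set.mem_Iio] at *
  rwa [Nat.mod_eq_of_lt (by omega), Nat.mod_eq_of_lt (by omega)] at this

theorem seqSet_point {n : ℕ} (hn : 0 < n) : seqSet (point hn) n = Finset.univ := by
  ext z
  simp only [Finset.mem_univ, iff_true, mem_seqSet]
  exact ⟨z, z.2, Fin.ext (Nat.mod_eq_of_lt z.2)⟩

/-- Evaluation of a presented group. -/
theorem HasPres.intro {P : Type*} [Group P] {g k : ℕ} (t : Fin g → P) {T : Subgroup P}
    (hT : closure (Set.range t) = T) (rels : List (FreeGroup (Fin g))) (hk : rels.length ≤ k)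
    (hrel : ∀ r ∈ rels, FreeGroup.lift t r = 1)
    (hinj : ∀ {G : Type} [Group G] (q : FreeGroup (Fin g) →* G) (π : G →* P), Function.Surjective q →
      π.comp q = FreeGroup.lift t → (∀ r ∈ rels, q r = 1) → ∀ x, π x = 1 → x = 1) :
    HasPres g k t T := by
  classical
  refine ⟨hT, rels.toFinset, (List.toFinset_card_le _).trans hk, ?_⟩
  have hrel' : ∀ r ∈ (↑rels.toFinset : Set (FreeGroup (Fin g))), FreeGroup.lift t r = 1 := fun r hr =>
    hrel r (List.mem_toFinset.1 (Finset.mem_coe.1 hr))
  let π : PresentedGroup (↑rels.toFinset : Set (FreeGroup (Fin g))) →* P :=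
    PresentedGroup.toGroup (f := t) hrel'
  have h1 : ∀ i, π (PresentedGroup.of i) = t i := fun i => PresentedGroup.toGroup.of (f := t) hrel'
  have h2 : π.comp (PresentedGroup.mk _) = FreeGroup.lift t := by
    refine FreeGroup.ext_hom _ _ fun i => ?_
    rw [MonoidHom.comp_apply, FreeGroup.lift_apply_of]; exact h1 i
  refine ⟨π, (injective_iff_map_eq_one π).2 ?_, h1⟩
  exact hinj (PresentedGroup.mk _) π (PresentedGroup.mk_surjective _) h2
    fun r hr => PresentedGroup.one_of_mem (Finset.mem_coe.2 (List.mem_toFinset.2 hr))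

variable {n : ℕ}

theorem closure_range_even {g : ℕ} {t : Fin g → Perm (Fin n)}
    (h : altOn Finset.univ ≤ closure (Set.range t)) (hs : ∀ i, sign (t i) = 1) :
    closure (Set.range t) = alternatingGroup (Fin n) := by
  refine le_antisymm ((closure_le _).2 ?_) fun σ hσ => h (mem_altOn.2 ⟨Perm.mem_alternatingGroup.1 hσ,
    fun z hz => absurd (Finset.mem_univ z) hz⟩)
  rintro _ ⟨i, rfl⟩
  exact Perm.mem_alternatingGroup.2 (hs i)

theorem closure_range_odd {g : ℕ} {t : Fin g → Perm (Fin n)}
    (h : altOn Finset.univ ≤ closure (Set.range t)) (i : Fin g) (hs : sign (t i) = -1) :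
    closure (Set.range t) = ⊤ := by
  rw [eq_top_iff]
  intro σ _
  rcases Int.units_eq_one_or (sign σ) with e | e
  · exact h (mem_altOn.2 ⟨e, fun z hz => absurd (Finset.mem_univ z) hz⟩)
  · have := h (show σ * (t i)⁻¹ ∈ altOn Finset.univ from mem_altOn.2
      ⟨by rw [map_mul, map_inv, e, hs]; rfl, fun z hz => absurd (Finset.mem_univ z) hz⟩)
    simpa using mul_mem this (subset_closure ⟨i, rfl⟩ : t i ∈ closure (Set.range t))

theorem map_wordsOne_le {P : Type*} [Group P] (t : Fin 3 → P) :
    wordsOne.map (FreeGroup.lift t) ≤ closure (Set.range t) := by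
  rw [← FreeGroup.range_lift_eq_closure]
  exact fun x ⟨y, _, hy⟩ => ⟨y, hy⟩

end CfsgLib.Presentations
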