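import Cfsg.Agent.Lib.Presentations.Glue

/-!
The glued group maps injectively to the permutation group.
-/

set_option autoImplicit false
set_option linter.unusedSectionVars false

open Subgroup Equiv

namespace CfsgLib.Presentations

variable {G : Type*} [Group G] {α : Type*} [Fintype α] [DecidableEq α] {π : G →* Perm α}
  {H : Subgroup G} {c w : G} {Ω₁ : Finset α}

/-- The position of the overlap and of the gluing elements among the points. -/
structure Layout (π : G →* Perm α) (a b w : G) (Ω₁ Q I I₀ : Finset α) (P₁ P₂ i₀ : α) : Prop where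
  pivot_ne : P₁ ≠ P₂
  pivot₁ : P₁ ∈ I₀
  pivot₂ : P₂ ∈ I₀
  base : i₀ ∈ I
  base₁ : i₀ ≠ P₁
  base₂ : i₀ ≠ P₂
  sub₀ : I₀ ⊆ I
  sub : I ⊆ Ω₁
  cover : ∀ z, z ∈ Ω₁ ∨ z ∈ Q
  disj : ∀ q ∈ Q, q ∉ Ω₁
  image : Ω₁.image (π w) = Q ∪ I
  fix₀ : ∀ z, z ∉ I₀ → π a z ∉ I₀
  pivots : π a P₁ = P₁ ∧ π a P₂ = P₂ ∨ π a P₁ = P₂ ∧ π a P₂ = P₁
  fixQ : ∀ q ∈ Q, π a q = q
  orbit : ∀ p ∈ Ω₁, p ∉ I → ∃ j : ℕ, (π a ^ j) i₀ = p
  gen : altOn (Q ∪ I₀) ≤ closure (insert (π b) (altOn I₀ : Set (Perm α)))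

theorem GlueData.copy_onto (hd : GlueData π H c w Ω₁) : altOn (Ω₁.image (π w)) ≤ (copyTwo H w).map π := by
  intro σ hσ
  have h : (π w)⁻¹ * σ * π w ∈ altOn Ω₁ := mem_altOn.2 ⟨by
    rw [map_mul, map_mul, map_inv, (mem_altOn.1 hσ).1, mul_one, inv_mul_cancel], fun z hz => by
    rw [Perm.mul_apply, Perm.mul_apply, (mem_altOn.1 hσ).2 (π w z) fun h => ?_]
    · exact (π w).symm_apply_apply z
    · obtain ⟨t, ht, e⟩ := Finset.mem_image.1 h
      exact hz ((π w).injective e ▸ ht)⟩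
  obtain ⟨h, hh, he⟩ := hd.onto h
  refine ⟨w * h * w⁻¹, conj_mem_copyTwo hh, ?_⟩
  rw [map_mul, map_mul, map_inv, he]
  group

theorem GlueData.copy_img (hd : GlueData π H c w Ω₁) {g : G} (hg : g ∈ copyTwo H w) :
    π g ∈ altOn (Ω₁.image (π w)) := by
  obtain ⟨h, hh, rfl⟩ := mem_copyTwo.1 hg
  obtain ⟨h1, h2⟩ := mem_altOn.1 (hd.img h hh)
  refine mem_altOn.2 ⟨by rw [map_mul, map_mul, map_inv, map_mul, map_mul, map_inv, mul_inv_cancel_comm, h1],
    fun z hz => ?_⟩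
  obtain ⟨t, rfl⟩ := (π w).surjective z
  rw [map_mul, map_mul, map_inv, Perm.mul_apply, Perm.mul_apply,
    show (π w)⁻¹ (π w t) = t from (π w).symm_apply_apply t,
    h2 t fun ht => hz (Finset.mem_image_of_mem _ ht)]

variable {a b : G} {Q I I₀ : Finset α} {P₁ P₂ i₀ : α}

/-- The two copies generate a central extension of the alternating group. -/
theorem GlueData.glue_ker (hd : GlueData π H c w Ω₁) (hc : ∀ g : G, Commute g c)
    (hL : Layout π a b w Ω₁ Q I I₀ P₁ P₂ i₀)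
    (hI : ∀ {g : G}, π g ∈ altOn I → (g ∈ H → g ∈ copyTwo H w) ∧ (g ∈ copyTwo H w → g ∈ H))
    (ha : a ∈ H) (hb : b ∈ copyTwo H w) (hab : a * b * a⁻¹ * b⁻¹ ∈ zpowers c) :
    ∃ N : Subgroup G, H ≤ N ∧ copyTwo H w ≤ N ∧ N ≤ H ⊔ copyTwo H w ∧ altOn Finset.univ ≤ N.map π ∧
      (∀ g ∈ N, Perm.sign (π g) = 1) ∧ ∀ g ∈ N, π g = 1 → g ∈ zpowers c := by
  classical
  have hP1 : P₁ ∈ I := hL.sub₀ hL.pivot₁
  have hP2 : P₂ ∈ I := hL.sub₀ hL.pivot₂
  have hsubI : ∀ z, z ∈ Q ∪ I → z ∈ Ω₁.image (π w) := fun z hz => by rw [hL.image]; exact hz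
  have hex : ∀ z, ∃ g : G, z ≠ P₁ → z ≠ P₂ → π g = three P₁ P₂ z ∧
      (z ∈ Ω₁ → g ∈ H) ∧ (z ∈ Q ∪ I → g ∈ copyTwo H w) := by
    intro z
    by_cases h : z ≠ P₁ ∧ z ≠ P₂
    · by_cases hz : z ∈ Ω₁
      · obtain ⟨g, hg, hπg⟩ := hd.onto (three_mem hL.pivot_ne h.2.symm (hL.sub hP1) (hL.sub hP2) hz)
        refine ⟨g, fun _ _ => ⟨hπg, fun _ => hg, fun hzQI => (hI ?_).1 hg⟩⟩
        rw [hπg]
        exact three_mem hL.pivot_ne h.2.symm hP1 hP2
          ((Finset.mem_union.1 hzQI).resolve_left fun hq => hL.disj z hq hz)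
      · obtain ⟨g, hg, hπg⟩ := hd.copy_onto (three_mem hL.pivot_ne h.2.symm
          (hsubI _ (Finset.mem_union_right _ hP1)) (hsubI _ (Finset.mem_union_right _ hP2))
          (hsubI z (Finset.mem_union_left _ ((hL.cover z).resolve_left hz))))
        exact ⟨g, fun _ _ => ⟨hπg, fun h => absurd h hz, fun _ => hg⟩⟩
    · exact ⟨1, fun h1 h2 => absurd ⟨h1, h2⟩ h⟩
  choose f hf using hex
  have hI₀onto : altOn I₀ ≤ (copyTwo H w).map π :=
    (altOn_mono fun z hz => hsubI z (Finset.mem_union_right _ (hL.sub₀ hz))).trans hd.copy_onto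
  have hQne : ∀ q ∈ Q, q ≠ P₁ ∧ q ≠ P₂ := fun q hq =>
    ⟨fun e => hL.disj q hq (e ▸ hL.sub hP1), fun e => hL.disj q hq (e ▸ hL.sub hP2)⟩
  have horb : ∀ j : ℕ, (π a ^ j) i₀ ≠ P₁ ∧ (π a ^ j) i₀ ≠ P₂ := by
    intro j
    induction j with
    | zero => exact ⟨by simpa using hL.base₁, by simpa using hL.base₂⟩
    | succ j ih =>
      rw [pow_succ', Perm.mul_apply]
      rcases hL.pivots with ⟨h1, h2⟩ | ⟨h1, h2⟩
      · exact ⟨fun e => ih.1 ((π a).injective (e.trans h1.symm)), fun e => ih.2 ((π a).injective (e.trans h2.symm))⟩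
      · exact ⟨fun e => ih.2 ((π a).injective (e.trans h2.symm)), fun e => ih.1 ((π a).injective (e.trans h1.symm))⟩
  have hgood : ∀ (j : ℕ), ∀ q ∈ Q, ∀ g ∈ H, ∀ y ∈ copyTwo H w, π g = three P₁ P₂ ((π a ^ j) i₀) →
      π y = three P₁ P₂ q → (g * y) ^ 2 ∈ zpowers c := by
    intro j
    induction j with
    | zero =>
      intro q hq g hg y hy hπg hπy
      rw [pow_zero, Perm.one_apply] at hπg
      refine hd.sq_mem_right hc ((hI ?_).1 hg) hy ?_
      · rw [hπg]; exact three_mem hL.pivot_ne hL.base₂.symm hP1 hP2 hL.base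
      · rw [hπg, hπy]
        exact three_pair hL.pivot_ne hL.base₁ hL.base₂ (hQne q hq).1 (hQne q hq).2
          fun e : i₀ = q => hL.disj q hq (e ▸ hL.sub hL.base)
    | succ j ih =>
      intro q hq g' hg' y' hy' hπg' hπy'
      obtain ⟨hp1, hp2⟩ := horb j
      rw [pow_succ', Perm.mul_apply] at hπg'
      have hmem : (π a ^ j) i₀ ∈ Ω₁ := by
        have hfix := (mem_altOn.1 (hd.img _ (pow_mem ha j))).2
        rw [map_pow] at hfix
        by_contra hout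
        have := (π a ^ j).injective (hfix _ hout)
        exact hout (by rw [this]; exact hL.sub hL.base)
      obtain ⟨g, hg, hπg⟩ := hd.onto (three_mem hL.pivot_ne hp2.symm (hL.sub hP1) (hL.sub hP2) hmem)
      have hay : a * y' * a⁻¹ ∈ copyTwo H w :=
        hd.normalises hc hI hL.sub₀ hI₀onto ha hb hab hL.fix₀ hL.gen hy' (by
          rw [hπy']
          exact three_mem hL.pivot_ne (hQne q hq).2.symm (Finset.mem_union_right _ hL.pivot₁)
            (Finset.mem_union_right _ hL.pivot₂) (Finset.mem_union_left _ hq))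
      exact hd.pair_move hc hL.pivots (hL.fixQ q hq) hL.pivot_ne hp1 hp2 (hQne q hq).1 (hQne q hq).2 ha hg
        hay hπg hπy' (ih q hq g hg y' hy' hπg hπy') hg' hy' hπg' hπy'
  set T : Finset α := (Finset.univ.erase P₁).erase P₂ with hT
  set s : Finset G := T.image f with hs
  have hTmem : ∀ z ∈ T, z ≠ P₁ ∧ z ≠ P₂ := fun z hz => by
    simp only [hT, Finset.mem_erase] at hz; exact ⟨hz.2.1, hz.1⟩
  have hmemT : ∀ z, z ≠ P₁ → z ≠ P₂ → z ∈ T := fun z h1 h2 => by simp [hT, h1, h2]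
  have hπc : ∀ z ∈ zpowers c, π z = 1 := fun z hz => by
    obtain ⟨m, rfl⟩ := mem_zpowers_iff.1 hz
    rw [map_zpow, hd.c_map, one_zpow]
  -- every pair of generators satisfies Carmichael's relation
  have hpairs : ∀ i ∈ T, ∀ j ∈ T, i ≠ j → (f i * f j) ^ 2 ∈ zpowers c := by
    have hswap : ∀ g y : G, (g * y) ^ 2 ∈ zpowers c → (y * g) ^ 2 ∈ zpowers c := fun g y h => by
      rw [show (y * g) ^ 2 = y * (g * y) ^ 2 * y⁻¹ by rw [sq, sq]; group]
      obtain ⟨m, hm⟩ := mem_zpowers_iff.1 h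
      rw [← hm, ((hc y).zpow_right m).eq, mul_inv_cancel_right]
      exact mem_zpowers_iff.2 ⟨m, rfl⟩
    have hmixed : ∀ i ∈ T, ∀ j ∈ T, i ∈ Ω₁ → j ∈ Q → (f i * f j) ^ 2 ∈ zpowers c := by
      intro i hi j hj hiΩ hjQ
      obtain ⟨hπi, hiH, hiH'⟩ := hf i (hTmem i hi).1 (hTmem i hi).2
      obtain ⟨hπj, -, hjH'⟩ := hf j (hTmem j hj).1 (hTmem j hj).2
      have hne : i ≠ j := fun e => hL.disj j hjQ (e ▸ hiΩ)
      by_cases hiI : i ∈ I
      · refine hd.sq_mem_right hc (hiH' (Finset.mem_union_right _ hiI)) (hjH' (Finset.mem_union_left _ hjQ)) ?_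
        rw [hπi, hπj]
        exact three_pair hL.pivot_ne (hTmem i hi).1 (hTmem i hi).2 (hTmem j hj).1 (hTmem j hj).2 hne
      · obtain ⟨k, hk⟩ := hL.orbit i hiΩ hiI
        exact hgood k j hjQ _ (hiH hiΩ) _ (hjH' (Finset.mem_union_left _ hjQ)) (by rw [hk]; exact hπi) hπj
    intro i hi j hj hne
    obtain ⟨hπi, hiH, hiH'⟩ := hf i (hTmem i hi).1 (hTmem i hi).2
    obtain ⟨hπj, hjH, hjH'⟩ := hf j (hTmem j hj).1 (hTmem j hj).2
    have hsq : (π (f i) * π (f j)) ^ 2 = 1 := by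
      rw [hπi, hπj]
      exact three_pair hL.pivot_ne (hTmem i hi).1 (hTmem i hi).2 (hTmem j hj).1 (hTmem j hj).2 hne
    rcases hL.cover i with h1 | h1 <;> rcases hL.cover j with h2 | h2
    · exact hd.sq_mem_left (hiH h1) (hjH h2) hsq
    · exact hmixed i hi j hj h1 h2
    · exact hswap _ _ (hmixed j hj i hi h2 h1)
    · exact hd.sq_mem_right hc (hiH' (Finset.mem_union_left _ h1)) (hjH' (Finset.mem_union_left _ h2)) hsq
  have hcubes : ∀ i ∈ T, f i ^ 3 ∈ zpowers c := by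
    intro i hi
    obtain ⟨hπi, hiH, hiH'⟩ := hf i (hTmem i hi).1 (hTmem i hi).2
    have h3 : π (f i) ^ 3 = 1 := by
      rw [hπi]
      have := Perm.IsThreeCycle.orderOf (Perm.isThreeCycle_swap_mul_swap_same hL.pivot_ne.symm
        (hTmem i hi).2.symm (hTmem i hi).1.symm)
      rw [three, swap_comm P₁ P₂]
      exact orderOf_dvd_iff_pow_eq_one.1 (dvd_of_eq this)
    rcases hL.cover i with h | h
    · exact hd.ker _ (pow_mem (hiH h) 3) (by rw [map_pow, h3])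
    · obtain ⟨z, hz, e⟩ := hd.congr_right hc (pow_mem (hiH' (Finset.mem_union_left _ h)) 3) (one_mem _)
        (by rw [map_pow, h3, map_one])
      rwa [e, mul_one]
  have himg : ∀ {g}, g ∈ closure (s : Set G) → π g ∈ altOn Finset.univ := by
    intro g hg
    refine ((closure_le (K := (altOn Finset.univ).comap π)).2 ?_ hg)
    intro y hy
    obtain ⟨i, hi, rfl⟩ := Finset.mem_image.1 hy
    show π (f i) ∈ altOn Finset.univ
    rw [(hf i (hTmem i hi).1 (hTmem i hi).2).1]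
    exact three_mem hL.pivot_ne (hTmem i hi).2.symm (Finset.mem_univ _) (Finset.mem_univ _) (Finset.mem_univ _)
  have honto : altOn Finset.univ ≤ (closure (s : Set G)).map π := by
    refine altOn_le_of_pivot (Finset.mem_univ P₁) (Finset.mem_univ P₂) hL.pivot_ne fun i _ h1 h2 => ?_
    exact ⟨f i, subset_closure (Finset.mem_image_of_mem f (hmemT i h1 h2)), (hf i h1 h2).1⟩
  refine ⟨closure (s : Set G) ⊔ zpowers c, ?_, ?_, ?_, honto.trans (Subgroup.map_mono le_sup_left), ?_, ?_⟩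
  · intro h hh
    set s₁ := (T.filter (· ∈ Ω₁)).image f
    have hle : closure (s₁ : Set G) ≤ H ⊓ closure (s : Set G) := (closure_le _).2 fun y hy => by
      obtain ⟨i, hi, rfl⟩ := Finset.mem_image.1 hy
      obtain ⟨hiT, hiΩ⟩ := Finset.mem_filter.1 hi
      exact ⟨(hf i (hTmem i hiT).1 (hTmem i hiT).2).2.1 hiΩ, subset_closure (Finset.mem_image_of_mem f hiT)⟩
    have : altOn Ω₁ ≤ (closure (s₁ : Set G)).map π :=
      altOn_le_of_pivot (hL.sub hP1) (hL.sub hP2) hL.pivot_ne fun i hi h1 h2 =>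
        ⟨f i, subset_closure (Finset.mem_image_of_mem f (Finset.mem_filter.2 ⟨hmemT i h1 h2, hi⟩)), (hf i h1 h2).1⟩
    obtain ⟨g, hg, e⟩ := this (hd.img h hh)
    obtain ⟨z, hz, rfl⟩ := hd.congr_left hh (hle hg).1 e.symm
    exact mul_mem (mem_sup_right hz) (mem_sup_left (hle hg).2)
  · intro h hh
    set s₁ := (T.filter (· ∈ Q ∪ I)).image f
    have hle : closure (s₁ : Set G) ≤ copyTwo H w ⊓ closure (s : Set G) := (closure_le _).2 fun y hy => by
      obtain ⟨i, hi, rfl⟩ := Finset.mem_image.1 hy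
      obtain ⟨hiT, hiΩ⟩ := Finset.mem_filter.1 hi
      exact ⟨(hf i (hTmem i hiT).1 (hTmem i hiT).2).2.2 hiΩ, subset_closure (Finset.mem_image_of_mem f hiT)⟩
    have : altOn (Q ∪ I) ≤ (closure (s₁ : Set G)).map π :=
      altOn_le_of_pivot (Finset.mem_union_right _ hP1) (Finset.mem_union_right _ hP2) hL.pivot_ne fun i hi h1 h2 =>
        ⟨f i, subset_closure (Finset.mem_image_of_mem f (Finset.mem_filter.2 ⟨hmemT i h1 h2, hi⟩)), (hf i h1 h2).1⟩
    obtain ⟨g, hg, e⟩ := this (by rw [← hL.image]; exact hd.copy_img hh)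
    obtain ⟨z, hz, rfl⟩ := hd.congr_right hc hh (hle hg).1 e.symm
    exact mul_mem (mem_sup_right hz) (mem_sup_left (hle hg).2)
  · refine sup_le ((closure_le _).2 fun y hy => ?_) ((zpowers_le.2 hd.c_mem).trans le_sup_left)
    obtain ⟨i, hi, rfl⟩ := Finset.mem_image.1 hy
    rcases hL.cover i with h | h
    · exact mem_sup_left ((hf i (hTmem i hi).1 (hTmem i hi).2).2.1 h)
    · exact mem_sup_right ((hf i (hTmem i hi).1 (hTmem i hi).2).2.2 (Finset.mem_union_left _ h))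
  · have hN : (zpowers c).Normal := ⟨fun z hz g => by
      obtain ⟨m, rfl⟩ := mem_zpowers_iff.1 hz
      rw [((hc g).zpow_right m).eq, mul_inv_cancel_right]; exact hz⟩
    intro g hg
    obtain ⟨y, hy, z, hz, rfl⟩ := Subgroup.mem_sup_of_normal_right.1 hg
    rw [map_mul, hπc z hz, mul_one]
    exact (mem_altOn.1 (himg hy)).1
  · have hN : (zpowers c).Normal := ⟨fun z hz g => by
      obtain ⟨m, rfl⟩ := mem_zpowers_iff.1 hz
      rw [((hc g).zpow_right m).eq, mul_inv_cancel_right]; exact hz⟩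
    intro g hg hg1
    obtain ⟨y, hy, z, hz, rfl⟩ := Subgroup.mem_sup_of_normal_right.1 hg
    rw [map_mul, hπc z hz, mul_one] at hg1
    refine mul_mem ?_ hz
    refine ker_le π s ((Finset.image_nonempty.2 ⟨i₀, hmemT i₀ hL.base₁ hL.base₂⟩)) (S := Finset.univ) ?_ c
      (fun g _ => hc g) hd.c_map (fun g hg => ?_) (fun g hg g' hg' hne => ?_) honto y hy hg1
    · have h1 : s.card ≤ T.card := Finset.card_image_le
      have h2 : T.card + 2 = (Finset.univ : Finset α).card := by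
        have e1 : P₂ ∈ Finset.univ.erase P₁ := Finset.mem_erase.2 ⟨hL.pivot_ne.symm, Finset.mem_univ _⟩
        have e2 := Finset.card_erase_add_one e1
        have e3 := Finset.card_erase_add_one (Finset.mem_univ P₁)
        rw [hT]; omega
      omega
    · obtain ⟨i, hi, rfl⟩ := Finset.mem_image.1 hg
      exact hcubes i hi
    · obtain ⟨i, hi, rfl⟩ := Finset.mem_image.1 hg
      obtain ⟨j, hj, rfl⟩ := Finset.mem_image.1 hg'
      exact hpairs i hi j hj fun e => hne (e ▸ rfl)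

/-- An alternating connecting element lies in the two copies. -/
theorem alternating_case {N : Subgroup G} (hN : H ≤ N) (hN' : copyTwo H w ≤ N)
    (hgen : closure (insert w (H : Set G)) = ⊤) (hw : w ∈ H ⊔ copyTwo H w) : N = ⊤ := by
  rw [eq_top_iff, ← hgen, closure_le]
  rintro g (rfl | hg)
  · exact sup_le hN hN' hw
  · exact hN hg

/-- An odd connecting element with square in the two copies. -/
theorem symmetric_case {N : Subgroup G} (hN : H ≤ N) (hN' : copyTwo H w ≤ N) (hle : N ≤ H ⊔ copyTwo H w)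
    (hgen : closure (insert w (H : Set G)) = ⊤) (hw : w * w ∈ N) (hsign : ∀ g ∈ N, Perm.sign (π g) = 1)
    (hodd : Perm.sign (π w) = -1) {g : G} (hg : π g = 1) : g ∈ N := by
  have hnorm : ∀ n ∈ N, w * n * w⁻¹ ∈ N := by
    intro n hn
    have h : H ⊔ copyTwo H w ≤ N.comap (MulAut.conj w).toMonoidHom := sup_le
      (fun h hh => hN' (conj_mem_copyTwo hh)) (fun h hh => by
        obtain ⟨k, hk, rfl⟩ := mem_copyTwo.1 hh
        refine mem_comap.2 ?_
        show w * (w * k * w⁻¹) * w⁻¹ ∈ N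
        rw [show w * (w * k * w⁻¹) * w⁻¹ = (w * w) * k * (w * w)⁻¹ by group]
        exact mul_mem (mul_mem hw (hN hk)) (inv_mem hw))
    exact h (hle hn)
  rcases mem_or_mem hgen N w hw (fun g hg => by
    rcases hg with rfl | hg
    · right; rw [mul_inv_cancel]; exact one_mem N
    · exact Or.inl (hN hg)) hnorm g with h | h
  · exact h
  · have := hsign _ h
    rw [map_mul, map_inv, hg, one_mul, map_inv, hodd] at this
    exact absurd this (by decide)

/-- The commutator relation forces the central element to be trivial: cycles of odd length. -/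
theorem kill_odd {N : Subgroup G} (hc : ∀ g : G, Commute g c) (hc2 : c ^ 2 = 1)
    (hker : ∀ g ∈ N, π g = 1 → g ∈ zpowers c) (ha : a ∈ N) (hb : b ∈ N) {l : ℕ} (hl : Odd l) (hal : a ^ l = 1)
    (hcomm : Commute (π a) (π b)) (hrel : a * b * a⁻¹ * b⁻¹ = c) : c = 1 := by
  have h : Commute b a := commute_of_odd hl hal hc2 (hc a) (hker _
    (mul_mem (mul_mem (mul_mem hb ha) (inv_mem hb)) (inv_mem ha))
    (by rw [map_mul, map_mul, map_mul, map_inv, map_inv, ← hcomm.eq, mul_inv_cancel_right, mul_inv_cancel]))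
  rw [← hrel, ← h.eq]; group

/-- The commutator relation forces the central element to be trivial: cycles of even length times a common
transposition. -/
theorem kill_even {N : Subgroup G} (hc : ∀ g : G, Commute g c) (hc2 : c ^ 2 = 1)
    (hker : ∀ g ∈ N, π g = 1 → g ∈ zpowers c) (honto : altOn Finset.univ ≤ N.map π) (ha : a ∈ N) (hb : b ∈ N)
    (hrel : a * b * a⁻¹ * b⁻¹ = 1) {d : Perm α} (hsq : ∀ g ∈ N, π g = d → g ^ 2 = c)
    {d₁ d₂ C₁ C₂ : Perm α} (hd₁ : π a = d₁ * C₁) (hd₂ : π b = d₂ * C₂)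
    (hC₁ : C₁ ∈ altOn Finset.univ) (hC₂ : C₂ ∈ altOn Finset.univ)
    {l₁ l₂ : ℕ} (hl₁ : Odd l₁) (hl₂ : Odd l₂) (h1 : C₁ ^ l₁ = 1) (h2 : C₂ ^ l₂ = 1)
    (hc1 : Commute C₁ (π b)) (hc2' : Commute C₂ d₁)
    (hconj : ∀ e ∈ ({d₁, d₂, d₁ * d₂} : Set (Perm α)), ∃ σ ∈ altOn Finset.univ, σ * d * σ⁻¹ = e)
    : c = 1 := by
  have hsq' : ∀ e ∈ ({d₁, d₂, d₁ * d₂} : Set (Perm α)), ∀ g ∈ N, π g = e → g ^ 2 = c := by
    intro e he g hg hge
    obtain ⟨σ, hσ, rfl⟩ := hconj e he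
    obtain ⟨n, hn, rfl⟩ := honto hσ
    have h := hsq (n⁻¹ * g * n) (mul_mem (mul_mem (inv_mem hn) hg) hn)
      (by rw [map_mul, map_mul, map_inv, hge]; group)
    calc g ^ 2 = n * (n⁻¹ * g * n) ^ 2 * n⁻¹ := by rw [sq, sq]; group
      _ = c := by rw [h, (hc n).eq, mul_inv_cancel_right]
  have comm : ∀ {g y : G} {l : ℕ}, Odd l → g ∈ N → y ∈ N → y ^ l = 1 → Commute (π g) (π y) → Commute g y :=
    fun {g y l} hl hg hy hyl h => commute_of_odd hl hyl hc2 (hc y) (hker _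
      (mul_mem (mul_mem (mul_mem hg hy) (inv_mem hg)) (inv_mem hy))
      (by rw [map_mul, map_mul, map_mul, map_inv, map_inv, h.eq, mul_inv_cancel_right, mul_inv_cancel]))
  have lift : ∀ {C : Perm α} {l : ℕ}, Odd l → C ∈ altOn Finset.univ → C ^ l = 1 →
      ∃ y ∈ N, π y = C ∧ y ^ l = 1 := by
    intro C l hl hC hCl
    obtain ⟨y, hy, rfl⟩ := honto hC
    obtain ⟨m, hm⟩ := mem_zpowers_iff.1 (hker _ (pow_mem hy l) (by rw [map_pow, hCl]))
    refine ⟨y ^ (l + 1), pow_mem hy _, by rw [map_pow, pow_succ, hCl, one_mul], ?_⟩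
    obtain ⟨t, ht⟩ : Even (l + 1) := hl.add_one
    have hm2 : (c ^ m) ^ 2 = 1 := by
      rw [← zpow_natCast, ← zpow_mul, mul_comm, zpow_mul, zpow_natCast, hc2, one_zpow]
    rw [← pow_mul, mul_comm, pow_mul, ← hm, ht, ← two_mul, pow_mul, hm2, one_pow]
  obtain ⟨E₁, hE₁, hπ1, hE1⟩ := lift hl₁ hC₁ h1
  obtain ⟨E₂, hE₂, hπ2, hE2⟩ := lift hl₂ hC₂ h2
  set D₁ := a * E₁⁻¹ with hD₁
  set D₂ := b * E₂⁻¹ with hD₂
  have hπD1 : π D₁ = d₁ := by rw [hD₁, map_mul, map_inv, hd₁, hπ1, mul_inv_cancel_right]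
  have hπD2 : π D₂ = d₂ := by rw [hD₂, map_mul, map_inv, hd₂, hπ2, mul_inv_cancel_right]
  have c1 : Commute b E₁ := comm hl₁ hb hE₁ hE1 (by rw [hπ1]; exact hc1.symm)
  have c2 : Commute D₁ E₂ := comm hl₂ (mul_mem ha (inv_mem hE₁)) hE₂ hE2 (by rw [hπD1, hπ2]; exact hc2'.symm)
  have hab : D₁ * D₂ * D₁⁻¹ * D₂⁻¹ = 1 := by
    have e1 : D₁ * b = b * D₁ := by
      have hab' : a * b = b * a := by rw [← mul_inv_eq_iff_eq_mul, ← mul_inv_eq_one]; exact hrel
      exact (Commute.mul_left hab' c1.symm.inv_left).eq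
    have e2 : Commute D₁ D₂ := Commute.mul_right e1 c2.inv_right
    rw [e2.eq, mul_inv_cancel_right, mul_inv_cancel]
  have m1 : D₁ ∈ N := mul_mem ha (inv_mem hE₁)
  have m2 : D₂ ∈ N := mul_mem hb (inv_mem hE₂)
  have s1 := hsq' d₁ (by simp) _ m1 hπD1
  have s2 := hsq' d₂ (by simp) _ m2 hπD2
  have s3 := hsq' (d₁ * d₂) (by simp) _ (mul_mem m1 m2) (by rw [map_mul, hπD1, hπD2])
  have i1 : D₁⁻¹ = D₁ * c := inv_eq_of_mul_eq_one_right (by rw [← mul_assoc, ← sq, s1, ← sq, hc2])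
  have i2 : D₂⁻¹ = D₂ * c := inv_eq_of_mul_eq_one_right (by rw [← mul_assoc, ← sq, s2, ← sq, hc2])
  rw [i1, i2, show D₁ * D₂ * (D₁ * c) * (D₂ * c) = D₁ * D₂ * D₁ * (c * D₂) * c by group, ← (hc D₂).eq,
    show D₁ * D₂ * D₁ * (D₂ * c) * c = (D₁ * D₂) ^ 2 * c ^ 2 by rw [sq, sq]; group, s3, hc2, mul_one] at hab
  exact hab

end CfsgLib.Presentations
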