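import Cfsg.Agent.Lib.Presentations.GlueElems

/-!
The two commuting gluing permutations.
-/

set_option autoImplicit false
set_option linter.unusedSectionVars false

open Equiv Equiv.Perm Subgroup

namespace CfsgLib.Presentations

variable {α : Type*} [Fintype α] [DecidableEq α]

/-- A cycle through a point outside the overlap reaches the pivot three-cycles. -/
theorem gen_of_orbit {Q I₀ : Finset α} {P₁ P₂ i₁ : α} {b : Perm α} (h12 : P₁ ≠ P₂) (hP₁ : P₁ ∈ I₀) (hP₂ : P₂ ∈ I₀)
    (hi : i₁ ∈ I₀) (hi2 : i₁ ≠ P₂)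
    (hpiv : b P₁ = P₁ ∧ b P₂ = P₂ ∨ b P₁ = P₂ ∧ b P₂ = P₁)
    (horb : ∀ q ∈ Q, ∃ j : ℕ, (b ^ j) i₁ = q) :
    altOn (Q ∪ I₀) ≤ closure (insert b (altOn I₀ : Set (Perm α))) := by
  set Γ := closure (insert b (altOn I₀ : Set (Perm α))) with hΓ
  have hb : b ∈ Γ := subset_closure (Set.mem_insert _ _)
  have hI : altOn I₀ ≤ Γ := fun x hx => subset_closure (Set.mem_insert_of_mem _ hx)
  have hpow : ∀ j : ℕ, (b ^ j) P₁ = P₁ ∧ (b ^ j) P₂ = P₂ ∨ (b ^ j) P₁ = P₂ ∧ (b ^ j) P₂ = P₁ := by
    intro j
    induction j with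
    | zero => simp
    | succ j ih =>
      simp only [pow_succ', Perm.mul_apply]
      rcases ih with ⟨e1, e2⟩ | ⟨e1, e2⟩ <;> rcases hpiv with ⟨f1, f2⟩ | ⟨f1, f2⟩ <;> simp [e1, e2, f1, f2]
  refine altOn_le_of_pivot (Finset.mem_union_right _ hP₁) (Finset.mem_union_right _ hP₂) h12 fun z hz hz1 hz2 => ?_
  rcases Finset.mem_union.1 hz with hz | hz
  swap
  · exact hI (three_mem h12 hz2.symm hP₁ hP₂ hz)
  obtain ⟨j, rfl⟩ := horb z hz
  have := mul_mem (mul_mem (pow_mem hb j) (hI (three_mem h12 hi2.symm hP₁ hP₂ hi))) (inv_mem (pow_mem hb j))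
  rw [conj_three] at this
  rcases hpow j with ⟨e1, e2⟩ | ⟨e1, e2⟩
  · rwa [e1, e2] at this
  · rw [e1, e2] at this
    have h' := inv_mem this
    rwa [three_inv, three_rot hz1 hz2 h12] at h'

/-- A permutation carrying a set into itself carries its complement outside. -/
theorem notMem_of_stable {S : Finset α} {σ : Perm α} (h : ∀ z ∈ S, σ z ∈ S) : ∀ z, z ∉ S → σ z ∉ S := by
  intro z hz hσz
  have hmap : S.map σ.toEmbedding = S := Finset.eq_of_subset_of_card_le (fun w hw => by
    obtain ⟨x, hx, rfl⟩ := Finset.mem_map.1 hw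
    exact h x hx) (by rw [Finset.card_map])
  rw [← hmap] at hσz
  obtain ⟨w, hw, e⟩ := Finset.mem_map.1 hσz
  exact hz (σ.injective e ▸ hw)

variable {pts : ℕ → α} {p r n : ℕ}

/-- The gluing permutations. -/
theorem exists_gluer (h : Set.InjOn pts (Set.Iio n)) (hn : n = p + 2 + r) (hr : 1 ≤ r) (hrp : r + 2 ≤ p) :
    ∃ a b : Perm α, a ∈ altOn (seqSet pts (p + 2)) ∧
      b ∈ altOn (seqSet (fun i => pts (p + 2 + i)) r ∪ seqSet (overlapSeq pts p) (p - r + 2)) ∧ Commute a b ∧
      (∀ z, z ∉ (seqSet (overlapSeq pts p) (p - r + 2)).erase (pts 0) →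
        a z ∉ (seqSet (overlapSeq pts p) (p - r + 2)).erase (pts 0)) ∧
      (a (pts p) = pts p ∧ a (pts (p + 1)) = pts (p + 1) ∨ a (pts p) = pts (p + 1) ∧ a (pts (p + 1)) = pts p) ∧
      (∀ q ∈ seqSet (fun i => pts (p + 2 + i)) r, a q = q) ∧
      (∀ z ∈ seqSet pts (p + 2), z ∉ seqSet (overlapSeq pts p) (p - r + 2) → ∃ j : ℕ, (a ^ j) (pts 0) = z) ∧
      altOn (seqSet (fun i => pts (p + 2 + i)) r ∪ (seqSet (overlapSeq pts p) (p - r + 2)).erase (pts 0)) ≤
        closure (insert b (altOn ((seqSet (overlapSeq pts p) (p - r + 2)).erase (pts 0)) : Set (Perm α))) ∧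
      ((Even r ∧ a ^ (r + 1) = 1) ∨ (Odd r ∧ ∃ d₁ d₂ C₁ C₂ : Perm α, a = d₁ * C₁ ∧ b = d₂ * C₂ ∧
        C₁ ∈ altOn Finset.univ ∧ C₂ ∈ altOn Finset.univ ∧ C₁ ^ r = 1 ∧ C₂ ^ r = 1 ∧ Commute C₁ b ∧ Commute C₂ d₁ ∧
        ∀ e ∈ ({d₁, d₂, d₁ * d₂} : Set (Perm α)), ∃ σ ∈ altOn (Finset.univ : Finset α),
          σ * (three (pts p) (pts (p + 1)) (pts 0) * three (pts p) (pts (p + 1)) (pts 1)) * σ⁻¹ = e)) := by
  have ne : ∀ i j, i < n → j < n → i ≠ j → pts i ≠ pts j := fun i j hi hj hij e =>
    hij (h (by simpa using hi) (by simpa using hj) e)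
  set I := seqSet (overlapSeq pts p) (p - r + 2) with hI
  set Q := seqSet (fun i => pts (p + 2 + i)) r with hQ
  have hIcases : ∀ z ∈ I.erase (pts 0), ∃ i, i ≠ 0 ∧ (i < p - r ∨ i = p ∨ i = p + 1) ∧ pts i = z := fun z hz => by
    obtain ⟨hz0, hzI⟩ := Finset.mem_erase.1 hz
    obtain ⟨i, hi, rfl⟩ := mem_overlap.1 hzI
    exact ⟨i, fun e => hz0 (e ▸ rfl), hi, rfl⟩
  have hImem : ∀ i, i ≠ 0 → (i < p - r ∨ i = p ∨ i = p + 1) → pts i ∈ I.erase (pts 0) := fun i hi0 hi =>
    Finset.mem_erase.2 ⟨ne _ _ (by omega) (by omega) hi0, mem_overlap.2 ⟨i, hi, rfl⟩⟩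
  have hIp : pts p ∈ I.erase (pts 0) := hImem p (by omega) (by omega)
  have hIp1 : pts (p + 1) ∈ I.erase (pts 0) := hImem (p + 1) (by omega) (by omega)
  have hI1 : pts 1 ∈ I.erase (pts 0) := hImem 1 one_ne_zero (Or.inl (by omega))
  have n1p : pts 1 ≠ pts p := ne _ _ (by omega) (by omega) (by omega)
  have n1p1 : pts 1 ≠ pts (p + 1) := ne _ _ (by omega) (by omega) (by omega)
  have h12 : pts p ≠ pts (p + 1) := ne _ _ (by omega) (by omega) (by omega)
  have hmemΩ : ∀ i, i < p + 2 → pts i ∈ seqSet pts (p + 2) := fun i hi => mem_seqSet.2 ⟨i, hi, rfl⟩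
  have horbit : ∀ {a : Perm α}, (∀ i, i < r → ∃ j : ℕ, (a ^ j) (pts 0) = pts (p - r + i)) →
      ∀ z ∈ seqSet pts (p + 2), z ∉ I → ∃ j : ℕ, (a ^ j) (pts 0) = z := by
    intro a ha z hz hzI
    obtain ⟨i, hi, rfl⟩ := mem_seqSet.1 hz
    have : p - r ≤ i ∧ i < p := by
      by_contra hc
      exact hzI (mem_overlap.2 ⟨i, by omega, rfl⟩)
    obtain ⟨j, hj⟩ := ha (i - (p - r)) (by omega)
    exact ⟨j, by rw [hj]; congr 1; omega⟩
  rcases Nat.even_or_odd r with hev | hodd
  · -- two cycles of odd length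
    let eA : ℕ → α := fun i => if i = 0 then pts 0 else pts (p - r + (i - 1))
    let eB : ℕ → α := fun i => if i = 0 then pts 1 else pts (p + 2 + (i - 1))
    have hA : Set.InjOn eA (Set.Iio (r + 1)) := fun i hi j hj e => by
      simp only [Set.mem_Iio] at hi hj
      by_contra hne
      simp only [eA] at e
      split_ifs at e
      all_goals first
        | omega
        | exact ne _ _ (by omega) (by omega) (by omega) e
    have hB : Set.InjOn eB (Set.Iio (r + 1)) := fun i hi j hj e => by
      simp only [Set.mem_Iio] at hi hj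
      by_contra hne
      simp only [eB] at e
      split_ifs at e
      all_goals first
        | omega
        | exact ne _ _ (by omega) (by omega) (by omega) e
    have hr1 : Odd (r + 1) := hev.add_one
    set a := cyc eA (r + 1) hA with ha
    set b := cyc eB (r + 1) hB with hb
    have hafix : ∀ i, i < n → i ≠ 0 → (i < p - r ∨ p ≤ i) → a (pts i) = pts i := fun i hi hi0 hi' =>
      cyc_apply_of_notMem hA fun hm => by
        obtain ⟨t, ht, e⟩ := mem_seqSet.1 hm
        simp only [eA] at e
        split_ifs at e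
        all_goals exact ne _ _ (by omega) hi (by omega) e
    have hbfix : ∀ i, i < p + 2 → i ≠ 1 → b (pts i) = pts i := fun i hi hi0 =>
      cyc_apply_of_notMem hB fun hm => by
        obtain ⟨t, ht, e⟩ := mem_seqSet.1 hm
        simp only [eB] at e
        split_ifs at e
        all_goals exact ne _ _ (by omega) (by omega) (by omega) e
    refine ⟨a, b, cyc_mem_altOn hA hr1 ?_, cyc_mem_altOn hB hr1 ?_, ?_, ?_, ?_, ?_, ?_, ?_, Or.inl ⟨hev, cyc_pow_self hA⟩⟩
    · intro z hz
      obtain ⟨t, ht, rfl⟩ := mem_seqSet.1 hz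
      simp only [eA]
      split_ifs
      · exact hmemΩ 0 (by omega)
      · exact hmemΩ _ (by omega)
    · intro z hz
      obtain ⟨t, ht, rfl⟩ := mem_seqSet.1 hz
      simp only [eB]
      split_ifs
      · exact Finset.mem_union_right _ (mem_overlap.2 ⟨1, Or.inl (by omega), rfl⟩)
      · exact Finset.mem_union_left _ (mem_seqSet.2 ⟨t - 1, by omega, rfl⟩)
    · refine (commute_cyc_of_fix hB fun z hz => ?_)
      obtain ⟨t, ht, rfl⟩ := mem_seqSet.1 hz
      simp only [eB]
      split_ifs
      · exact hafix 1 (by omega) one_ne_zero (Or.inl (by omega))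
      · exact hafix _ (by omega) (by omega) (Or.inr (by omega))
    · refine notMem_of_stable fun z hz => ?_
      obtain ⟨i, hi0, hi, rfl⟩ := hIcases z hz
      rw [hafix i (by omega) hi0 (by omega)]; exact hz
    · exact Or.inl ⟨hafix p (by omega) (by omega) (by omega), hafix (p + 1) (by omega) (by omega) (by omega)⟩
    · intro q hq
      obtain ⟨t, ht, rfl⟩ := mem_seqSet.1 hq
      exact hafix _ (by omega) (by omega) (Or.inr (by omega))
    · refine horbit fun i hi => ⟨i + 1, ?_⟩
      have := cyc_pow_apply hA (i + 1) (i := 0) (by omega)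
      rw [Nat.zero_add, Nat.mod_eq_of_lt (by omega)] at this
      simpa [eA] using this
    · refine gen_of_orbit h12 hIp hIp1 hI1 n1p1
        (Or.inl ⟨hbfix p (by omega) (by omega), hbfix (p + 1) (by omega) (by omega)⟩) fun q hq => ?_
      obtain ⟨t, ht, rfl⟩ := mem_seqSet.1 hq
      refine ⟨t + 1, ?_⟩
      have := cyc_pow_apply hB (t + 1) (i := 0) (by omega)
      rw [Nat.zero_add, Nat.mod_eq_of_lt (by omega)] at this
      simpa [eB] using this
  · -- cycles of even length times a common transposition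
    let eA : ℕ → α := fun i => pts (p - r + i)
    let eB : ℕ → α := fun i => pts (p + 2 + i)
    have hA : Set.InjOn eA (Set.Iio r) := fun i hi j hj e => by
      simp only [Set.mem_Iio] at hi hj
      by_contra hne
      exact ne _ _ (by omega) (by omega) (by omega) e
    have hB : Set.InjOn eB (Set.Iio r) := fun i hi j hj e => by
      simp only [Set.mem_Iio] at hi hj
      by_contra hne
      exact ne _ _ (by omega) (by omega) (by omega) e
    set C₁ := cyc eA r hA with hC₁
    set C₂ := cyc eB r hB with hC₂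
    set τ : Perm α := swap (pts p) (pts (p + 1)) with hτ
    set d₁ : Perm α := swap (pts 0) (pts (p - r)) * τ with hd₁
    set d₂ : Perm α := swap (pts 1) (pts (p + 2)) * τ with hd₂
    have hC1fix : ∀ i, i < n → (i < p - r ∨ p ≤ i) → C₁ (pts i) = pts i := fun i hi hi' =>
      cyc_apply_of_notMem hA fun hm => by
        obtain ⟨t, ht, e⟩ := mem_seqSet.1 hm
        exact ne _ _ (by omega) hi (by omega) e
    have hC2fix : ∀ i, i < p + 2 → C₂ (pts i) = pts i := fun i hi =>
      cyc_apply_of_notMem hB fun hm => by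
        obtain ⟨t, ht, e⟩ := mem_seqSet.1 hm
        exact ne _ _ (by omega) (by omega) (by omega) e
    have hd1fix : ∀ i, i < n → i ≠ 0 → i ≠ p - r → i ≠ p → i ≠ p + 1 → d₁ (pts i) = pts i :=
      fun i hi a1 a2 a3 a4 => by
        rw [hd₁, Perm.mul_apply, hτ, swap_apply_of_ne_of_ne (ne _ _ hi (by omega) a3) (ne _ _ hi (by omega) a4),
          swap_apply_of_ne_of_ne (ne _ _ hi (by omega) a1) (ne _ _ hi (by omega) a2)]
    have hd2fix : ∀ i, i < n → i ≠ 1 → i ≠ p + 2 → i ≠ p → i ≠ p + 1 → d₂ (pts i) = pts i :=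
      fun i hi a1 a2 a3 a4 => by
        rw [hd₂, Perm.mul_apply, hτ, swap_apply_of_ne_of_ne (ne _ _ hi (by omega) a3) (ne _ _ hi (by omega) a4),
          swap_apply_of_ne_of_ne (ne _ _ hi (by omega) a1) (ne _ _ hi (by omega) a2)]
    have hd1p : d₁ (pts p) = pts (p + 1) ∧ d₁ (pts (p + 1)) = pts p := by
      constructor <;>
        simp only [hd₁, Perm.mul_apply, hτ, swap_apply_left, swap_apply_right] <;>
        exact swap_apply_of_ne_of_ne (ne _ _ (by omega) (by omega) (by omega)) (ne _ _ (by omega) (by omega) (by omega))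
    have hd2p : d₂ (pts p) = pts (p + 1) ∧ d₂ (pts (p + 1)) = pts p := by
      constructor <;>
        simp only [hd₂, Perm.mul_apply, hτ, swap_apply_left, swap_apply_right] <;>
        exact swap_apply_of_ne_of_ne (ne _ _ (by omega) (by omega) (by omega)) (ne _ _ (by omega) (by omega) (by omega))
    have hd1P : d₁ (pts 0) = pts (p - r) := by
      rw [hd₁, Perm.mul_apply, hτ, swap_apply_of_ne_of_ne (ne _ _ (by omega) (by omega) (by omega))
        (ne _ _ (by omega) (by omega) (by omega)), swap_apply_left]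
    have hd2Q : d₂ (pts 1) = pts (p + 2) := by
      rw [hd₂, Perm.mul_apply, hτ, swap_apply_of_ne_of_ne (ne _ _ (by omega) (by omega) (by omega))
        (ne _ _ (by omega) (by omega) (by omega)), swap_apply_left]
    clear_value d₁ d₂
    set a := d₁ * C₁ with ha
    set b := d₂ * C₂ with hb
    have hafix : ∀ i, i < n → i ≠ 0 → (i < p - r ∨ p + 2 ≤ i) → a (pts i) = pts i := fun i hi a1 a2 => by
      rw [ha, Perm.mul_apply, hC1fix i hi (by omega), hd1fix i hi a1 (by omega) (by omega) (by omega)]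
    have hbfix : ∀ i, i < p → i ≠ 1 → b (pts i) = pts i := fun i hi a1 => by
      rw [hb, Perm.mul_apply, hC2fix i (by omega), hd2fix i (by omega) a1 (by omega) (by omega) (by omega)]
    have hap : a (pts p) = pts (p + 1) ∧ a (pts (p + 1)) = pts p := by
      rw [ha, Perm.mul_apply, Perm.mul_apply, hC1fix p (by omega) (by omega), hC1fix (p + 1) (by omega) (by omega)]
      exact hd1p
    have hbp : b (pts p) = pts (p + 1) ∧ b (pts (p + 1)) = pts p := by
      rw [hb, Perm.mul_apply, Perm.mul_apply, hC2fix p (by omega), hC2fix (p + 1) (by omega)]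
      exact hd2p
    have hrmod : ∀ i, i + 1 < r → (i + 1) % r = i + 1 := fun i hi => Nat.mod_eq_of_lt hi
    have hastep : ∀ i, i < r → (a ^ (i + 1)) (pts 0) = pts (p - r + i) := by
      intro i
      induction i with
      | zero => intro _; rw [pow_one, ha, Perm.mul_apply, hC1fix 0 (by omega) (Or.inl (by omega))]; simpa using hd1P
      | succ i ih =>
        intro hi
        rw [pow_succ', Perm.mul_apply, ih (by omega), ha, Perm.mul_apply, show pts (p - r + i) = eA i from rfl,
          cyc_apply hA (by omega), hrmod i hi]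
        exact hd1fix _ (by omega) (by omega) (by omega) (by omega) (by omega)
    have hbstep : ∀ i, i < r → (b ^ (i + 1)) (pts 1) = pts (p + 2 + i) := by
      intro i
      induction i with
      | zero => intro _; rw [pow_one, hb, Perm.mul_apply, hC2fix 1 (by omega)]; simpa using hd2Q
      | succ i ih =>
        intro hi
        rw [pow_succ', Perm.mul_apply, ih (by omega), hb, Perm.mul_apply, show pts (p + 2 + i) = eB i from rfl,
          cyc_apply hB (by omega), hrmod i hi]
        exact hd2fix _ (by omega) (by omega) (by omega) (by omega) (by omega)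
    have hC1b : Commute C₁ b := by
      refine (commute_cyc_of_fix hA fun z hz => ?_).symm
      obtain ⟨t, ht, rfl⟩ := mem_seqSet.1 hz
      exact hbfix _ (by omega) (by omega)
    have hC2d : Commute C₂ d₁ := by
      refine (commute_cyc_of_fix hB fun z hz => ?_).symm
      obtain ⟨t, ht, rfl⟩ := mem_seqSet.1 hz
      exact hd1fix _ (by omega) (by omega) (by omega) (by omega) (by omega)
    have hC2C1 : Commute C₁ C₂ := by
      refine (commute_cyc_of_fix hB fun z hz => ?_)
      obtain ⟨t, ht, rfl⟩ := mem_seqSet.1 hz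
      exact hC1fix _ (by omega) (by omega)
    have hτ0 : Commute (swap (pts 0) (pts (p - r))) τ := swap_commute_of_ne (ne _ _ (by omega) (by omega) (by omega))
      (ne _ _ (by omega) (by omega) (by omega)) (ne _ _ (by omega) (by omega) (by omega))
      (ne _ _ (by omega) (by omega) (by omega))
    have hτ1 : Commute (swap (pts 1) (pts (p + 2))) τ := swap_commute_of_ne (ne _ _ (by omega) (by omega) (by omega))
      (ne _ _ (by omega) (by omega) (by omega)) (ne _ _ (by omega) (by omega) (by omega))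
      (ne _ _ (by omega) (by omega) (by omega))
    have h01 : Commute (swap (pts 0) (pts (p - r))) (swap (pts 1) (pts (p + 2))) :=
      swap_commute_of_ne (ne _ _ (by omega) (by omega) (by omega))
        (ne _ _ (by omega) (by omega) (by omega)) (ne _ _ (by omega) (by omega) (by omega))
        (ne _ _ (by omega) (by omega) (by omega))
    have hdd : Commute d₁ d₂ := by
      rw [hd₁, hd₂]
      exact ((h01.mul_right hτ0).mul_left ((hτ1.symm).mul_right (Commute.refl τ)))
    have hab : Commute a b := by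
      rw [ha]
      refine Commute.mul_left ?_ hC1b
      rw [hb]
      exact hdd.mul_right hC2d.symm
    have sgn : ∀ i j, i < n → j < n → i ≠ j → sign (swap (pts i) (pts j)) = -1 := fun i j hi hj hij =>
      sign_swap (ne i j hi hj hij)
    have hC1mem : C₁ ∈ altOn (seqSet pts (p + 2)) := cyc_mem_altOn hA hodd fun z hz => by
      obtain ⟨t, ht, rfl⟩ := mem_seqSet.1 hz
      exact hmemΩ _ (by omega)
    have hC2mem : C₂ ∈ altOn (Q ∪ I) := cyc_mem_altOn hB hodd fun z hz => by
      obtain ⟨t, ht, rfl⟩ := mem_seqSet.1 hz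
      exact Finset.mem_union_left _ (mem_seqSet.2 ⟨t, ht, rfl⟩)
    refine ⟨a, b, mul_mem (mem_altOn.2 ⟨?_, ?_⟩) hC1mem, mul_mem (mem_altOn.2 ⟨?_, ?_⟩) hC2mem, hab, ?_, Or.inr hap,
      ?_, horbit fun i hi => ⟨i + 1, hastep i hi⟩, ?_, Or.inr ⟨hodd, d₁, d₂, C₁, C₂, rfl, rfl,
        altOn_mono (Finset.subset_univ _) hC1mem, altOn_mono (Finset.subset_univ _) hC2mem, cyc_pow_self hA,
        cyc_pow_self hB, hC1b, hC2d, ?_⟩⟩
    · rw [hd₁, map_mul, hτ, sgn _ _ (by omega) (by omega) (by omega), sgn _ _ (by omega) (by omega) (by omega)]; rfl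
    · intro z hz
      have hz' : ∀ i, i < p + 2 → z ≠ pts i := fun i hi e => hz (e ▸ hmemΩ i hi)
      rw [hd₁, Perm.mul_apply, hτ, swap_apply_of_ne_of_ne (hz' _ (by omega)) (hz' _ (by omega)),
        swap_apply_of_ne_of_ne (hz' _ (by omega)) (hz' _ (by omega))]
    · rw [hd₂, map_mul, hτ, sgn _ _ (by omega) (by omega) (by omega), sgn _ _ (by omega) (by omega) (by omega)]; rfl
    · intro z hz
      simp only [Finset.mem_union, not_or] at hz
      have hzI : ∀ i, (i < p - r ∨ i = p ∨ i = p + 1) → z ≠ pts i := fun i hi e =>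
        hz.2 (mem_overlap.2 ⟨i, hi, e.symm⟩)
      rw [hd₂, Perm.mul_apply, hτ, swap_apply_of_ne_of_ne (hzI p (by omega)) (hzI (p + 1) (by omega)),
        swap_apply_of_ne_of_ne (hzI 1 (Or.inl (by omega)))
          fun e => hz.1 (mem_seqSet.2 ⟨0, by omega, by simpa using e.symm⟩)]
    · refine notMem_of_stable fun z hz => ?_
      obtain ⟨i, hi0, hi, rfl⟩ := hIcases z hz
      rcases hi with hi | rfl | rfl
      · rw [hafix i (by omega) hi0 (Or.inl hi)]; exact hz
      · rw [hap.1]; exact hIp1
      · rw [hap.2]; exact hIp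
    · intro q hq
      obtain ⟨t, ht, rfl⟩ := mem_seqSet.1 hq
      exact hafix _ (by omega) (by omega) (Or.inr (by omega))
    · refine gen_of_orbit h12 hIp hIp1 hI1 n1p1 (Or.inr hbp) fun q hq => ?_
      obtain ⟨t, ht, rfl⟩ := mem_seqSet.1 hq
      exact ⟨t + 1, hbstep t ht⟩
    · have hd : three (pts p) (pts (p + 1)) (pts 0) * three (pts p) (pts (p + 1)) (pts 1) =
          swap (pts p) (pts 0) * swap (pts (p + 1)) (pts 1) := by
        have a0 : pts p ≠ pts 0 := ne _ _ (by omega) (by omega) (by omega)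
        have a1 : pts (p + 1) ≠ pts 0 := ne _ _ (by omega) (by omega) (by omega)
        have a2 : pts 1 ≠ pts 0 := ne _ _ (by omega) (by omega) (by omega)
        ext z
        simp only [Perm.mul_apply]
        by_cases z1 : z = pts p
        · subst z1
          rw [three_apply_left h12 n1p.symm, three_apply_mid a0 a1, swap_apply_of_ne_of_ne h12 n1p.symm,
            swap_apply_left]
        by_cases z2 : z = pts (p + 1)
        · subst z2
          rw [three_apply_mid n1p.symm n1p1.symm, three_apply_of_ne n1p n1p1 a2, swap_apply_left,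
            swap_apply_of_ne_of_ne n1p a2]
        by_cases z3 : z = pts 1
        · subst z3
          rw [three_apply_right, three_apply_left h12 a0, swap_apply_right,
            swap_apply_of_ne_of_ne h12.symm a1]
        by_cases z4 : z = pts 0
        · subst z4
          rw [three_apply_of_ne z1 z2 z3, three_apply_right, swap_apply_of_ne_of_ne z2 z3, swap_apply_right]
        rw [three_apply_of_ne z1 z2 z3, three_apply_of_ne z1 z2 z4, swap_apply_of_ne_of_ne z2 z3,
          swap_apply_of_ne_of_ne z1 z4]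
      rw [hd]
      have nd : ∀ i j k l : ℕ, i < n → j < n → k < n → l < n → i ≠ j → i ≠ k → i ≠ l → j ≠ k → j ≠ l → k ≠ l →
          [pts i, pts j, pts k, pts l].Nodup := fun i j k l hi hj hk hl a1 a2 a3 a4 a5 a6 => by
        simp [ne i j hi hj a1, ne i k hi hk a2, ne i l hi hl a3, ne j k hj hk a4, ne j l hj hl a5, ne k l hk hl a6]
      have base := nd p 0 (p + 1) 1 (by omega) (by omega) (by omega) (by omega) (by omega) (by omega) (by omega)
        (by omega) (by omega) (by omega)
      intro e he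
      simp only [Set.mem_insert_iff, Set.mem_singleton_iff] at he
      rcases he with he | he | he <;> rw [he]
      · rw [hd₁, hτ]
        exact exists_even_conj base (nd 0 (p - r) p (p + 1) (by omega) (by omega) (by omega) (by omega) (by omega)
          (by omega) (by omega) (by omega) (by omega) (by omega))
      · rw [hd₂, hτ]
        exact exists_even_conj base (nd 1 (p + 2) p (p + 1) (by omega) (by omega) (by omega) (by omega) (by omega)
          (by omega) (by omega) (by omega) (by omega) (by omega))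
      · have e12 : d₁ * d₂ = swap (pts 0) (pts (p - r)) * swap (pts 1) (pts (p + 2)) := by
          rw [hd₁, hd₂, mul_assoc, ← mul_assoc τ, ← hτ1.eq, mul_assoc, hτ, swap_mul_self, mul_one]
        rw [e12]
        exact exists_even_conj base (nd 0 (p - r) 1 (p + 2) (by omega) (by omega) (by omega) (by omega) (by omega)
          (by omega) (by omega) (by omega) (by omega) (by omega))

end CfsgLib.Presentations
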