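import Cfsg.Agent.Lib.Presentations.Top
import Cfsg.Agent.Lib.Presentations.GlueMain
import Cfsg.Agent.Lib.Presentations.Gluer

/-!
Seven relators for the degrees strictly between a prime plus two and twice the prime.
-/

set_option autoImplicit false
set_option linter.unusedSectionVars false

open Equiv Equiv.Perm Subgroup

namespace CfsgLib.Presentations

variable {α : Type*} [Fintype α] [DecidableEq α]

/-- A conjugating permutation can be corrected to an even one inside the set. -/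
theorem exists_even_conjugator {Ω : Finset α} {u g : Perm α} (hg : ∀ z, z ∉ Ω → g z = z) {x y : α} (hxy : x ≠ y)
    (hx : x ∈ Ω) (hy : y ∈ Ω) (hu : Commute (swap x y) u) :
    ∃ h ∈ altOn Ω, h * u * h⁻¹ = g * u * g⁻¹ := by
  rcases Int.units_eq_one_or (sign g) with hs | hs
  · exact ⟨g, mem_altOn.2 ⟨hs, hg⟩, rfl⟩
  · refine ⟨g * swap x y, mem_altOn.2 ⟨by rw [map_mul, hs, sign_swap hxy]; rfl, fun z hz => ?_⟩, ?_⟩
    · rw [Perm.mul_apply, swap_apply_of_ne_of_ne (fun e => hz (by rw [e]; exact hx)) (fun e => hz (by rw [e]; exact hy)), hg z hz]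
    · rw [mul_inv_rev, show g * swap x y * u * ((swap x y)⁻¹ * g⁻¹) = g * (swap x y * u * (swap x y)⁻¹) * g⁻¹ by group,
        hu.eq, mul_inv_cancel_right]

theorem conj_mem_altOn {S T : Finset α} {σ t : Perm α} (ht : t ∈ altOn T) (h : ∀ z, z ∉ S → σ z ∉ T) :
    σ⁻¹ * t * σ ∈ altOn S :=
  mem_altOn.2 ⟨by rw [map_mul, map_mul, map_inv, (mem_altOn.1 ht).1, mul_one, inv_mul_cancel], fun z hz => by
    rw [Perm.mul_apply, Perm.mul_apply, (mem_altOn.1 ht).2 _ (h z hz)]
    exact σ.symm_apply_apply z⟩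

/-- Even permutations commuting with the common cycle come from the two centralisers. -/
theorem cover_commute {Ω Q I : Finset α} {e : ℕ → α} {l : ℕ} (hl : Set.InjOn e (Set.Iio l)) (hl2 : 2 ≤ l)
    (hlodd : Odd l) (hU : seqSet e l ⊆ Ω) {σ : Perm α} (himg : Ω.image σ = Q ∪ I)
    (hcover : ∀ z, z ∈ Ω ∨ z ∈ Q) (hfix : ∀ z ∈ seqSet e l, σ z = z) {a : α} (ha : a ∈ Ω \ seqSet e l)
    (haσ : a ∈ (Ω \ seqSet e l).image σ) (h3 : 3 ≤ (Ω \ seqSet e l).card)
    {Γ : Subgroup (Perm α)} (h1 : ∀ t ∈ altOn Ω, Commute t (cyc e l hl) → t ∈ Γ)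
    (h2 : ∀ t ∈ altOn Ω, Commute t (cyc e l hl) → σ * t * σ⁻¹ ∈ Γ)
    {T : Perm α} (hT : sign T = 1) (hTu : Commute T (cyc e l hl)) : T ∈ Γ := by
  set R := Ω \ seqSet e l with hR
  have hcen : ∀ t ∈ altOn R, Commute t (cyc e l hl) := fun t ht =>
    commute_cyc_of_fix hl fun z hz => (mem_altOn.1 ht).2 z fun h => (Finset.mem_sdiff.1 h).2 hz
  have hR1 : altOn R ≤ Γ := fun t ht => h1 t (altOn_mono Finset.sdiff_subset ht) (hcen t ht)
  have hR2 : altOn (R.image σ) ≤ Γ := fun t ht => by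
    have hm : σ⁻¹ * t * σ ∈ altOn R := conj_mem_altOn ht fun z hz hm => by
      obtain ⟨w, hw, e'⟩ := Finset.mem_image.1 hm
      exact hz (σ.injective e' ▸ hw)
    have := h2 _ (altOn_mono Finset.sdiff_subset hm) (hcen _ hm)
    rwa [show σ * (σ⁻¹ * t * σ) * σ⁻¹ = t by group] at this
  have hall := altOn_union_le hR1 hR2 h3 (by rwa [Finset.card_image_of_injective _ σ.injective]) ha haσ
  obtain ⟨j, hj⟩ := exists_pow_eq_of_commute hl hTu hl2
  have hum : cyc e l hl ^ j ∈ altOn Ω := pow_mem (cyc_mem_altOn hl hlodd hU) j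
  have hrest : T * (cyc e l hl ^ j)⁻¹ ∈ altOn (R ∪ R.image σ) := by
    refine mem_altOn.2 ⟨by rw [map_mul, map_inv, hT, (mem_altOn.1 hum).1]; rfl, fun z hz => ?_⟩
    have hzU : z ∈ seqSet e l := by
      by_contra hzU
      simp only [Finset.mem_union, not_or] at hz
      rcases hcover z with hzΩ | hzQ
      · exact hz.1 (Finset.mem_sdiff.2 ⟨hzΩ, hzU⟩)
      · have : z ∈ Ω.image σ := by rw [himg]; exact Finset.mem_union_left _ hzQ
        obtain ⟨w, hw, rfl⟩ := Finset.mem_image.1 this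
        by_cases hwU : w ∈ seqSet e l
        · exact hzU (by rw [hfix w hwU]; exact hwU)
        · exact hz.2 (Finset.mem_image_of_mem _ (Finset.mem_sdiff.2 ⟨hw, hwU⟩))
    obtain ⟨i, hi, rfl⟩ := mem_seqSet.1 hzU
    set w := (cyc e l hl ^ j)⁻¹ (e i) with hw
    have hwz : (cyc e l hl ^ j) w = e i := (cyc e l hl ^ j).apply_symm_apply _
    have hwU : w ∈ seqSet e l := by
      by_contra hwU
      have := Perm.pow_apply_eq_self_of_apply_eq_self (cyc_apply_of_notMem hl hwU) j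
      rw [hwz] at this
      exact hwU (this ▸ mem_seqSet.2 ⟨i, hi, rfl⟩)
    rw [Perm.mul_apply, ← hw, hj w hwU, hwz]
  have := mul_mem (hall hrest) (h1 _ hum (Commute.pow_self _ _))
  rwa [inv_mul_cancel_right] at this

variable {n : ℕ}

/-- Three generators and seven relators, glueing two copies. -/
theorem glue_case {p r : ℕ} (hp : p.Prime) (hn : n = p + 2 + r) (hr : 1 ≤ r) (hrp : r + 2 ≤ p)
    (hp7 : r = 1 → 7 ≤ p) (even : Bool) :
    ∃ A X σ : Perm (Fin n), HasPres 3 7 ![A, X, σ] (cond even (alternatingGroup (Fin n)) ⊤) ∧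
      Commute X σ ∧ σ ^ 4 = 1 ∧ X ^ 3 = 1 := by
  have hn0 : 0 < n := by omega
  set pts := point hn0 with hpts_def
  have hN : Set.InjOn pts (Set.Iio n) := point_injOn hn0 le_rfl
  have h : Set.InjOn pts (Set.Iio (p + 2)) := hN.mono (Set.Iio_subset_Iio (by omega))
  have hpts : seqSet pts n = Finset.univ := seqSet_point hn0
  have ne : ∀ i j, i < n → j < n → i ≠ j → pts i ≠ pts j := fun i j hi hj hij e =>
    hij (hN (by simpa using hi) (by simpa using hj) e)
  have hp3 : 3 ≤ p := by omega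
  have hpodd : Odd p := hp.odd_of_ne_two (by omega)
  set Ω := seqSet pts (p + 2) with hΩ
  set Q := seqSet (fun i => pts (p + 2 + i)) r with hQ
  set k := p - r + 2 with hk
  set ov := overlapSeq pts p with hov
  set I := seqSet ov k with hI
  have hoInj : Set.InjOn ov (Set.Iio k) := overlapSeq_injOn h (by omega)
  have hΩmem : ∀ i, i < p + 2 → pts i ∈ Ω := fun i hi => mem_seqSet.2 ⟨i, hi, rfl⟩
  have hImem : ∀ i, (i < p - r ∨ i = p ∨ i = p + 1) → pts i ∈ I := fun i hi => mem_overlap.2 ⟨i, hi, rfl⟩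
  have hIΩ : I ⊆ Ω := fun z hz => by
    obtain ⟨i, hi, rfl⟩ := mem_overlap.1 hz
    exact hΩmem i (by omega)
  -- the cycle and its conjugator
  obtain ⟨l, hlk, hl2, hlodd, hl3, hlr, g, hgfix, hggen⟩ : ∃ (l : ℕ) (hlk : l < k), 2 ≤ l ∧ Odd l ∧
      3 ≤ p + 2 - l ∧ (r = 1 → l + 3 ≤ k) ∧ ∃ g : Perm (Fin n), (∀ z, z ∉ seqSet ov k → g z = z) ∧
        altOn (seqSet ov k) ≤ closure ({cyc ov l (hoInj.mono (Set.Iio_subset_Iio hlk.le)),
          g * cyc ov l (hoInj.mono (Set.Iio_subset_Iio hlk.le)) * g⁻¹} : Set (Perm (Fin n))) := by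
    rcases Nat.even_or_odd k with hev | hodd
    · by_cases hr1 : r = 1
      · have hk3 : k - 3 + 3 = k := by omega
        refine ⟨k - 3, by omega, by omega, ?_, by omega, fun _ => by omega, ?_⟩
        · rcases Nat.even_or_odd (k - 3) with h' | h'
          · obtain ⟨s, hs⟩ := h'; obtain ⟨t, ht⟩ := hev; omega
          · exact h'
        · obtain ⟨g, h1, h2⟩ := gen_three (e := ov) (l := k - 3) (by have := hp7 hr1; omega) (by rwa [hk3])
          simp only [hk3] at h1 h2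
          exact ⟨g, h1, h2⟩
      · have hk1 : k - 1 + 1 = k := by omega
        refine ⟨k - 1, by omega, by omega, ?_, by omega, fun h' => absurd h' hr1, ?_⟩
        · rcases Nat.even_or_odd (k - 1) with h' | h'
          · obtain ⟨s, hs⟩ := h'; obtain ⟨t, ht⟩ := hev; omega
          · exact h'
        · obtain ⟨g, h1, h2⟩ := gen_one (e := ov) (l := k - 1) (by omega) (by rwa [hk1])
          simp only [hk1] at h1 h2
          exact ⟨g, h1, h2⟩
    · have hr1 : r ≠ 1 := fun h' => by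
        obtain ⟨s, hs⟩ := hodd
        obtain ⟨t, ht⟩ := hpodd
        omega
      by_cases hk5 : k = 5
      · refine ⟨3, by omega, by omega, ⟨1, rfl⟩, by omega, fun h' => absurd h' hr1, ?_⟩
        obtain ⟨g, h1, h2⟩ := gen_five (e := ov) (by rwa [← hk5])
        simp only [← hk5] at h1 h2
        exact ⟨g, h1, h2⟩
      · have hk2 : k - 2 + 2 = k := by omega
        have hk7 : 7 ≤ k := by obtain ⟨s, hs⟩ := hodd; omega
        refine ⟨k - 2, by omega, by omega, ?_, by omega, fun h' => absurd h' hr1, ?_⟩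
        · obtain ⟨s, hs⟩ := hodd
          exact ⟨s - 1, by omega⟩
        · obtain ⟨g, h1, h2⟩ := gen_two (e := ov) (l := k - 2) (by omega) (by rwa [hk2])
          simp only [hk2] at h1 h2
          exact ⟨g, h1, h2⟩
  set hlInj : Set.InjOn ov (Set.Iio l) := hoInj.mono (Set.Iio_subset_Iio hlk.le)
  set U := seqSet ov l with hU
  set uP := cyc ov l hlInj with huP
  set vP := g * uP * g⁻¹ with hvP
  have hUI : U ⊆ I := fun z hz => by
    obtain ⟨i, hi, rfl⟩ := mem_seqSet.1 hz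
    exact mem_seqSet.2 ⟨i, by omega, rfl⟩
  have huΩ : uP ∈ altOn Ω := cyc_mem_altOn _ hlodd (hUI.trans hIΩ)
  obtain ⟨σ, hsign, hfour, himg, hσI, hσfix⟩ := exists_connect (n := n) hN hpts hn hr hrp hp7 even
  have hσp : σ (pts p) = pts p := hσfix p (Or.inl rfl)
  have hσp1 : σ (pts (p + 1)) = pts (p + 1) := hσfix (p + 1) (Or.inr (Or.inl rfl))
  have hσsmall : ∀ i, i + 2 < p - r → σ (pts i) = pts i := fun i hi => hσfix i (Or.inr (Or.inr (Or.inl hi)))
  have hσ01 : σ (pts 0) = pts 0 ∧ σ (pts 1) = pts 1 := by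
    rcases Nat.lt_or_ge r 2 with h' | h'
    · have := hp7 (by omega)
      exact ⟨hσsmall 0 (by omega), hσsmall 1 (by omega)⟩
    · exact ⟨hσfix 0 (Or.inr (Or.inr (Or.inr ⟨Or.inr h', by omega⟩))),
        hσfix 1 (Or.inr (Or.inr (Or.inr ⟨Or.inr h', by omega⟩)))⟩
  have hσU : ∀ z ∈ U, σ z = z := fun z hz => by
    obtain ⟨i, hi, rfl⟩ := mem_seqSet.1 hz
    rw [hov, overlapSeq]
    split_ifs
    · exact hσp
    · exact hσp1
    · rcases Nat.lt_or_ge r 2 with h' | h'
      · have := hlr (by omega)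
        exact hσsmall _ (by omega)
      · exact hσfix _ (Or.inr (Or.inr (Or.inr ⟨Or.inr h', by omega⟩)))
  have hσu : Commute σ uP := commute_cyc_of_fix _ hσU
  -- the conjugators
  set x₁ := pts (p - 1) with hx₁
  set x₂ := ov (k - 1) with hx₂
  have hx₂e : x₂ = pts (p - r - 1) := by
    rw [hx₂, hov, overlapSeq, if_neg (by omega), if_neg (by omega)]
    congr 1
  have hx12 : x₁ ≠ x₂ := by rw [hx₂e]; exact ne _ _ (by omega) (by omega) (by omega)
  have hx₁U : x₁ ∉ U := fun hm => by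
    obtain ⟨i, hi, e⟩ := mem_overlap.1 (hUI hm)
    exact ne _ _ (by omega) (by omega) (by omega) e
  have hx₂U : x₂ ∉ U := notMem_seqSet hoInj (by omega) (by omega)
  have hswap : Commute (swap x₁ x₂) uP := commute_cyc_of_fix _ fun z hz =>
    swap_apply_of_ne_of_ne (fun e => hx₁U (by rw [← e]; exact hz)) (fun e => hx₂U (by rw [← e]; exact hz))
  have hgΩ : ∀ z, z ∉ Ω → g z = z := fun z hz => hgfix z fun hm => hz (hIΩ hm)
  have hx₁Ω : x₁ ∈ Ω := hΩmem _ (by omega)
  have hx₂Ω : x₂ ∈ Ω := by rw [hx₂e]; exact hΩmem _ (by omega)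
  obtain ⟨hP, hhP, hhPe⟩ := exists_even_conjugator (u := uP) hgΩ hx12 hx₁Ω hx₂Ω hswap
  have hσout : ∀ z, z ∉ I → σ z ∉ I := notMem_of_stable hσI
  have hσinvI : ∀ z, z ∉ I → σ⁻¹ z ∉ I := fun z hz hm => hz (by
    have := hσI _ hm
    rwa [show σ (σ⁻¹ z) = z from σ.apply_symm_apply z] at this)
  obtain ⟨hP', hhP', hhP'e⟩ : ∃ hP' ∈ altOn Ω, hP' * uP * hP'⁻¹ = σ * vP * σ⁻¹ ∧ (even = false → hP' = hP) := by
    cases heven : even
    · refine ⟨hP, hhP, ?_, fun _ => rfl⟩
      have hcomm : Commute σ g := by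
        ext z
        rw [Perm.mul_apply, Perm.mul_apply]
        have hfixI : ∀ w ∈ I, σ w = w := fun w hw => by
          obtain ⟨i, hi | rfl | rfl, rfl⟩ := mem_overlap.1 hw
          · exact hσfix i (Or.inr (Or.inr (Or.inr ⟨Or.inl heven, hi⟩)))
          · exact hσp
          · exact hσp1
        by_cases hz : z ∈ I
        · have hgz : g z ∈ I := by
            by_contra hgz
            have h' := g.injective (hgfix (g z) hgz)
            rw [h'] at hgz
            exact hgz hz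
          rw [hfixI _ hgz, hfixI z hz]
        · rw [hgfix z hz, hgfix (σ z) (hσout z hz)]
      rw [hhPe, hvP, show σ * (g * uP * g⁻¹) * σ⁻¹ = (σ * g) * uP * (σ * g)⁻¹ by group, hcomm.eq,
        show g * σ * uP * (g * σ)⁻¹ = g * (σ * uP * σ⁻¹) * g⁻¹ by group, hσu.eq, mul_inv_cancel_right]
    · have hg' : ∀ z, z ∉ Ω → (σ * g * σ⁻¹) z = z := fun z hz => by
        rw [Perm.mul_apply, Perm.mul_apply, hgfix _ (hσinvI z fun hm => hz (hIΩ hm))]
        exact σ.apply_symm_apply z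
      obtain ⟨h', hh', he'⟩ := exists_even_conjugator (u := uP) hg' hx12 hx₁Ω hx₂Ω hswap
      refine ⟨h', hh', ?_, fun e => by simp at e⟩
      rw [he', hvP, show σ * g * σ⁻¹ * uP * (σ * g * σ⁻¹)⁻¹ = σ * (g * (σ⁻¹ * uP * σ) * g⁻¹) * σ⁻¹ by group,
        mul_assoc σ⁻¹, ← hσu.eq, inv_mul_cancel_left]
  obtain ⟨hhP'e, hS⟩ := hhP'e
  -- the middle factor
  set A₀ : Perm (Fin n) := cond even (hP'⁻¹ * σ * hP) (σ * hP⁻¹ * σ * hP) with hA₀
  have hA₀sign : sign A₀ = 1 := by
    rw [hA₀]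
    cases even <;> simp [(mem_altOn.1 hhP).1, (mem_altOn.1 hhP').1, hsign]
  have hA₀u : Commute A₀ uP := by
    suffices h' : A₀ * uP * A₀⁻¹ = uP from mul_inv_eq_iff_eq_mul.1 h'
    rw [hA₀]
    cases heven : even
    · rw [cond_false, show σ * hP⁻¹ * σ * hP * uP * (σ * hP⁻¹ * σ * hP)⁻¹ =
        σ * (hP⁻¹ * (σ * (hP * uP * hP⁻¹) * σ⁻¹) * hP) * σ⁻¹ by group, hhPe]
      rw [← hvP, ← hhP'e, hS heven, show hP⁻¹ * (hP * uP * hP⁻¹) * hP = uP by group, hσu.eq, mul_inv_cancel_right]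
    · rw [cond_true, show hP'⁻¹ * σ * hP * uP * (hP'⁻¹ * σ * hP)⁻¹ = hP'⁻¹ * (σ * (hP * uP * hP⁻¹) * σ⁻¹) * hP' by
        group, hhPe, ← hvP, ← hhP'e, show hP'⁻¹ * (hP' * uP * hP'⁻¹) * hP' = uP by group]
  obtain ⟨αP, βP, hαΩ, hβQI, hαβ, hfix0, hpiv, hfixQ, horb, hgenβ, hkill⟩ := exists_gluer hN hn hr hrp
  obtain ⟨ρ, ν, B, hB⟩ := exists_affMul h hp hp3
  set A := affA pts p h with hA
  set X := affX pts p with hX
  set t : Fin 3 → Perm (Fin n) := ![A, X, σ] with ht
  have hσt : FreeGroup.lift t (FreeGroup.of 2) = σ := by rw [FreeGroup.lift_apply_of]; rfl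
  have lift : ∀ {z : Perm (Fin n)}, z ∈ altOn Ω → ∃ W ∈ wordsOne, FreeGroup.lift t W = z := fun hz =>
    wordsOne_onto h hp.pos hz
  obtain ⟨Wb, hWb, hWbB⟩ := lift hB.mem
  obtain ⟨u₀, hu₀, hu₀e⟩ := lift huΩ
  obtain ⟨Wh, hWh, hWhe⟩ := lift hhP
  obtain ⟨Wh', hWh', hWh'e⟩ := lift hhP'
  obtain ⟨Wα, hWα, hWαe⟩ := lift hαΩ
  have hβΩ : σ⁻¹ * βP * σ ∈ altOn Ω := conj_mem_altOn hβQI fun z hz hm => hz (by
    rw [← himg] at hm
    obtain ⟨w, hw, e⟩ := Finset.mem_image.1 hm
    exact σ.injective e ▸ hw)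
  obtain ⟨Wβ, hWβ, hWβe⟩ := lift hβΩ
  set Wu := u₀ ^ (l + 1) with hWu
  have hWue : FreeGroup.lift t Wu = uP := by rw [hWu, map_pow, hu₀e, pow_succ, cyc_pow_self, one_mul]
  let M : Set (FreeGroup (Fin 3)) := {W | W ∈ wordsOne ∧ Commute (FreeGroup.lift t W) uP}
  obtain ⟨X₀, hX₀, hX₀e⟩ : A₀ ∈ (closure (M ∪ (fun W => FreeGroup.of 2 * W * (FreeGroup.of 2)⁻¹) '' M)).map
      (FreeGroup.lift t) := by
    have hcard : 3 ≤ (Ω \ U).card := by
      have h1 := Finset.card_sdiff_of_subset (hUI.trans hIΩ)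
      have h2 : Ω.card = p + 2 := card_seqSet h
      have h3 : U.card = l := card_seqSet hlInj
      omega
    have hx₂R : x₂ ∈ (Ω \ U).image σ := by
      have hxI : x₂ ∈ I := mem_seqSet.2 ⟨k - 1, by omega, rfl⟩
      have : x₂ ∈ Ω.image σ := by rw [himg]; exact Finset.mem_union_right _ hxI
      obtain ⟨w, hw, e⟩ := Finset.mem_image.1 this
      refine Finset.mem_image.2 ⟨w, Finset.mem_sdiff.2 ⟨hw, fun hwU => hx₂U ?_⟩, e⟩
      rw [← e, hσU w hwU]; exact hwU
    refine cover_commute hlInj hl2 hlodd (hUI.trans hIΩ) himg (fun z => ?_) hσU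
      (Finset.mem_sdiff.2 ⟨hx₂Ω, hx₂U⟩) hx₂R hcard (fun s hs hsu => ?_) (fun s hs hsu => ?_) hA₀sign hA₀u
    · obtain ⟨i, hi, rfl⟩ := exists_idx hpts z
      rcases Nat.lt_or_ge i (p + 2) with h' | h'
      · exact Or.inl (hΩmem i h')
      · exact Or.inr (mem_seqSet.2 ⟨i - (p + 2), by omega, by congr 1; omega⟩)
    · obtain ⟨W, hW, rfl⟩ := lift hs
      exact ⟨W, subset_closure (Or.inl ⟨hW, hsu⟩), rfl⟩
    · obtain ⟨W, hW, rfl⟩ := lift hs
      refine ⟨FreeGroup.of 2 * W * (FreeGroup.of 2)⁻¹, subset_closure (Or.inr ⟨W, ⟨hW, hsu⟩, rfl⟩), ?_⟩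
      rw [map_mul, map_mul, map_inv, hσt]
  -- the relators
  let w₀ : FreeGroup (Fin 3) := FreeGroup.of 2
  let eExp : ℕ := if Even r then 1 else 0
  let R5 : FreeGroup (Fin 3) := w₀ * Wu * w₀⁻¹ * Wu⁻¹
  let R6 : FreeGroup (Fin 3) := w₀ * (cond even (Wh' * X₀ * Wh⁻¹) (Wh * w₀⁻¹ * X₀ * Wh⁻¹))⁻¹
  let R7 : FreeGroup (Fin 3) :=
    Wα * (w₀ * Wβ * w₀⁻¹) * Wα⁻¹ * (w₀ * Wβ * w₀⁻¹)⁻¹ * ((FreeGroup.of 1 ^ 3) ^ eExp)⁻¹
  have hovI : ∀ i, (i < p - r ∨ i = p ∨ i = p + 1) → pts i ∈ I := hImem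
  have hXσ : Commute X σ := by
    have : σ * X * σ⁻¹ = X := by rw [hX, affX, conj_three, hσp, hσp1, hσ01.1]
    exact (mul_inv_eq_iff_eq_mul.1 this).symm
  have hX3 : X ^ 3 = 1 := affX_pow_three h hp.pos
  have hle : altOn Finset.univ ≤ closure (Set.range t) := by
    have h1 : altOn Ω ≤ closure (Set.range t) := (wordsOne_onto h hp.pos).trans (map_wordsOne_le _)
    have h2 : altOn (Ω.image σ) ≤ closure (Set.range t) := altOn_image_le (subset_closure ⟨2, rfl⟩) h1
    have hc : 3 ≤ Ω.card := by rw [card_seqSet h]; omega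
    refine le_trans (altOn_mono ?_) (altOn_union_le h1 h2 hc
      (by rwa [Finset.card_image_of_injective _ σ.injective]) (a := pts p) (hΩmem p (by omega))
      (by rw [himg]; exact Finset.mem_union_right _ (hImem p (Or.inr (Or.inl rfl)))))
    intro z _
    obtain ⟨i, hi, rfl⟩ := exists_idx hpts z
    rcases Nat.lt_or_ge i (p + 2) with h' | h'
    · exact Finset.mem_union_left _ (hΩmem i h')
    · refine Finset.mem_union_right _ ?_
      rw [himg]
      exact Finset.mem_union_left _ (mem_seqSet.2 ⟨i - (p + 2), by omega, by congr 1; omega⟩)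
  refine ⟨A, X, σ, HasPres.intro t ?_ (affRels p ν Wb ++ [R5, R6, R7]) (by simp [affRels]) ?_ ?_, hXσ, hfour, hX3⟩
  · cases heven : even
    · exact closure_range_odd hle 2 (by show sign σ = -1; rw [hsign, heven]; rfl)
    · refine closure_range_even hle fun i => ?_
      fin_cases i
      · show sign A = 1
        rw [hA, affA, sign_cyc]
        obtain ⟨s, hs⟩ := hpodd
        rw [hs, Nat.add_sub_cancel, pow_mul]; simp
      · exact sign_three (ne _ _ (by omega) (by omega) (by omega)) (ne _ _ (by omega) (by omega) (by omega))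
      · show sign σ = 1
        rw [hsign, heven]; rfl
  · intro z hz
    rcases List.mem_append.1 hz with hz | hz
    · exact affRels_hold h hp.one_lt hpodd hB hWbB z hz
    · simp only [List.mem_cons, List.not_mem_nil, or_false] at hz
      rcases hz with rfl | rfl | rfl
      · simp only [R5, w₀, map_mul, map_inv, hWue, hσt]
        rw [hσu.eq, mul_inv_cancel_right, mul_inv_cancel]
      · simp only [R6, w₀, map_mul, map_inv, hσt, mul_inv_eq_one]
        cases heven : even <;> simp only [cond_true, cond_false, map_mul, map_inv, hσt, hWhe, hWh'e, hX₀e, hA₀, heven]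
        · group
        · group
      · simp only [R7, w₀, map_mul, map_inv, map_pow, hσt, hWαe, hWβe, FreeGroup.lift_apply_of]
        rw [show σ * (σ⁻¹ * βP * σ) * σ⁻¹ = βP by group, hαβ.eq, mul_inv_cancel_right, mul_inv_cancel, one_mul,
          inv_eq_one]
        show (X ^ 3) ^ eExp = 1
        rw [hX3, one_pow]
  · intro G _ q π hq hπ hrels x hx
    simp only [List.forall_mem_append, List.forall_mem_cons, List.not_mem_nil, false_implies, implies_true,
      and_true] at hrels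
    obtain ⟨hr14, hr5, hr6, hr7⟩ := hrels
    obtain ⟨hd, haH, hap, hlift2⟩ := affine_of_rels h hp hB hWb hq hπ hr14
    set H := wordsOne.map q with hH
    set c := q (FreeGroup.of 1) ^ 3 with hc
    set w := q (FreeGroup.of 2) with hw
    have hπq : ∀ W, π (q W) = FreeGroup.lift t W := fun W => by rw [← MonoidHom.comp_apply, hπ]
    have hπw : π w = σ := (hπq _).trans hσt
    have hu : q Wu ∈ H := Subgroup.mem_map_of_mem q (pow_mem hu₀ _)
    have huH : q u₀ ∈ H := Subgroup.mem_map_of_mem q hu₀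
    have hul : q Wu ^ l = 1 := by
      obtain ⟨m, hm⟩ := mem_zpowers_iff.1 (hd.ker _ (pow_mem huH l) (by rw [map_pow, hπq, hu₀e, cyc_pow_self]))
      obtain ⟨s, hs⟩ : Even (l + 1) := hlodd.add_one
      rw [hWu, map_pow, ← pow_mul, mul_comm, pow_mul, ← hm, hs, ← two_mul, pow_mul, ← zpow_natCast (c ^ m),
        ← zpow_mul, mul_comm m, zpow_mul, zpow_natCast, hd.c_sq, one_zpow, one_pow]
    have hπu : π (q Wu) = uP := (hπq _).trans hWue
    simp only [R5, w₀, map_mul, map_inv, mul_inv_eq_one] at hr5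
    rw [← hw] at hr5
    have huw : Commute w (q Wu) := mul_inv_eq_iff_eq_mul.1 hr5
    set h₁ := q Wh with hh₁
    set h₂ := q Wh' with hh₂
    have hh₁H : h₁ ∈ H := Subgroup.mem_map_of_mem q hWh
    have hh₂H : h₂ ∈ H := Subgroup.mem_map_of_mem q hWh'
    set X' := q X₀ with hX'
    have hXmem : X' ∈ closure ({y : G | y ∈ H ∧ Commute (π y) (π (q Wu))} ∪
        (fun y => w * y * w⁻¹) '' {y : G | y ∈ H ∧ Commute (π y) (π (q Wu))}) := by
      have h' := Subgroup.mem_map_of_mem q hX₀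
      rw [MonoidHom.map_closure] at h'
      refine closure_mono ?_ h'
      rintro _ ⟨W, (⟨hW, hWc⟩ | ⟨W, ⟨hW, hWc⟩, rfl⟩), rfl⟩
      · exact Or.inl ⟨Subgroup.mem_map_of_mem q hW, by rw [hπq, hπu]; exact hWc⟩
      · exact Or.inr ⟨q W, ⟨Subgroup.mem_map_of_mem q hW, by rw [hπq, hπu]; exact hWc⟩, by simp [hw]⟩
    have hXu : Commute X' (q Wu) := hd.commute_gen hlodd hu hul huw hXmem
    have hXsup : X' ∈ H ⊔ copyTwo H w := by
      refine (closure_le _).2 ?_ hXmem
      rintro _ (⟨hy, -⟩ | ⟨y, ⟨hy, -⟩, rfl⟩)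
      · exact mem_sup_left hy
      · exact mem_sup_right (conj_mem_copyTwo hy)
    set v := h₁ * q Wu * h₁⁻¹ with hv
    have hvH : v ∈ H := mul_mem (mul_mem hh₁H hu) (inv_mem hh₁H)
    have hu' : w * q Wu * w⁻¹ ∈ H := by rw [hr5]; exact hu
    have hconj : w * v * w⁻¹ = h₂ * q Wu * h₂⁻¹ ∨ (even = false ∧ w * v * w⁻¹ = v) := by
      simp only [R6, w₀, map_mul, map_inv, mul_inv_eq_one] at hr6
      rw [← hw] at hr6
      cases heven : even
      · rw [heven, cond_false, map_mul, map_mul, map_mul, map_inv, map_inv, ← hw, ← hh₁, ← hX'] at hr6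
        refine Or.inr ⟨rfl, ?_⟩
        have huw' : w⁻¹ * q Wu * w = q Wu := by rw [mul_assoc, ← huw.eq, inv_mul_cancel_left]
        calc w * v * w⁻¹ = (h₁ * w⁻¹ * X' * h₁⁻¹) * v * (h₁ * w⁻¹ * X' * h₁⁻¹)⁻¹ := by rw [← hr6]
          _ = h₁ * (w⁻¹ * (X' * q Wu * X'⁻¹) * w) * h₁⁻¹ := by rw [hv]; group
          _ = v := by rw [hXu.eq, mul_inv_cancel_right, huw', hv]
      · rw [heven, cond_true, map_mul, map_mul, map_inv, ← hh₁, ← hh₂, ← hX'] at hr6
        left
        calc w * v * w⁻¹ = (h₂ * X' * h₁⁻¹) * v * (h₂ * X' * h₁⁻¹)⁻¹ := by rw [← hr6]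
          _ = h₂ * (X' * q Wu * X'⁻¹) * h₂⁻¹ := by rw [hv]; group
          _ = h₂ * q Wu * h₂⁻¹ := by rw [hXu.eq, mul_inv_cancel_right]
    have hv' : w * v * w⁻¹ ∈ H := by
      rcases hconj with e | ⟨-, e⟩ <;> rw [e]
      · exact mul_mem (mul_mem hh₂H hu) (inv_mem hh₂H)
      · exact hvH
    have hπv : π v = vP := by rw [hv, map_mul, map_mul, map_inv, hπu, hh₁, hπq, hWhe, hhPe, hvP]
    have hgenI : altOn I ≤ closure ({π (w * q Wu * w⁻¹), π (w * v * w⁻¹)} : Set (Perm (Fin n))) := by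
      intro s hs
      have hmem : σ⁻¹ * s * σ ∈ closure ({uP, vP} : Set (Perm (Fin n))) := hggen (conj_mem_altOn hs hσout)
      have h' := Subgroup.mem_map_of_mem (MulAut.conj σ).toMonoidHom hmem
      rw [MonoidHom.map_closure, Set.image_pair] at h'
      convert h' using 1
      · rw [map_mul, map_mul, map_inv, map_mul, map_mul, map_inv, hπw, hπu, hπv]; rfl
      · show s = σ * (σ⁻¹ * s * σ) * σ⁻¹
        group
    set d := three (pts p) (pts (p + 1)) (pts 0) * three (pts p) (pts (p + 1)) (pts 1) with hdd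
    have hdI : d ∈ altOn I := mul_mem
      (three_mem (ne _ _ (by omega) (by omega) (by omega)) (ne _ _ (by omega) (by omega) (by omega))
        (hImem p (Or.inr (Or.inl rfl))) (hImem (p + 1) (Or.inr (Or.inr rfl))) (hImem 0 (Or.inl (by omega))))
      (three_mem (ne _ _ (by omega) (by omega) (by omega)) (ne _ _ (by omega) (by omega) (by omega))
        (hImem p (Or.inr (Or.inl rfl))) (hImem (p + 1) (Or.inr (Or.inr rfl))) (hImem 1 (Or.inl (by omega))))
    have hdσ : σ * d * σ⁻¹ = d := by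
      rw [hdd, show σ * (three (pts p) (pts (p + 1)) (pts 0) * three (pts p) (pts (p + 1)) (pts 1)) * σ⁻¹ =
        σ * three (pts p) (pts (p + 1)) (pts 0) * σ⁻¹ * (σ * three (pts p) (pts (p + 1)) (pts 1) * σ⁻¹) by group,
        conj_three, conj_three, hσp, hσp1, hσ01.1, hσ01.2]
    have hcen : ∀ y : G, Commute y c := hd.central hu hvH hu' hv'
      (by rw [hπu, hπv]; exact hggen hdI) (by rw [hπw]; exact hdσ) hlift2
    have hIfun : ∀ {y : G}, π y ∈ altOn I → (y ∈ H → y ∈ copyTwo H w) ∧ (y ∈ copyTwo H w → y ∈ H) := fun {y} hy =>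
      hd.overlap hcen hu hvH hu' hv' hgenI hy
    set α' := q Wα with hα'
    set β' := w * q Wβ * w⁻¹ with hβ'
    have hα'H : α' ∈ H := Subgroup.mem_map_of_mem q hWα
    have hβ'H : β' ∈ copyTwo H w := conj_mem_copyTwo (Subgroup.mem_map_of_mem q hWβ)
    have hπα : π α' = αP := (hπq _).trans hWαe
    have hπβ : π β' = βP := by
      rw [hβ', map_mul, map_mul, map_inv, hπw, hπq, hWβe]; group
    simp only [R7, w₀, map_mul, map_inv, map_pow, mul_inv_eq_one] at hr7
    have hcomm : α' * β' * α'⁻¹ * β'⁻¹ = c ^ eExp := by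
      rw [hα', hβ']; exact hr7
    have hL : Layout π α' β' w Ω Q I (I.erase (pts 0)) (pts p) (pts (p + 1)) (pts 0) := by
      refine ⟨ne _ _ (by omega) (by omega) (by omega),
        Finset.mem_erase.2 ⟨ne _ _ (by omega) (by omega) (by omega), hImem p (Or.inr (Or.inl rfl))⟩,
        Finset.mem_erase.2 ⟨ne _ _ (by omega) (by omega) (by omega), hImem (p + 1) (Or.inr (Or.inr rfl))⟩,
        hImem 0 (Or.inl (by omega)), ne _ _ (by omega) (by omega) (by omega), ne _ _ (by omega) (by omega) (by omega),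
        Finset.erase_subset _ _, hIΩ, fun z => ?_, fun z hz hm => ?_, by rw [hπw]; exact himg,
        by rw [hπα]; exact hfix0, by rw [hπα]; exact hpiv, by rw [hπα]; exact hfixQ, by rw [hπα]; exact horb,
        by rw [hπβ]; exact hgenβ⟩
      · obtain ⟨i, hi, rfl⟩ := exists_idx hpts z
        rcases Nat.lt_or_ge i (p + 2) with h' | h'
        · exact Or.inl (hΩmem i h')
        · exact Or.inr (mem_seqSet.2 ⟨i - (p + 2), by omega, by congr 1; omega⟩)
      · obtain ⟨i, hi, rfl⟩ := mem_seqSet.1 hz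
        obtain ⟨j, hj, e⟩ := mem_seqSet.1 hm
        exact ne _ _ (by omega) (by omega) (by omega) e
    obtain ⟨N, hHN, hH'N, hNle, honto, hsignN, hkerN⟩ := hd.glue_ker hcen hL hIfun hα'H hβ'H
      (by rw [hcomm]; exact pow_mem (mem_zpowers c) _)
    have hαN : α' ∈ N := hHN hα'H
    have hβN : β' ∈ N := hH'N hβ'H
    have hc1 : c = 1 := by
      rcases hkill with ⟨hev, hpow⟩ | ⟨hodd, d₁, d₂, C₁, C₂, e1, e2, m1, m2, p1, p2, cm1, cm2, hconjd⟩
      · obtain ⟨m, hm⟩ := mem_zpowers_iff.1 (hd.ker _ (pow_mem hα'H (r + 1)) (by rw [map_pow, hπα, hpow]))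
        have hl' : Odd (r + 1) := hev.add_one
        have hrel : α' * β' * α'⁻¹ * β'⁻¹ = c := by
          rw [hcomm, show eExp = 1 from if_pos hev, pow_one]
        -- replace the lift by one of exact odd order
        have hcm : (c ^ m) ^ 2 = 1 := by
          rw [← zpow_natCast, ← zpow_mul, mul_comm, zpow_mul, zpow_natCast, hd.c_sq, one_zpow]
        have hα2 : (α' * c ^ m) ^ (r + 1) = 1 := by
          obtain ⟨s, hs⟩ := hl'
          rw [((hcen α').zpow_right m).mul_pow, ← hm, hs, pow_succ (c ^ m), pow_mul, hcm, one_pow, one_mul, ← sq, hcm]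
        refine kill_odd (π := π) (N := N) (a := α' * c ^ m) (b := β') hcen hd.c_sq hkerN
          (mul_mem hαN (hHN (zpow_mem hd.c_mem m))) hβN hl' hα2 ?_ ?_
        · rw [map_mul, map_zpow, hd.c_map, one_zpow, mul_one, hπα, hπβ]; exact hαβ
        · rw [show α' * c ^ m * β' * (α' * c ^ m)⁻¹ = α' * (c ^ m * β' * (c ^ m)⁻¹) * α'⁻¹ by group,
            ← ((hcen β').zpow_right m).eq, mul_inv_cancel_right]
          exact hrel
      · have hrel : α' * β' * α'⁻¹ * β'⁻¹ = 1 := by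
          rw [hcomm, show eExp = 0 from if_neg (Nat.not_even_iff_odd.2 hodd), pow_zero]
        refine kill_even (π := π) (N := N) hcen hd.c_sq hkerN honto hαN hβN hrel (d := d) ?_
          (d₁ := d₁) (d₂ := d₂) (C₁ := C₁) (C₂ := C₂) (hπα.trans e1) (hπβ.trans e2) m1 m2 hodd hodd p1 p2
          (by rw [hπβ]; exact cm1) cm2 hconjd
        intro y hy hyd
        obtain ⟨y₀, hy₀, hy₀d⟩ := hd.onto (altOn_mono hIΩ hdI)
        have hmem : y * y₀⁻¹ ∈ zpowers c := hkerN _ (mul_mem hy (inv_mem (hHN hy₀)))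
          (by rw [map_mul, map_inv, hyd, hy₀d, mul_inv_cancel])
        obtain ⟨m, hm⟩ := mem_zpowers_iff.1 hmem
        rw [show y = c ^ m * y₀ by rw [hm, inv_mul_cancel_right], ((hcen y₀).symm.zpow_left m).mul_pow,
          hlift2 y₀ hy₀ hy₀d, ← zpow_natCast (c ^ m), ← zpow_mul, mul_comm, zpow_mul, zpow_natCast, hd.c_sq,
          one_zpow, one_mul]
    have hxN : x ∈ N := by
      simp only [R6, w₀, map_mul, map_inv, mul_inv_eq_one] at hr6
      rw [← hw] at hr6
      cases heven : even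
      · rw [heven, cond_false, map_mul, map_mul, map_mul, map_inv, map_inv, ← hw, ← hh₁, ← hX'] at hr6
        have hww : w * w ∈ N := by
          have e : w * w = (w * h₁ * w⁻¹) * X' * h₁⁻¹ := by
            calc w * w = w * (h₁ * w⁻¹ * X' * h₁⁻¹) := congrArg (w * ·) hr6
              _ = w * h₁ * w⁻¹ * X' * h₁⁻¹ := by group
          rw [e]
          exact mul_mem (mul_mem (hH'N (conj_mem_copyTwo hh₁H)) (sup_le hHN hH'N hXsup)) (inv_mem (hHN hh₁H))
        exact symmetric_case hHN hH'N hNle hd.gen hww hsignN (by rw [hπw, hsign, heven]; rfl) hx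
      · rw [heven, cond_true, map_mul, map_mul, map_inv, ← hh₁, ← hh₂, ← hX'] at hr6
        have hwmem : w ∈ H ⊔ copyTwo H w := by
          have h' : h₂ * X' * h₁⁻¹ ∈ H ⊔ copyTwo H w :=
            mul_mem (mul_mem (mem_sup_left hh₂H) hXsup) (inv_mem (mem_sup_left hh₁H))
          rwa [← hr6] at h'
        rw [alternating_case hHN hH'N hd.gen hwmem]
        exact mem_top x
    have := hkerN x hxN hx
    rwa [hc1, zpowers_one_eq_bot, mem_bot] at this

end CfsgLib.Presentations
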