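import Cfsg.Agent.Lib.Presentations.Shapes

/-!
Two conjugate cycles generating the alternating group of their points.
-/

set_option autoImplicit false
set_option linter.unusedSectionVars false

open Equiv Equiv.Perm Subgroup

namespace CfsgLib.Presentations

theorem seven_identity_five :
    (swap (1 : Fin 8) 5 * (swap 3 6 * swap 4 7) * (swap 0 5 * (swap 2 6 * swap 3 7))) ^ 5 = three 0 1 5 ∨
    (swap (1 : Fin 8) 5 * (swap 3 6 * swap 4 7) * (swap 0 5 * (swap 2 6 * swap 3 7))) ^ 5 = three 5 1 0 := by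
  decide +kernel

variable {α : Type*} [Fintype α] [DecidableEq α]

theorem conj_mem_of_two {Γ : Subgroup (Perm α)} {u g : Perm α} (hg : g⁻¹ = g) (hu : u ∈ Γ)
    (hv : g * u * g⁻¹ ∈ Γ) : u * g * u⁻¹ * g ∈ Γ := by
  have := mul_mem hu (inv_mem hv)
  rwa [show u * (g * u * g⁻¹)⁻¹ = u * g * u⁻¹ * g⁻¹ by group, hg] at this

theorem swap_commute_of_ne {a b c d : α} (h1 : a ≠ c) (h2 : a ≠ d) (h3 : b ≠ c) (h4 : b ≠ d) :
    Commute (swap a b) (swap c d) := by
  show swap a b * swap c d = swap c d * swap a b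
  rw [mul_swap_eq_swap_mul, swap_apply_of_ne_of_ne h1.symm h3.symm, swap_apply_of_ne_of_ne h2.symm h4.symm]

variable {e : ℕ → α} {k : ℕ}

theorem seqSet_succ (e : ℕ → α) (l : ℕ) : seqSet e (l + 1) = insert (e l) (seqSet e l) := by
  simp [seqSet, Finset.range_add_one, Finset.image_insert]

theorem notMem_seqSet (he : Set.InjOn e (Set.Iio k)) {i l : ℕ} (hi : i < k) (hli : l ≤ i) :
    e i ∉ seqSet e l := fun hm => by
  obtain ⟨j, hj, hje⟩ := mem_seqSet.1 hm
  have := he (show j ∈ Set.Iio k by simp; omega) (show i ∈ Set.Iio k by simpa using hi) hje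
  omega

/-- Even length: a transposition. -/
theorem gen_one {l : ℕ} (hl : 2 ≤ l) (he : Set.InjOn e (Set.Iio (l + 1))) :
    ∃ g : Perm α, (∀ z, z ∉ seqSet e (l + 1) → g z = z) ∧
      altOn (seqSet e (l + 1)) ≤ closure
        ({cyc e l (he.mono (Set.Iio_subset_Iio (by omega))),
          g * cyc e l (he.mono (Set.Iio_subset_Iio (by omega))) * g⁻¹} : Set (Perm α)) := by
  have hl' : Set.InjOn e (Set.Iio l) := he.mono (Set.Iio_subset_Iio (by omega))
  have hmem : ∀ i, i ≤ l → e i ∈ seqSet e (l + 1) := fun i hi => mem_seqSet.2 ⟨i, by omega, rfl⟩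
  refine ⟨swap (e 0) (e l), fun z hz => swap_apply_of_ne_of_ne (fun e' => hz (e' ▸ hmem 0 (by omega)))
    (fun e' => hz (e' ▸ hmem l le_rfl)), ?_⟩
  set Γ := closure ({cyc e l hl', swap (e 0) (e l) * cyc e l hl' * (swap (e 0) (e l))⁻¹} : Set (Perm α))
  have hu : cyc e l hl' ∈ Γ := subset_closure (by simp)
  have h0 := conj_mem_of_two (swap_inv (e 0) (e l)) hu (subset_closure (by simp))
  rw [← swap_apply_apply, cyc_apply hl' (by omega), cyc_apply_of_notMem hl' (notMem_seqSet he (by omega) le_rfl),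
    Nat.mod_eq_of_lt (by omega : 0 + 1 < l), Nat.zero_add, swap_comm (e 0) (e l)] at h0
  have h3 : altOn ({e 0, e 1, e l} : Finset α) ≤ Γ := by
    refine le_trans (altOn_mono ?_) (altOn_triple_le (a := e 1) (b := e l) (c := e 0) ?_ h0)
    · intro z hz; simp only [Finset.mem_insert, Finset.mem_singleton] at hz ⊢; tauto
    · intro e'
      have := he (show 1 ∈ Set.Iio (l + 1) by simp; omega) (show l ∈ Set.Iio (l + 1) by simp) e'
      omega
  rw [seqSet_succ]
  exact altOn_cycle_le (i := 0) hl' hu hl (by omega) (notMem_seqSet he (by omega) le_rfl) h3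

/-- Length five: two three-cycles with a common point. -/
theorem gen_five (he : Set.InjOn e (Set.Iio 5)) :
    ∃ g : Perm α, (∀ z, z ∉ seqSet e 5 → g z = z) ∧
      altOn (seqSet e 5) ≤ closure ({cyc e 3 (he.mono (Set.Iio_subset_Iio (by omega))),
          g * cyc e 3 (he.mono (Set.Iio_subset_Iio (by omega))) * g⁻¹} : Set (Perm α)) := by
  have hl' : Set.InjOn e (Set.Iio 3) := he.mono (Set.Iio_subset_Iio (by omega))
  have ne : ∀ i j, i < 5 → j < 5 → i ≠ j → e i ≠ e j := fun i j hi hj hij e' => hij (he hi hj e')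
  have hmem : ∀ i, i < 5 → e i ∈ seqSet e 5 := fun i hi => mem_seqSet.2 ⟨i, hi, rfl⟩
  have hu : cyc e 3 hl' = three (e 0) (e 1) (e 2) := by
    ext z
    by_cases hz : z ∈ seqSet e 3
    · obtain ⟨i, hi, rfl⟩ := mem_seqSet.1 hz
      rw [cyc_apply hl' hi]
      rcases (show i = 0 ∨ i = 1 ∨ i = 2 by omega) with rfl | rfl | rfl
      · rw [three_apply_left (ne _ _ (by omega) (by omega) (by omega)) (ne _ _ (by omega) (by omega) (by omega))]
      · rw [three_apply_mid (ne _ _ (by omega) (by omega) (by omega)) (ne _ _ (by omega) (by omega) (by omega))]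
      · rw [three_apply_right]
    · rw [cyc_apply_of_notMem hl' hz, three_apply_of_ne] <;>
      · intro h'
        exact hz (h' ▸ mem_seqSet.2 ⟨_, by omega, rfl⟩)
  refine ⟨swap (e 0) (e 3) * swap (e 1) (e 4), fun z hz => ?_, ?_⟩
  · have n := fun i (hi : i < 5) (h' : z = e i) => hz (h' ▸ hmem i hi)
    rw [Perm.mul_apply, swap_apply_of_ne_of_ne (n 1 (by omega)) (n 4 (by omega)),
      swap_apply_of_ne_of_ne (n 0 (by omega)) (n 3 (by omega))]
  rw [show cyc e 3 _ = three (e 0) (e 1) (e 2) from hu, conj_three]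
  simp only [Perm.mul_apply]
  rw [swap_apply_of_ne_of_ne (ne 0 1 (by omega) (by omega) (by omega)) (ne 0 4 (by omega) (by omega) (by omega)),
    swap_apply_left, swap_apply_left,
    swap_apply_of_ne_of_ne (ne 4 0 (by omega) (by omega) (by omega)) (ne 4 3 (by omega) (by omega) (by omega)),
    swap_apply_of_ne_of_ne (ne 2 1 (by omega) (by omega) (by omega)) (ne 2 4 (by omega) (by omega) (by omega)),
    swap_apply_of_ne_of_ne (ne 2 0 (by omega) (by omega) (by omega)) (ne 2 3 (by omega) (by omega) (by omega))]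
  have card3 : ∀ i j k : ℕ, i < 5 → j < 5 → k < 5 → i ≠ j → i ≠ k → j ≠ k →
      3 ≤ ({e i, e j, e k} : Finset α).card := fun i j k hi hj hk a b c => by
    rw [Finset.card_eq_three.2 ⟨_, _, _, ne i j hi hj a, ne i k hi hk b, ne j k hj hk c, rfl⟩]
  refine le_trans (altOn_mono ?_) (altOn_union_le
    (altOn_triple_le (ne 0 1 (by omega) (by omega) (by omega)) (subset_closure (Set.mem_insert _ _)))
    (altOn_triple_le (ne 3 4 (by omega) (by omega) (by omega))
      (subset_closure (Set.mem_insert_of_mem _ (Set.mem_singleton _))))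
    (card3 0 1 2 (by omega) (by omega) (by omega) (by omega) (by omega) (by omega))
    (card3 3 4 2 (by omega) (by omega) (by omega) (by omega) (by omega) (by omega))
    (a := e 2) (by simp) (by simp))
  intro z hz
  obtain ⟨i, hi, rfl⟩ := mem_seqSet.1 hz
  rcases (show i = 0 ∨ i = 1 ∨ i = 2 ∨ i = 3 ∨ i = 4 by omega) with rfl | rfl | rfl | rfl | rfl <;> simp

/-- A group containing a cycle and its conjugate absorbs the images. -/
theorem altOn_extend {S : Finset α} {Γ : Subgroup (Perm α)} {v : Perm α} (hv : v ∈ Γ) (hS : altOn S ≤ Γ)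
    (h3 : 3 ≤ S.card) {a : α} (ha : a ∈ S) (hva : v a ∈ S) : altOn (S ∪ S.image v) ≤ Γ :=
  altOn_union_le hS (altOn_image_le hv hS) h3 (by rw [Finset.card_image_of_injective _ v.injective]; exact h3)
    hva (Finset.mem_image_of_mem v ha)

theorem conj_apply_eq {g u : Perm α} (hg : g⁻¹ = g) (z : α) : (g * u * g⁻¹) z = g (u (g z)) := by
  rw [Perm.mul_apply, Perm.mul_apply, hg]

/-- Two further points. -/
theorem gen_two {l : ℕ} (hl : 5 ≤ l) (he : Set.InjOn e (Set.Iio (l + 2))) :
    ∃ g : Perm α, (∀ z, z ∉ seqSet e (l + 2) → g z = z) ∧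
      altOn (seqSet e (l + 2)) ≤ closure
        ({cyc e l (he.mono (Set.Iio_subset_Iio (by omega))),
          g * cyc e l (he.mono (Set.Iio_subset_Iio (by omega))) * g⁻¹} : Set (Perm α)) := by
  have hl' : Set.InjOn e (Set.Iio l) := he.mono (Set.Iio_subset_Iio (by omega))
  have ne : ∀ i j, i < l + 2 → j < l + 2 → i ≠ j → e i ≠ e j := fun i j hi hj hij e' =>
    hij (he (by simpa using hi) (by simpa using hj) e')
  have hcu : ∀ i, i + 1 < l → cyc e l hl' (e i) = e (i + 1) := fun i hi => by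
    rw [cyc_apply hl' (by omega), Nat.mod_eq_of_lt hi]
  have hcy : cyc e l hl' (e l) = e l := cyc_apply_of_notMem hl' (notMem_seqSet he (by omega) le_rfl)
  have hcz : cyc e l hl' (e (l + 1)) = e (l + 1) :=
    cyc_apply_of_notMem hl' (notMem_seqSet he (by omega) (by omega))
  set g : Perm α := swap (e 0) (e l) * swap (e 2) (e (l + 1)) with hg
  have hginv : g⁻¹ = g := by
    rw [hg, mul_inv_rev, swap_inv, swap_inv, (swap_commute_of_ne (ne _ _ (by omega) (by omega) (by omega))
      (ne _ _ (by omega) (by omega) (by omega)) (ne _ _ (by omega) (by omega) (by omega))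
      (ne _ _ (by omega) (by omega) (by omega))).eq]
  refine ⟨g, fun z hz => ?_, ?_⟩
  · have n := fun i (hi : i < l + 2) (h' : z = e i) => hz (h' ▸ mem_seqSet.2 ⟨i, hi, rfl⟩)
    rw [hg, Perm.mul_apply, swap_apply_of_ne_of_ne (n 2 (by omega)) (n (l + 1) (by omega)),
      swap_apply_of_ne_of_ne (n 0 (by omega)) (n l (by omega))]
  set Γ := closure ({cyc e l hl', g * cyc e l hl' * g⁻¹} : Set (Perm α))
  have hu : cyc e l hl' ∈ Γ := subset_closure (by simp)
  have hv : g * cyc e l hl' * g⁻¹ ∈ Γ := subset_closure (by simp)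
  let idx : Fin 7 → ℕ := ![0, 1, 2, 3, 4, l, l + 1]
  have hidx : ∀ i, idx i < l + 2 := by intro i; fin_cases i <;> simp [idx] <;> omega
  have hidx' : Function.Injective idx := by
    refine StrictMono.injective (Fin.strictMono_iff_lt_succ.2 fun i => ?_)
    fin_cases i <;> simp [idx] <;> omega
  obtain ⟨φ, hφ⟩ : ∃ φ : Fin 7 ↪ α, ∀ i, φ i = e (idx i) :=
    ⟨⟨fun i => e (idx i), fun i j hij => hidx' (he (by simpa using hidx i) (by simpa using hidx j) hij)⟩, fun i => rfl⟩
  let f := Perm.viaEmbeddingHom φ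
  have hs : f (swap 1 5 * swap 3 6 * (swap 0 5 * swap 2 6)) ∈ Γ := by
    have := conj_mem_of_two hginv hu hv
    rw [hg, show ∀ u A C : Perm α, u * (A * C) * u⁻¹ = (u * A * u⁻¹) * (u * C * u⁻¹) from
      fun u A C => by group, ← swap_apply_apply, ← swap_apply_apply, hcu 0 (by omega), hcy, hcu 2 (by omega),
      hcz] at this
    simpa [f, map_mul, via_swap, hφ, idx] using this
  have hs1 : f (swap 2 5 * swap 4 6 * (swap 1 5 * swap 3 6)) ∈ Γ := by
    have := mul_mem (mul_mem hu hs) (inv_mem hu)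
    simp only [f, map_mul, via_swap] at this ⊢
    rw [show ∀ u A C D E : Perm α, u * (A * C * (D * E)) * u⁻¹ =
      u * A * u⁻¹ * (u * C * u⁻¹) * ((u * D * u⁻¹) * (u * E * u⁻¹)) from fun u A C D E => by group,
      ← swap_apply_apply, ← swap_apply_apply, ← swap_apply_apply, ← swap_apply_apply] at this
    simp only [hφ, idx] at this ⊢
    simpa [hcy, hcz, hcu 0 (by omega), hcu 1 (by omega), hcu 2 (by omega), hcu 3 (by omega)] using this
  have hcub := pow_mem (mul_mem hs (inv_mem hs1)) 2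
  rw [← map_inv, ← map_mul, ← map_pow] at hcub
  have h3' : altOn ({e 2, e 3, e l} : Finset α) ≤ Γ := by
    rcases seven_identity with hid | hid <;>
    · rw [hid, three, map_mul, via_swap, via_swap] at hcub
      refine le_trans (altOn_mono ?_) (altOn_triple_le (φ.injective.ne (by decide)) hcub)
      intro z hz
      simp only [hφ, idx, Finset.mem_insert, Finset.mem_singleton] at hz ⊢
      rcases hz with rfl | rfl | rfl <;> simp
  have h1 := altOn_cycle_le (i := 2) hl' hu (by omega) (by omega) (notMem_seqSet he (by omega) le_rfl) h3'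
  rw [← seqSet_succ] at h1
  have hva : (g * cyc e l hl' * g⁻¹) (e l) = e 1 := by
    rw [conj_apply_eq hginv]
    simp only [hg, Perm.mul_apply]
    rw [swap_apply_of_ne_of_ne (ne l 2 (by omega) (by omega) (by omega)) (ne l (l + 1) (by omega) (by omega) (by omega)),
      swap_apply_right, hcu 0 (by omega),
      swap_apply_of_ne_of_ne (ne 1 2 (by omega) (by omega) (by omega)) (ne 1 (l + 1) (by omega) (by omega) (by omega)),
      swap_apply_of_ne_of_ne (ne 1 0 (by omega) (by omega) (by omega)) (ne 1 l (by omega) (by omega) (by omega))]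
  have hvz : (g * cyc e l hl' * g⁻¹) (e 1) = e (l + 1) := by
    rw [conj_apply_eq hginv]
    simp only [hg, Perm.mul_apply]
    rw [swap_apply_of_ne_of_ne (ne 1 2 (by omega) (by omega) (by omega)) (ne 1 (l + 1) (by omega) (by omega) (by omega)),
      swap_apply_of_ne_of_ne (ne 1 0 (by omega) (by omega) (by omega)) (ne 1 l (by omega) (by omega) (by omega)),
      hcu 1 (by omega), swap_apply_left,
      swap_apply_of_ne_of_ne (ne (l + 1) 0 (by omega) (by omega) (by omega)) (ne (l + 1) l (by omega) (by omega) (by omega))]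
  have hin : ∀ i, i ≤ l → e i ∈ seqSet e (l + 1) := fun i hi => mem_seqSet.2 ⟨i, by omega, rfl⟩
  refine le_trans (altOn_mono ?_) (altOn_extend hv h1
    (by rw [card_seqSet (he.mono (Set.Iio_subset_Iio (by omega)))]; omega) (hin l le_rfl) (by rw [hva]; exact hin 1 (by omega)))
  rw [seqSet_succ e (l + 1)]
  intro z hz
  rcases Finset.mem_insert.1 hz with rfl | hz
  · exact Finset.mem_union_right _ (Finset.mem_image.2 ⟨e 1, hin 1 (by omega), hvz⟩)
  · exact Finset.mem_union_left _ hz

/-- Three further points. -/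
theorem gen_three {l : ℕ} (hl : 5 ≤ l) (he : Set.InjOn e (Set.Iio (l + 3))) :
    ∃ g : Perm α, (∀ z, z ∉ seqSet e (l + 3) → g z = z) ∧
      altOn (seqSet e (l + 3)) ≤ closure
        ({cyc e l (he.mono (Set.Iio_subset_Iio (by omega))),
          g * cyc e l (he.mono (Set.Iio_subset_Iio (by omega))) * g⁻¹} : Set (Perm α)) := by
  have hl' : Set.InjOn e (Set.Iio l) := he.mono (Set.Iio_subset_Iio (by omega))
  have ne : ∀ i j, i < l + 3 → j < l + 3 → i ≠ j → e i ≠ e j := fun i j hi hj hij e' =>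
    hij (he (by simpa using hi) (by simpa using hj) e')
  have hcu : ∀ i, i + 1 < l → cyc e l hl' (e i) = e (i + 1) := fun i hi => by
    rw [cyc_apply hl' (by omega), Nat.mod_eq_of_lt hi]
  have hcf : ∀ i, l ≤ i → i < l + 3 → cyc e l hl' (e i) = e i := fun i hi hi' =>
    cyc_apply_of_notMem hl' (notMem_seqSet he hi' hi)
  set g : Perm α := swap (e 0) (e l) * (swap (e 2) (e (l + 1)) * swap (e 3) (e (l + 2))) with hg
  have fixes : ∀ z, (∀ i, i < l + 3 → (i = 0 ∨ i = 2 ∨ i = 3 ∨ l ≤ i) → z ≠ e i) → g z = z := fun z n => by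
    rw [hg, Perm.mul_apply, Perm.mul_apply,
      swap_apply_of_ne_of_ne (n 3 (by omega) (by omega)) (n (l + 2) (by omega) (by omega)),
      swap_apply_of_ne_of_ne (n 2 (by omega) (by omega)) (n (l + 1) (by omega) (by omega)),
      swap_apply_of_ne_of_ne (n 0 (by omega) (by omega)) (n l (by omega) (by omega))]
  have gpair : g (e 0) = e l ∧ g (e l) = e 0 ∧ g (e 2) = e (l + 1) ∧ g (e (l + 1)) = e 2 ∧
      g (e 3) = e (l + 2) ∧ g (e (l + 2)) = e 3 := by
    have n := ne
    simp only [hg, Perm.mul_apply]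
    refine ⟨?_, ?_, ?_, ?_, ?_, ?_⟩
    all_goals simp (disch := first | omega | exact ne _ _ (by omega) (by omega) (by omega))
      [swap_apply_of_ne_of_ne]
  obtain ⟨g0, gl, g2, gl1, g3, gl2⟩ := gpair
  have hgg : g * g = 1 := by
    ext z
    rw [Perm.mul_apply, Perm.one_apply]
    by_cases h' : ∀ i, i < l + 3 → (i = 0 ∨ i = 2 ∨ i = 3 ∨ l ≤ i) → z ≠ e i
    · rw [fixes z h', fixes z h']
    · push Not at h'
      obtain ⟨i, hi, hic, rfl⟩ := h'
      rcases (show i = 0 ∨ i = 2 ∨ i = 3 ∨ i = l ∨ i = l + 1 ∨ i = l + 2 by omega) with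
        rfl | rfl | rfl | rfl | rfl | rfl
      · rw [g0, gl]
      · rw [g2, gl1]
      · rw [g3, gl2]
      · rw [gl, g0]
      · rw [gl1, g2]
      · rw [gl2, g3]
  have hginv : g⁻¹ = g := inv_eq_of_mul_eq_one_right hgg
  refine ⟨g, fun z hz => fixes z fun i hi _ h' => hz (h' ▸ mem_seqSet.2 ⟨i, hi, rfl⟩), ?_⟩
  set Γ := closure ({cyc e l hl', g * cyc e l hl' * g⁻¹} : Set (Perm α))
  have hu : cyc e l hl' ∈ Γ := subset_closure (by simp)
  have hv : g * cyc e l hl' * g⁻¹ ∈ Γ := subset_closure (by simp)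
  let idx : Fin 8 → ℕ := ![0, 1, 2, 3, 4, l, l + 1, l + 2]
  have hidx : ∀ i, idx i < l + 3 := by intro i; fin_cases i <;> simp [idx] <;> omega
  have hidx' : Function.Injective idx := by
    refine StrictMono.injective (Fin.strictMono_iff_lt_succ.2 fun i => ?_)
    fin_cases i <;> simp [idx] <;> omega
  obtain ⟨φ, hφ⟩ : ∃ φ : Fin 8 ↪ α, ∀ i, φ i = e (idx i) :=
    ⟨⟨fun i => e (idx i), fun i j hij => hidx' (he (by simpa using hidx i) (by simpa using hidx j) hij)⟩, fun i => rfl⟩
  let f := Perm.viaEmbeddingHom φ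
  have hs : f (swap 1 5 * (swap 3 6 * swap 4 7) * (swap 0 5 * (swap 2 6 * swap 3 7))) ∈ Γ := by
    have := conj_mem_of_two hginv hu hv
    rw [hg, show ∀ u A C D : Perm α, u * (A * (C * D)) * u⁻¹ = (u * A * u⁻¹) * ((u * C * u⁻¹) * (u * D * u⁻¹)) from
      fun u A C D => by group, ← swap_apply_apply, ← swap_apply_apply, ← swap_apply_apply, hcu 0 (by omega),
      hcf l le_rfl (by omega), hcu 2 (by omega), hcf (l + 1) (by omega) (by omega), hcu 3 (by omega),
      hcf (l + 2) (by omega) (by omega)] at this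
    simpa [f, map_mul, via_swap, hφ, idx] using this
  have hcub := pow_mem hs 5
  rw [← map_pow] at hcub
  have h3' : altOn ({e 0, e 1, e l} : Finset α) ≤ Γ := by
    rcases seven_identity_five with hid | hid <;>
    · rw [hid, three, map_mul, via_swap, via_swap] at hcub
      refine le_trans (altOn_mono ?_) (altOn_triple_le (φ.injective.ne (by decide)) hcub)
      intro z hz
      simp only [hφ, idx, Finset.mem_insert, Finset.mem_singleton] at hz ⊢
      rcases hz with rfl | rfl | rfl <;> simp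
  have h1 := altOn_cycle_le (i := 0) hl' hu (by omega) (by omega) (notMem_seqSet he (by omega) le_rfl) h3'
  rw [← seqSet_succ] at h1
  have g1 : g (e 1) = e 1 := fixes _ fun i hi hic => ne 1 i (by omega) hi (by omega)
  have hva : (g * cyc e l hl' * g⁻¹) (e l) = e 1 := by
    rw [conj_apply_eq hginv, gl, hcu 0 (by omega), g1]
  have hvz : (g * cyc e l hl' * g⁻¹) (e 1) = e (l + 1) := by
    rw [conj_apply_eq hginv, g1, hcu 1 (by omega), g2]
  have hvx : (g * cyc e l hl' * g⁻¹) (e (l + 1)) = e (l + 2) := by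
    rw [conj_apply_eq hginv, gl1, hcu 2 (by omega), g3]
  have hin : ∀ i j, i ≤ j → e i ∈ seqSet e (j + 1) := fun i j hi => mem_seqSet.2 ⟨i, by omega, rfl⟩
  have h2 : altOn (seqSet e (l + 1 + 1)) ≤ Γ := by
    refine le_trans (altOn_mono ?_) (altOn_extend hv h1
      (by rw [card_seqSet (he.mono (Set.Iio_subset_Iio (by omega)))]; omega) (hin l l le_rfl)
      (by rw [hva]; exact hin 1 l (by omega)))
    rw [seqSet_succ e (l + 1)]
    intro z hz
    rcases Finset.mem_insert.1 hz with rfl | hz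
    · exact Finset.mem_union_right _ (Finset.mem_image.2 ⟨e 1, hin 1 l (by omega), hvz⟩)
    · exact Finset.mem_union_left _ hz
  refine le_trans (altOn_mono ?_) (altOn_extend hv h2
    (by rw [card_seqSet (he.mono (Set.Iio_subset_Iio (by omega)))]; omega) (hin l (l + 1) (by omega))
    (by rw [hva]; exact hin 1 (l + 1) (by omega)))
  rw [seqSet_succ e (l + 2)]
  intro z hz
  rcases Finset.mem_insert.1 hz with rfl | hz
  · exact Finset.mem_union_right _ (Finset.mem_image.2 ⟨e (l + 1), hin (l + 1) (l + 1) le_rfl, hvx⟩)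
  · exact Finset.mem_union_left _ hz

end CfsgLib.Presentations
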