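import Cfsg.Agent.Lib.Presentations.Common
import Cfsg.Agent.Lib.Presentations.GlueGen

/-!
The connecting permutation and the two commuting gluing permutations.
-/

set_option autoImplicit false
set_option linter.unusedSectionVars false

open Equiv Equiv.Perm Subgroup

namespace CfsgLib.Presentations

variable {α : Type*} [Fintype α] [DecidableEq α]

/-- The overlap: the two further points, then the first points of the field. -/
def overlapSeq (pts : ℕ → α) (p : ℕ) (i : ℕ) : α := pts (if i = 0 then p else if i = 1 then p + 1 else i - 2)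

variable {pts : ℕ → α} {p r : ℕ}

theorem overlapSeq_injOn (h : Set.InjOn pts (Set.Iio (p + 2))) (hr : r ≤ p) :
    Set.InjOn (overlapSeq pts p) (Set.Iio (p - r + 2)) := by
  intro i hi j hj e
  simp only [Set.mem_Iio] at hi hj
  have := h (by simp only [Set.mem_Iio]; split_ifs <;> omega) (by simp only [Set.mem_Iio]; split_ifs <;> omega) e
  split_ifs at this <;> omega

theorem mem_overlap {z : α} : z ∈ seqSet (overlapSeq pts p) (p - r + 2) ↔
    ∃ i, (i < p - r ∨ i = p ∨ i = p + 1) ∧ pts i = z := by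
  rw [mem_seqSet]
  constructor
  · rintro ⟨i, hi, rfl⟩
    refine ⟨_, ?_, rfl⟩
    split_ifs <;> omega
  · rintro ⟨i, hi | rfl | rfl, rfl⟩
    · exact ⟨i + 2, by omega, by simp [overlapSeq]⟩
    · exact ⟨0, by omega, by simp [overlapSeq]⟩
    · exact ⟨1, by omega, by simp [overlapSeq]⟩

theorem exists_idx {n : ℕ} (hpts : seqSet pts n = Finset.univ) (z : α) : ∃ i < n, pts i = z :=
  mem_seqSet.1 (hpts ▸ Finset.mem_univ z)

/-- The connecting permutation. -/
theorem exists_connect {n : ℕ} (h : Set.InjOn pts (Set.Iio n)) (hpts : seqSet pts n = Finset.univ)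
    (hn : n = p + 2 + r) (hr : 1 ≤ r) (hrp : r + 2 ≤ p) (hp7 : r = 1 → 7 ≤ p) (even : Bool) :
    ∃ σ : Perm α, sign σ = cond even 1 (-1) ∧ σ ^ 4 = 1 ∧
      (seqSet pts (p + 2)).image σ = seqSet (fun i => pts (p + 2 + i)) r ∪ seqSet (overlapSeq pts p) (p - r + 2) ∧
      (∀ z ∈ seqSet (overlapSeq pts p) (p - r + 2), σ z ∈ seqSet (overlapSeq pts p) (p - r + 2)) ∧
      (∀ i, (i = p ∨ i = p + 1 ∨ i + 2 < p - r ∨ (even = false ∨ 2 ≤ r) ∧ i < p - r) → σ (pts i) = pts i) := by
  have ne : ∀ i j, i < n → j < n → i ≠ j → pts i ≠ pts j := fun i j hi hj hij e =>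
    hij (h (by simpa using hi) (by simpa using hj) e)
  obtain ⟨φ, hφ⟩ : ∃ φ : Fin r × Fin 2 ↪ α, ∀ x, φ x = pts (if x.2 = 0 then p - r + x.1.1 else p + 2 + x.1.1) := by
    refine ⟨⟨fun x => pts (if x.2 = 0 then p - r + x.1.1 else p + 2 + x.1.1), fun x y e => ?_⟩, fun x => rfl⟩
    obtain ⟨⟨a, ha⟩, b⟩ := x
    obtain ⟨⟨c, hc⟩, d⟩ := y
    have := h (by simp only [Set.mem_Iio]; split_ifs <;> omega) (by simp only [Set.mem_Iio]; split_ifs <;> omega) e
    fin_cases b <;> fin_cases d <;> simp at this ⊢ <;> omega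
  set σ₀ : Perm α := Perm.viaEmbeddingHom φ (prodCongrRight fun _ : Fin r => swap (0 : Fin 2) 1) with hσ₀
  have hP : ∀ j, j < r → σ₀ (pts (p - r + j)) = pts (p + 2 + j) := fun j hj => by
    have := via_apply φ (prodCongrRight fun _ : Fin r => swap (0 : Fin 2) 1) (⟨j, hj⟩, 0)
    simpa [hφ, ← hσ₀] using this
  have hQ : ∀ j, j < r → σ₀ (pts (p + 2 + j)) = pts (p - r + j) := fun j hj => by
    have := via_apply φ (prodCongrRight fun _ : Fin r => swap (0 : Fin 2) 1) (⟨j, hj⟩, 1)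
    simpa [hφ, ← hσ₀] using this
  have hI : ∀ i, (i < p - r ∨ i = p ∨ i = p + 1) → σ₀ (pts i) = pts i := fun i hi =>
    via_apply_of_notMem φ _ fun hm => by
      obtain ⟨x, -, e⟩ := Finset.mem_map.1 hm
      rw [hφ] at e
      have := x.1.2
      refine ne _ _ ?_ (by omega) ?_ e <;> split_ifs <;> omega
  have hsign₀ : sign σ₀ = (-1) ^ r := by
    rw [hσ₀, sign_via, sign_prodCongrRight, Finset.prod_const, Finset.card_univ, Fintype.card_fin,
      sign_swap (by decide)]
  -- the correcting transposition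
  obtain ⟨a, b, hab, ha, hb, hcase⟩ : ∃ a b, a ≠ b ∧ (a < p) ∧ (b < p) ∧
      ((2 ≤ r ∧ a = p - r ∧ b = p - r + 1) ∨ (r = 1 ∧ a = p - 3 ∧ b = p - 2)) := by
    rcases Nat.lt_or_ge r 2 with h' | h'
    · exact ⟨p - 3, p - 2, by omega, by omega, by omega, Or.inr ⟨by omega, rfl, rfl⟩⟩
    · exact ⟨p - r, p - r + 1, by omega, by omega, by omega, Or.inl ⟨h', rfl, rfl⟩⟩
  set δ : Perm α := swap (pts a) (pts b) with hδ
  have hδfix : ∀ i, i < n → i ≠ a → i ≠ b → δ (pts i) = pts i := fun i hi h1 h2 =>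
    swap_apply_of_ne_of_ne (ne _ _ hi (by omega) h1) (ne _ _ hi (by omega) h2)
  have hδsign : sign δ = -1 := sign_swap (ne _ _ (by omega) (by omega) hab)
  have hσ₀2 : σ₀ * σ₀ = 1 := by
    ext z
    obtain ⟨i, hi, rfl⟩ := exists_idx hpts z
    rw [Perm.mul_apply, Perm.one_apply]
    rcases (show i < p - r ∨ i = p ∨ i = p + 1 ∨ (∃ j < r, i = p - r + j) ∨ ∃ j < r, i = p + 2 + j by
      rcases Nat.lt_or_ge i (p - r) with h1 | h1
      · exact Or.inl h1
      rcases Nat.lt_or_ge i p with h2 | h2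
      · exact Or.inr (Or.inr (Or.inr (Or.inl ⟨i - (p - r), by omega, by omega⟩)))
      rcases Nat.lt_or_ge i (p + 2) with h3 | h3
      · omega
      · exact Or.inr (Or.inr (Or.inr (Or.inr ⟨i - (p + 2), by omega, by omega⟩)))) with h1 | h1 | h1 | ⟨j, hj, rfl⟩ | ⟨j, hj, rfl⟩
    · rw [hI i (Or.inl h1), hI i (Or.inl h1)]
    · rw [hI i (Or.inr (Or.inl h1)), hI i (Or.inr (Or.inl h1))]
    · rw [hI i (Or.inr (Or.inr h1)), hI i (Or.inr (Or.inr h1))]
    · rw [hP j hj, hQ j hj]
    · rw [hQ j hj, hP j hj]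
  have hfour : (σ₀ * δ) ^ 4 = 1 := by
    have hconj : σ₀ * δ * σ₀⁻¹ = swap (σ₀ (pts a)) (σ₀ (pts b)) := (swap_apply_apply σ₀ _ _).symm
    have hinv : σ₀⁻¹ = σ₀ := inv_eq_of_mul_eq_one_right hσ₀2
    rw [hinv] at hconj
    have hsq : (σ₀ * δ) ^ 2 = swap (σ₀ (pts a)) (σ₀ (pts b)) * δ := by rw [sq, ← mul_assoc, hconj]
    rw [show (4 : ℕ) = 2 * 2 from rfl, pow_mul, hsq]
    rcases hcase with ⟨h2, rfl, rfl⟩ | ⟨rfl, rfl, rfl⟩
    · have e1 : σ₀ (pts (p - r)) = pts (p + 2) := hP 0 (by omega)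
      rw [e1, hP 1 (by omega), (swap_commute_of_ne (ne _ _ (by omega) (by omega) (by omega))
        (ne _ _ (by omega) (by omega) (by omega)) (ne _ _ (by omega) (by omega) (by omega))
        (ne _ _ (by omega) (by omega) (by omega))).mul_pow, sq, sq, swap_mul_self, swap_mul_self, one_mul]
    · rw [hI _ (Or.inl (by omega)), hI _ (Or.inl (by omega)), ← hδ, swap_mul_self, one_pow]
  -- pick the correction
  obtain ⟨ε, hε⟩ : ∃ ε : Bool, (sign (σ₀ * cond ε δ 1) = cond even 1 (-1)) ∧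
      (ε = true → ¬ (even = false ∧ r = 1)) := by
    rcases neg_one_pow_eq_or ℤˣ r with e | e <;> cases even
    · exact ⟨true, by simp [hsign₀, hδsign, e], fun _ h' => by rw [h'.2] at e; exact absurd e (by decide)⟩
    · exact ⟨false, by simp [hsign₀, e], fun h' => nomatch h'⟩
    · exact ⟨false, by simp [hsign₀, e], fun h' => nomatch h'⟩
    · exact ⟨true, by simp [hsign₀, hδsign, e], fun _ h' => nomatch h'.1⟩
  set d : Perm α := cond ε δ 1 with hd
  have hdI : ∀ z ∈ seqSet (overlapSeq pts p) (p - r + 2), d z ∈ seqSet (overlapSeq pts p) (p - r + 2) := by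
    intro z hz
    rw [hd]
    cases ε
    · exact hz
    obtain ⟨i, hi, rfl⟩ := mem_overlap.1 hz
    show δ (pts i) ∈ _
    rcases hcase with ⟨h2, rfl, rfl⟩ | ⟨rfl, rfl, rfl⟩
    · rw [hδfix i (by omega) (by omega) (by omega)]; exact hz
    · by_cases h1 : i = p - 3
      · subst h1; rw [hδ, swap_apply_left]; exact mem_overlap.2 ⟨_, Or.inl (by omega), rfl⟩
      by_cases h2 : i = p - 2
      · subst h2; rw [hδ, swap_apply_right]; exact mem_overlap.2 ⟨_, Or.inl (by omega), rfl⟩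
      rw [hδfix i (by omega) h1 h2]; exact hz
  refine ⟨σ₀ * d, hε.1, ?_, ?_, ?_, ?_⟩
  · rw [hd]
    cases ε
    · rw [cond_false, mul_one, show (4 : ℕ) = 2 * 2 from rfl, pow_mul, sq σ₀, hσ₀2, one_pow]
    · exact hfour
  · have hd1 : (seqSet pts (p + 2)).image d = seqSet pts (p + 2) := by
      rw [hd]; cases ε
      · simp
      refine Finset.eq_of_subset_of_card_le (fun z hz => ?_) (by rw [cond_true, Finset.card_image_of_injective _ δ.injective])
      obtain ⟨w, hw, rfl⟩ := Finset.mem_image.1 hz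
      obtain ⟨i, hi, rfl⟩ := mem_seqSet.1 hw
      show δ (pts i) ∈ _
      by_cases h1 : i = a
      · subst h1; rw [hδ, swap_apply_left]; exact mem_seqSet.2 ⟨b, by omega, rfl⟩
      by_cases h2 : i = b
      · subst h2; rw [hδ, swap_apply_right]; exact mem_seqSet.2 ⟨a, by omega, rfl⟩
      rw [hδfix i (by omega) h1 h2]; exact hw
    rw [show ((σ₀ * d : Perm α) : α → α) = σ₀ ∘ d from Perm.coe_mul _ _, ← Finset.image_image, hd1]
    ext z
    rw [Finset.mem_image, Finset.mem_union, mem_overlap]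
    simp only [mem_seqSet]
    constructor
    · rintro ⟨w, ⟨i, hi, rfl⟩, rfl⟩
      rcases Nat.lt_or_ge i (p - r) with h1 | h1
      · exact Or.inr ⟨i, Or.inl h1, (hI i (Or.inl h1)).symm⟩
      rcases Nat.lt_or_ge i p with h2 | h2
      · refine Or.inl ⟨i - (p - r), by omega, ?_⟩
        rw [← hP _ (by omega)]
        congr 2
        omega
      · have h3 : i = p ∨ i = p + 1 := by omega
        exact Or.inr ⟨i, Or.inr h3, (hI i (Or.inr h3)).symm⟩
    · rintro (⟨j, hj, rfl⟩ | ⟨i, hi, rfl⟩)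
      · exact ⟨_, ⟨p - r + j, by omega, rfl⟩, hP j hj⟩
      · exact ⟨_, ⟨i, by omega, rfl⟩, hI i hi⟩
  · intro z hz
    obtain ⟨i, hi, e⟩ := mem_overlap.1 (hdI z hz)
    rw [Perm.mul_apply, ← e, hI i hi, e]
    exact hdI z hz
  · intro i hi
    have hin : i < n := by omega
    have hi' : i < p - r ∨ i = p ∨ i = p + 1 := by omega
    rw [Perm.mul_apply, hd]
    cases hεe : ε
    · exact hI i hi'
    · have hne : i ≠ a ∧ i ≠ b := by
        rcases hcase with ⟨h2, rfl, rfl⟩ | ⟨hr1, rfl, rfl⟩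
        · omega
        · rcases hi with h1 | h1 | h1 | ⟨h1, -⟩
          · omega
          · omega
          · omega
          · rcases h1 with h1 | h1
            · exact absurd ⟨h1, hr1⟩ (hε.2 hεe)
            · omega
      show σ₀ (δ (pts i)) = _
      rw [hδfix i hin hne.1 hne.2]; exact hI i hi'

end CfsgLib.Presentations
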