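import Cfsg.Agent.Lib.Presentations.Alt

/-!
Cycles along enumerations, their centralisers, and generation of alternating groups by two conjugate cycles.
-/

set_option autoImplicit false
set_option linter.unusedSectionVars false

open Equiv Equiv.Perm Subgroup

namespace CfsgLib.Presentations

variable {α : Type*} [Fintype α] [DecidableEq α] {β : Type*} [Fintype β] [DecidableEq β]

theorem via_apply (φ : β ↪ α) (σ : Perm β) (x : β) : Perm.viaEmbeddingHom φ σ (φ x) = φ (σ x) :=
  Perm.viaEmbedding_apply σ φ x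

theorem via_apply_of_notMem (φ : β ↪ α) (σ : Perm β) {z : α} (hz : z ∉ Finset.univ.map φ) :
    Perm.viaEmbeddingHom φ σ z = z :=
  Perm.viaEmbedding_apply_of_notMem σ φ z fun ⟨x, hx⟩ => hz (Finset.mem_map.2 ⟨x, Finset.mem_univ _, hx⟩)

theorem via_swap (φ : β ↪ α) (a b : β) : Perm.viaEmbeddingHom φ (swap a b) = swap (φ a) (φ b) := by
  ext z
  by_cases hz : z ∈ Finset.univ.map φ
  · obtain ⟨x, -, rfl⟩ := Finset.mem_map.1 hz
    rw [via_apply, φ.injective.swap_apply]
  · rw [via_apply_of_notMem φ _ hz, swap_apply_of_ne_of_ne]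
    · rintro rfl; exact hz (Finset.mem_map_of_mem φ (Finset.mem_univ _))
    · rintro rfl; exact hz (Finset.mem_map_of_mem φ (Finset.mem_univ _))

theorem sign_via (φ : β ↪ α) (σ : Perm β) : sign (Perm.viaEmbeddingHom φ σ) = sign σ := by
  classical
  rw [Perm.viaEmbeddingHom_apply, Perm.viaEmbedding, sign_extendDomain]

theorem via_mem_altOn (φ : β ↪ α) {σ : Perm β} (h : sign σ = 1) {S : Finset α} (hS : Finset.univ.map φ ⊆ S) :
    Perm.viaEmbeddingHom φ σ ∈ altOn S :=
  mem_altOn.2 ⟨(sign_via φ σ).trans h, fun _ hz => via_apply_of_notMem φ σ fun h => hz (hS h)⟩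

section Cyc

variable (e : ℕ → α) (m : ℕ)

/-- The first `m` terms of a sequence as an embedding. -/
def embSeq (h : Set.InjOn e (Set.Iio m)) : Fin m ↪ α :=
  ⟨fun i => e i.1, fun i j hij => Fin.ext (h i.2 j.2 hij)⟩

/-- The first `m` terms of a sequence. -/
def seqSet : Finset α := (Finset.range m).image e

variable {e m}

theorem mem_seqSet {z : α} : z ∈ seqSet e m ↔ ∃ i < m, e i = z := by simp [seqSet]

theorem card_seqSet (h : Set.InjOn e (Set.Iio m)) : (seqSet e m).card = m := by
  rw [seqSet, Finset.card_image_of_injOn (fun i hi j hj => h (Finset.mem_range.1 hi) (Finset.mem_range.1 hj)),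
    Finset.card_range]

theorem map_embSeq (h : Set.InjOn e (Set.Iio m)) : Finset.univ.map (embSeq e m h) = seqSet e m := by
  ext z
  simp only [Finset.mem_map, Finset.mem_univ, true_and, mem_seqSet, embSeq]
  exact ⟨fun ⟨i, hi⟩ => ⟨i, i.2, hi⟩, fun ⟨i, hi, he⟩ => ⟨⟨i, hi⟩, he⟩⟩

/-- The cycle along the first `m` terms of a sequence. -/
noncomputable def cyc (e : ℕ → α) (m : ℕ) (h : Set.InjOn e (Set.Iio m)) : Perm α :=
  Perm.viaEmbeddingHom (embSeq e m h) (finRotate m)

variable (h : Set.InjOn e (Set.Iio m))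

theorem cyc_apply {i : ℕ} (hi : i < m) : cyc e m h (e i) = e ((i + 1) % m) := by
  obtain ⟨k, rfl⟩ : ∃ k, m = k + 1 := ⟨m - 1, by omega⟩
  show Perm.viaEmbeddingHom (embSeq e _ h) (finRotate _) (embSeq e _ h ⟨i, hi⟩) = _
  rw [via_apply, finRotate_succ_apply]
  show e ((⟨i, hi⟩ + 1 : Fin (k + 1)) : ℕ) = _
  rw [Fin.val_add, Fin.val_one']
  congr 1
  simp [Nat.add_mod]

theorem cyc_apply_of_notMem {z : α} (hz : z ∉ seqSet e m) : cyc e m h z = z :=
  via_apply_of_notMem _ _ (by rwa [map_embSeq h])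

theorem cyc_pow_apply (j : ℕ) {i : ℕ} (hi : i < m) : (cyc e m h ^ j) (e i) = e ((i + j) % m) := by
  induction j with
  | zero => rw [pow_zero, Perm.one_apply, Nat.add_zero, Nat.mod_eq_of_lt hi]
  | succ j ih => rw [pow_succ', Perm.mul_apply, ih, cyc_apply h (Nat.mod_lt _ (by omega)), Nat.mod_add_mod,
      Nat.add_assoc]

theorem cyc_pow_self : cyc e m h ^ m = 1 := by
  ext z
  by_cases hz : z ∈ seqSet e m
  · obtain ⟨i, hi, rfl⟩ := mem_seqSet.1 hz
    rw [cyc_pow_apply h m hi, Nat.add_mod_right, Nat.mod_eq_of_lt hi, Perm.one_apply]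
  · rw [Perm.one_apply]
    induction m with
    | zero => simp
    | succ k _ => exact Perm.pow_apply_eq_self_of_apply_eq_self (cyc_apply_of_notMem h hz) _

theorem sign_cyc : sign (cyc e m h) = (-1) ^ (m - 1) := by
  rw [cyc, sign_via, sign_finRotate]

theorem cyc_mem_altOn (hm : Odd m) {S : Finset α} (hS : seqSet e m ⊆ S) : cyc e m h ∈ altOn S := by
  obtain ⟨t, rfl⟩ := hm
  exact mem_altOn.2 ⟨by rw [sign_cyc, Nat.add_sub_cancel, pow_mul]; simp,
    fun z hz => cyc_apply_of_notMem h fun h' => hz (hS h')⟩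

/-- A permutation commuting with a cycle agrees with one of its powers on the cycle. -/
theorem exists_pow_eq_of_commute {T : Perm α} (hT : Commute T (cyc e m h)) (hm : 2 ≤ m) :
    ∃ j, ∀ z ∈ seqSet e m, T z = (cyc e m h ^ j) z := by
  have h0 : e 0 ∈ seqSet e m := mem_seqSet.2 ⟨0, by omega, rfl⟩
  obtain ⟨j, hj, hje⟩ : ∃ j < m, e j = T (e 0) := mem_seqSet.1 <| by
    by_contra hz
    have h1 := cyc_apply_of_notMem h hz
    rw [← Perm.mul_apply, ← hT.eq, Perm.mul_apply] at h1
    have h2 := T.injective h1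
    rw [cyc_apply h (by omega)] at h2
    have := h (show (0 + 1) % m ∈ Set.Iio m from Nat.mod_lt _ (by omega)) (show 0 ∈ Set.Iio m by simp; omega) h2
    rw [Nat.mod_eq_of_lt (by omega)] at this
    omega
  refine ⟨j, fun z hz => ?_⟩
  obtain ⟨i, hi, rfl⟩ := mem_seqSet.1 hz
  have e1 : e i = (cyc e m h ^ i) (e 0) := by rw [cyc_pow_apply h i (by omega), Nat.zero_add, Nat.mod_eq_of_lt hi]
  calc T (e i) = (cyc e m h ^ i) (T (e 0)) := by
        rw [e1, ← Perm.mul_apply, (hT.pow_right i).eq, Perm.mul_apply]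
    _ = (cyc e m h ^ j) (e i) := by
        rw [← hje, cyc_pow_apply h i hj, cyc_pow_apply h j hi, Nat.add_comm]

/-- A cycle commutes with the permutations fixing its points. -/
theorem commute_cyc_of_fix {T : Perm α} (hT : ∀ z ∈ seqSet e m, T z = z) : Commute T (cyc e m h) := by
  ext z
  rw [Perm.mul_apply, Perm.mul_apply]
  by_cases hz : z ∈ seqSet e m
  · obtain ⟨i, hi, rfl⟩ := mem_seqSet.1 hz
    rw [hT _ hz, cyc_apply h hi, hT _ (mem_seqSet.2 ⟨_, Nat.mod_lt _ (by omega), rfl⟩)]
  · rw [cyc_apply_of_notMem h hz, cyc_apply_of_notMem h]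
    intro hTz
    exact hz (by rw [← T.injective (hT _ hTz)]; exact hTz)

end Cyc

theorem exists_even_conj {a b c d a' b' c' d' : α}
    (h : [a, b, c, d].Nodup) (h' : [a', b', c', d'].Nodup) :
    ∃ σ ∈ altOn (Finset.univ : Finset α), σ * (swap a b * swap c d) * σ⁻¹ = swap a' b' * swap c' d' := by
  obtain ⟨σ, hσ⟩ := Equiv.Perm.exists_extending_pair (fun i : Fin 4 => [a, b, c, d].get i)
    (fun i : Fin 4 => [a', b', c', d'].get i) (List.nodup_iff_injective_get.1 h)
    (List.nodup_iff_injective_get.1 h')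
  have ha : σ a = a' := hσ 0
  have hb : σ b = b' := hσ 1
  have hc : σ c = c' := hσ 2
  have hd : σ d = d' := hσ 3
  have key : σ * (swap a b * swap c d) * σ⁻¹ = swap a' b' * swap c' d' := by
    rw [show σ * (swap a b * swap c d) * σ⁻¹ = σ * swap a b * σ⁻¹ * (σ * swap c d * σ⁻¹) by group,
      ← swap_apply_apply, ← swap_apply_apply, ha, hb, hc, hd]
  rcases Int.units_eq_one_or (sign σ) with hs | hs
  · exact ⟨σ, mem_altOn.2 ⟨hs, fun z hz => absurd (Finset.mem_univ z) hz⟩, key⟩
  simp only [List.nodup_cons, List.mem_cons, List.not_mem_nil, or_false, not_or] at h'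
  obtain ⟨⟨n1, n2, n3⟩, ⟨n4, n5⟩, -⟩ := h'
  refine ⟨swap a' b' * σ, mem_altOn.2 ⟨by rw [map_mul, sign_swap n1, hs]; rfl,
    fun z hz => absurd (Finset.mem_univ z) hz⟩, ?_⟩
  have hcomm : swap a' b' * swap c' d' = swap c' d' * swap a' b' := by
    rw [Equiv.mul_swap_eq_swap_mul, swap_apply_of_ne_of_ne (Ne.symm n2) (Ne.symm n4),
      swap_apply_of_ne_of_ne (Ne.symm n3) (Ne.symm n5)]
  calc swap a' b' * σ * (swap a b * swap c d) * (swap a' b' * σ)⁻¹
      = swap a' b' * (σ * (swap a b * swap c d) * σ⁻¹) * (swap a' b')⁻¹ := by group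
    _ = swap a' b' * swap c' d' := by
      rw [key, swap_inv, mul_assoc, mul_assoc, ← hcomm, ← mul_assoc (swap a' b') (swap a' b'), swap_mul_self,
        one_mul]

theorem altOn_triple_le {a b c : α} {Γ : Subgroup (Perm α)} (hab : a ≠ b)
    (h : three a b c ∈ Γ) : altOn ({a, b, c} : Finset α) ≤ Γ := by
  refine altOn_le_of_pivot (by simp) (by simp) hab fun i hi hia hib => ?_
  simp only [Finset.mem_insert, Finset.mem_singleton] at hi
  rcases hi with rfl | rfl | rfl
  · exact absurd rfl hia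
  · exact absurd rfl hib
  · exact h

/-- Conjugation moves alternating groups. -/
theorem altOn_image_le {S : Finset α} {Γ : Subgroup (Perm α)} {g : Perm α} (hg : g ∈ Γ) (hS : altOn S ≤ Γ) :
    altOn (S.image g) ≤ Γ := by
  intro t ht
  obtain ⟨h1, h2⟩ := mem_altOn.1 ht
  have hmem : g⁻¹ * t * g ∈ altOn S := mem_altOn.2 ⟨by
    rw [map_mul, map_mul, map_inv, h1, mul_one, inv_mul_cancel], fun z hz => by
    rw [Perm.mul_apply, Perm.mul_apply, h2 (g z) fun hm => ?_]
    · exact g.symm_apply_apply z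
    · obtain ⟨w, hw, e⟩ := Finset.mem_image.1 hm
      exact hz (g.injective e ▸ hw)⟩
  have := mul_mem (mul_mem hg (hS hmem)) (inv_mem hg)
  simpa [mul_assoc] using this

/-- One three-cycle through two neighbours of a cycle and a further point sweeps out the cycle. -/
theorem altOn_cycle_le {e : ℕ → α} {l i : ℕ} (h : Set.InjOn e (Set.Iio l)) {Γ : Subgroup (Perm α)}
    (hu : cyc e l h ∈ Γ) (hl : 2 ≤ l) (hi : i + 1 < l) {y : α} (hy : y ∉ seqSet e l)
    (h3 : altOn ({e i, e (i + 1), y} : Finset α) ≤ Γ) : altOn (insert y (seqSet e l)) ≤ Γ := by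
  have hstep : ∀ j, j + 1 < l → altOn ({e j, e (j + 1), y} : Finset α) ≤ Γ := by
    intro j hj
    have hmv := altOn_image_le (pow_mem hu (j + (l - i))) h3
    rw [Finset.image_insert, Finset.image_insert, Finset.image_singleton, cyc_pow_apply h _ (by omega),
      cyc_pow_apply h _ hi, Perm.pow_apply_eq_self_of_apply_eq_self (cyc_apply_of_notMem h hy)] at hmv
    rwa [show i + (j + (l - i)) = j + l by omega, Nat.add_mod_right, Nat.mod_eq_of_lt (by omega),
      show i + 1 + (j + (l - i)) = j + 1 + l by omega, Nat.add_mod_right, Nat.mod_eq_of_lt hj] at hmv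
  have key : ∀ j, 2 ≤ j → j ≤ l → altOn (insert y (seqSet e j)) ≤ Γ := by
    intro j
    induction j with
    | zero => omega
    | succ j ih =>
      intro h2 hjl
      rcases Nat.lt_or_ge j 2 with hj | hj
      · obtain rfl : j = 1 := by omega
        refine le_trans (altOn_mono ?_) (hstep 0 (by omega))
        intro z hz
        rcases Finset.mem_insert.1 hz with rfl | hz
        · simp
        obtain ⟨t, ht, rfl⟩ := mem_seqSet.1 hz
        rcases Nat.lt_or_ge t 1 with h' | h'
        · obtain rfl : t = 0 := by omega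
          simp
        · obtain rfl : t = 1 := by omega
          simp
      have hinj : Set.InjOn e (Set.Iio j) := h.mono (Set.Iio_subset_Iio (by omega))
      have hyj : y ∉ seqSet e j := fun hm => hy (by
        obtain ⟨t, ht, rfl⟩ := mem_seqSet.1 hm; exact mem_seqSet.2 ⟨t, by omega, rfl⟩)
      have hs := hstep (j - 1) (by omega)
      rw [Nat.sub_add_cancel (by omega : 1 ≤ j)] at hs
      have hne : e (j - 1) ≠ e j := fun he => by
        have := h (show j - 1 ∈ Set.Iio l by simp; omega) (show j ∈ Set.Iio l by simp; omega) he; omega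
      have := altOn_union_le (ih hj (by omega)) hs
        (by rw [Finset.card_insert_of_notMem hyj, card_seqSet hinj]; omega)
        (by
          have h1 : e (j - 1) ≠ y := fun he => hy (he ▸ mem_seqSet.2 ⟨j - 1, by omega, rfl⟩)
          have h2 : e j ≠ y := fun he => hy (he ▸ mem_seqSet.2 ⟨j, by omega, rfl⟩)
          rw [Finset.card_eq_three.2 ⟨_, _, _, hne, h1, h2, rfl⟩])
        (Finset.mem_insert_self y _) (by simp)
      refine le_trans (altOn_mono ?_) this
      intro z hz
      rcases Finset.mem_insert.1 hz with rfl | hz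
      · simp
      obtain ⟨t, ht, rfl⟩ := mem_seqSet.1 hz
      by_cases htj : t = j
      · subst htj; simp
      · exact Finset.mem_union_left _ (Finset.mem_insert_of_mem (mem_seqSet.2 ⟨t, by omega, rfl⟩))
  exact key l hl le_rfl

/-- The small identity behind the generation by two conjugate cycles. -/
theorem seven_identity :
    ((swap (1 : Fin 7) 5 * swap 3 6 * (swap 0 5 * swap 2 6)) *
      (swap 2 5 * swap 4 6 * (swap 1 5 * swap 3 6))⁻¹) ^ 2 = three 5 2 3 ∨
    ((swap (1 : Fin 7) 5 * swap 3 6 * (swap 0 5 * swap 2 6)) *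
      (swap 2 5 * swap 4 6 * (swap 1 5 * swap 3 6))⁻¹) ^ 2 = three 3 2 5 := by
  decide

end CfsgLib.Presentations
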