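import Cfsg.Agent.Lib.Presentations.Common

/-!
Degree a prime plus two.
-/

set_option autoImplicit false
set_option linter.unusedSectionVars false

open Equiv Equiv.Perm Subgroup

namespace CfsgLib.Presentations

variable {n p : ℕ}

/-- The four affine relators. -/
def affRels (p u : ℕ) (Wb : FreeGroup (Fin 3)) : List (FreeGroup (Fin 3)) :=
  [FreeGroup.of 0 ^ p * (Wb ^ (p - 1))⁻¹,
    Wb * FreeGroup.of 0 ^ u * Wb⁻¹ * (FreeGroup.of 0 ^ (u + 1))⁻¹,
    Wb * FreeGroup.of 1 * Wb⁻¹ * FreeGroup.of 1,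
    (FreeGroup.of 1 * (FreeGroup.of 0 * FreeGroup.of 1 * (FreeGroup.of 0)⁻¹)) ^ 2 * (FreeGroup.of 1 ^ 3)⁻¹]

theorem affRels_hold {α : Type*} [Fintype α] [DecidableEq α] {pts : ℕ → α} {p r u : ℕ} {B σ : Perm α}
    (h : Set.InjOn pts (Set.Iio (p + 2))) (hp : 1 < p) (hp2 : Odd p) (hB : AffMul pts p h r u B)
    {Wb : FreeGroup (Fin 3)} (hWb : FreeGroup.lift ![affA pts p h, affX pts p, σ] Wb = B) :
    ∀ x ∈ affRels p u Wb, FreeGroup.lift ![affA pts p h, affX pts p, σ] x = 1 := by
  intro x hx
  simp only [affRels, List.mem_cons, List.not_mem_nil, or_false] at hx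
  rcases hx with rfl | rfl | rfl | rfl <;>
    simp only [map_mul, map_pow, map_inv, FreeGroup.lift_apply_of, hWb, Matrix.cons_val_zero, Matrix.cons_val_one]
  · rw [hB.pow, inv_one, mul_one, affA, cyc_pow_self]
  · rw [hB.conjA, mul_inv_cancel]
  · rw [hB.conjX, inv_mul_cancel]
  · rw [affX_pair h hp, mul_inv_cancel]

theorem affine_of_rels {α : Type*} [Fintype α] [DecidableEq α] {pts : ℕ → α} {p r u : ℕ} {B σ : Perm α}
    (h : Set.InjOn pts (Set.Iio (p + 2))) (hp : p.Prime) (hB : AffMul pts p h r u B)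
    {Wb : FreeGroup (Fin 3)} (hWb : Wb ∈ wordsOne) {G : Type*} [Group G] {q : FreeGroup (Fin 3) →* G}
    {π : G →* Perm α} (hq : Function.Surjective q) (hπ : π.comp q = FreeGroup.lift ![affA pts p h, affX pts p, σ])
    (hr : ∀ x ∈ affRels p u Wb, q x = 1) :
    GlueData π (wordsOne.map q) (q (FreeGroup.of 1) ^ 3) (q (FreeGroup.of 2)) (seqSet pts (p + 2)) ∧
      q (FreeGroup.of 0) ∈ wordsOne.map q ∧ q (FreeGroup.of 0) ^ p = 1 ∧
      (∀ g ∈ wordsOne.map q, π g = three (pts p) (pts (p + 1)) (pts 0) * three (pts p) (pts (p + 1)) (pts 1) →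
        g ^ 2 = q (FreeGroup.of 1) ^ 3) := by
  simp only [affRels, List.forall_mem_cons, List.not_mem_nil, false_implies, implies_true, and_true, map_mul,
    map_pow, map_inv, mul_inv_eq_one] at hr
  obtain ⟨r1, r2, r3, r4⟩ := hr
  exact affine_base h hp hB hq hπ hWb r1 r2 (eq_inv_of_mul_eq_one_left r3) r4

/-- Conjugation by the transposition of the two further points. -/
theorem swap_conj_affA {α : Type*} [Fintype α] [DecidableEq α] {pts : ℕ → α} {p : ℕ}
    (h : Set.InjOn pts (Set.Iio (p + 2))) :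
    Commute (swap (pts p) (pts (p + 1))) (affA pts p h) := by
  refine commute_cyc_of_fix _ fun z hz => ?_
  obtain ⟨i, hi, rfl⟩ := mem_seqSet.1 hz
  exact swap_apply_of_ne_of_ne (pts_ne (by omega) (by omega) (by omega) h)
    (pts_ne (by omega) (by omega) (by omega) h)

theorem swap_conj_affX {α : Type*} [Fintype α] [DecidableEq α] {pts : ℕ → α} {p : ℕ} (hp : 0 < p)
    (h : Set.InjOn pts (Set.Iio (p + 2))) :
    swap (pts p) (pts (p + 1)) * affX pts p * (swap (pts p) (pts (p + 1)))⁻¹ = (affX pts p)⁻¹ := by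
  have e1 : pts p ≠ pts 0 := pts_ne (by omega) (by omega) (by omega) h
  have e2 : pts (p + 1) ≠ pts 0 := pts_ne (by omega) (by omega) (by omega) h
  have h12 : pts p ≠ pts (p + 1) := pts_ne (by omega) (by omega) (by omega) h
  rw [affX, conj_three, swap_apply_left, swap_apply_right, swap_apply_of_ne_of_ne e1.symm e2.symm, three_inv,
    three_rot h12.symm e2 e1, three_rot e1 h12 e2.symm]

/-- The alternating group of degree a prime plus two. -/
theorem top_alt (hp : p.Prime) (hp3 : 3 ≤ p) (hn : n = p + 2) :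
    ∃ A X : Perm (Fin n), HasPres 3 6 ![A, X, 1] (alternatingGroup (Fin n)) := by
  subst hn
  have hn0 : 0 < p + 2 := by omega
  have h := point_injOn hn0 (le_refl (p + 2))
  have hodd : Odd p := hp.odd_of_ne_two (by omega)
  obtain ⟨r, u, B, hB⟩ := exists_affMul h hp hp3
  obtain ⟨Wb, hWb, hWbB⟩ := wordsOne_onto h hp.pos (σ := 1) hB.mem
  refine ⟨affA (point hn0) p h, affX (point hn0) p, HasPres.intro _ (closure_range_even ?_ ?_)
    (affRels p u Wb ++ [FreeGroup.of 1 ^ 3, FreeGroup.of 2]) (by simp [affRels]) ?_ ?_⟩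
  · rw [← seqSet_point hn0]
    exact (wordsOne_onto h hp.pos).trans (map_wordsOne_le _)
  · intro i
    fin_cases i
    · show sign (affA (point hn0) p h) = 1
      rw [affA, sign_cyc]
      obtain ⟨t, rfl⟩ := hodd
      simp [pow_mul]
    · exact sign_three (pts_ne (by omega) (by omega) (by omega) h) (pts_ne (by omega) (by omega) (by omega) h)
    · exact map_one _
  · intro x hx
    rcases List.mem_append.1 hx with hx | hx
    · exact affRels_hold h hp.one_lt hodd hB hWbB x hx
    · simp only [List.mem_cons, List.not_mem_nil, or_false] at hx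
      rcases hx with rfl | rfl
      · rw [map_pow, FreeGroup.lift_apply_of]; exact affX_pow_three h hp.pos
      · rw [FreeGroup.lift_apply_of]; rfl
  · intro G _ q π hq hπ hr g hg
    simp only [List.forall_mem_append, List.forall_mem_cons, List.not_mem_nil, false_implies, implies_true,
      and_true] at hr
    obtain ⟨hr, hx3, hw⟩ := hr
    obtain ⟨hd, -, -, -⟩ := affine_of_rels h hp hB hWb hq hπ hr
    rw [map_pow] at hx3
    have htop : wordsOne.map q = ⊤ := by
      rw [eq_top_iff, ← hd.gen, closure_le]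
      rintro y (rfl | hy)
      · rw [hw]; exact one_mem _
      · exact hy
    have := hd.ker g (by rw [htop]; exact mem_top g) hg
    rwa [hx3, zpowers_one_eq_bot, mem_bot] at this

/-- The symmetric group of degree a prime plus two. -/
theorem top_sym (hp : p.Prime) (hp3 : 3 ≤ p) (hn : n = p + 2) :
    ∃ A X τ : Perm (Fin n), HasPres 3 7 ![A, X, τ] ⊤ ∧ Commute A τ ∧ A ^ p = 1 ∧ τ ^ 2 = 1 := by
  subst hn
  have hn0 : 0 < p + 2 := by omega
  have h := point_injOn hn0 (le_refl (p + 2))
  have hodd : Odd p := hp.odd_of_ne_two (by omega)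
  obtain ⟨r, u, B, hB⟩ := exists_affMul h hp hp3
  have h12 : point hn0 p ≠ point hn0 (p + 1) := pts_ne (by omega) (by omega) (by omega) h
  set τ : Perm (Fin (p + 2)) := swap (point hn0 p) (point hn0 (p + 1)) with hτ
  obtain ⟨Wb, hWb, hWbB⟩ := wordsOne_onto h hp.pos (σ := τ) hB.mem
  refine ⟨affA (point hn0) p h, affX (point hn0) p, τ, HasPres.intro _
    (closure_range_odd ?_ 2 (sign_swap h12))
    (affRels p u Wb ++ [FreeGroup.of 2 * FreeGroup.of 0 * (FreeGroup.of 2)⁻¹ *
      (FreeGroup.of 0 * FreeGroup.of 1 ^ 3)⁻¹, FreeGroup.of 2 * FreeGroup.of 1 * (FreeGroup.of 2)⁻¹ * FreeGroup.of 1,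
      FreeGroup.of 2 * FreeGroup.of 2]) (by simp [affRels]) ?_ ?_,
    (swap_conj_affA h).symm, cyc_pow_self _, by rw [sq, swap_mul_self]⟩
  · rw [← seqSet_point hn0]
    exact (wordsOne_onto h hp.pos).trans (map_wordsOne_le _)
  · intro x hx
    rcases List.mem_append.1 hx with hx | hx
    · exact affRels_hold h hp.one_lt hodd hB hWbB x hx
    · simp only [List.mem_cons, List.not_mem_nil, or_false] at hx
      rcases hx with rfl | rfl | rfl <;>
        simp only [map_mul, map_pow, map_inv, FreeGroup.lift_apply_of, Matrix.cons_val_zero, Matrix.cons_val_one,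
          Matrix.cons_val_two, Matrix.head_cons, Matrix.tail_cons]
      · rw [affX_pow_three h hp.pos, mul_one, (swap_conj_affA h).eq, mul_inv_cancel_right, mul_inv_cancel]
      · rw [swap_conj_affX hp.pos h, inv_mul_cancel]
      · rw [swap_mul_self]
  · intro G _ q π hq hπ hr g hg
    simp only [List.forall_mem_append, List.forall_mem_cons, List.not_mem_nil, false_implies, implies_true,
      and_true, map_mul, map_inv, map_pow] at hr
    obtain ⟨hr, hwa, hwx, hww⟩ := hr
    obtain ⟨hd, haH, hap, -⟩ := affine_of_rels h hp hB hWb hq hπ hr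
    set a := q (FreeGroup.of 0)
    set x := q (FreeGroup.of 1) with hx
    set w := q (FreeGroup.of 2) with hw
    rw [mul_inv_eq_one] at hwa
    have hwx' : w * x * w⁻¹ = x⁻¹ := eq_inv_of_mul_eq_one_left hwx
    have hc : x ^ 3 = 1 := by
      have h1 : (a * x ^ 3) ^ p = 1 := by rw [← hwa, conj_pow, hap, mul_one, mul_inv_cancel]
      rw [(hd.c_comm a haH).mul_pow, hap, one_mul] at h1
      obtain ⟨t, ht⟩ := hodd
      rwa [ht, pow_succ, pow_mul, hd.c_sq, one_pow, one_mul] at h1
    rw [hc, mul_one] at hwa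
    have hwt : ∀ i, w * translate a x i * w⁻¹ ∈ wordsOne.map q := by
      intro i
      have e : w * translate a x i * w⁻¹ = (translate a x i)⁻¹ := by
        rw [translate, show w * (a ^ i * x * (a ^ i)⁻¹) * w⁻¹ =
          (w * a * w⁻¹) ^ i * (w * x * w⁻¹) * ((w * a * w⁻¹) ^ i)⁻¹ by rw [conj_pow]; group, hwa, hwx']
        group
      rw [e]
      exact inv_mem ⟨translate (FreeGroup.of 0) (FreeGroup.of 1) i, subset_closure ⟨i, rfl⟩, map_translate q _ _ i⟩
    have hnorm : ∀ m ∈ wordsOne.map q, w * m * w⁻¹ ∈ wordsOne.map q := by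
      have hle : wordsOne.map q ≤ (wordsOne.map q).comap (MulAut.conj w).toMonoidHom := by
        rw [Subgroup.map_le_iff_le_comap, wordsOne, closure_le]
        rintro _ ⟨i, rfl⟩
        show w * q (translate _ _ i) * w⁻¹ ∈ wordsOne.map q
        rw [map_translate]
        exact hwt i
      exact fun m hm => hle hm
    rcases mem_or_mem hd.gen (wordsOne.map q) w (by rw [hww]; exact one_mem _) (fun y hy => by
      rcases hy with rfl | hy
      · right; rw [mul_inv_cancel]; exact one_mem _
      · exact Or.inl hy) hnorm g with h' | h'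
    · have := hd.ker g h' hg
      rwa [hc, zpowers_one_eq_bot, mem_bot] at this
    · exfalso
      have h2 := (mem_altOn.1 (hd.img _ h')).1
      have hπw : π w = τ := by rw [hw, ← MonoidHom.comp_apply, hπ, FreeGroup.lift_apply_of]; rfl
      rw [map_mul, hg, one_mul, map_inv, hπw, map_inv, hτ, sign_swap h12] at h2
      exact absurd h2 (by decide)

end CfsgLib.Presentations
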